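import Cfsg.Agent.H18.Nil
import Cfsg.Agent.H3.Alperin

/-! Groups whose distinct Sylow `2`-subgroups meet in abelian groups, part 1: context `Ctx`, essential subgroups
`Ess` (abelian, `N(A)/C(A)` has non-normal TI Sylow subgroups: `SC.ti`, `Far.odd`), the failure-of-factorization
lemma `ff` and Alperin's fusion theorem in the form `Ctx.alperin`. -/

set_option autoImplicit false
set_option linter.unusedSectionVars false
open Cfsg H18 Subgroup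
open scoped commutatorElement

namespace H22.AI
variable {G : Type*} [Group G]

/-- a nonabelian Sylow `2`-subgroup each of whose nonabelian subgroups lies in no other Sylow subgroup -/
structure Ctx (S : Subgroup G) : Prop where
  syl : Hall {2} S ⊤
  uq : ∀ Q ≤ S, ¬ Abel Q → ∀ g, Q ≤ cj g S → g ∈ N(S)
  na : ¬ Abel S

/-- a self-centralizing abelian subgroup of `S` -/
structure SC (S A : Subgroup G) : Prop where
  ctx : Ctx S
  le : A ≤ S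
  ab : Abel A
  sc : S ⊓ C(A) ≤ A

/-- preimage of the Sylow subgroup `N_S(A) C(A) / C(A)` -/
def PP (S A : Subgroup G) : Subgroup G := S ⊓ N(A) ⊔ C(A)

/-- `n` normalizes `A` and moves `PP S A` -/
structure Far (S A : Subgroup G) (n : G) : Prop where
  sc : SC S A
  mem : n ∈ N(A)
  far : n ∉ N(PP S A)

/-- essential subgroups -/
def Ess (S A : Subgroup G) : Prop := ∃ n, Far S A n

variable {S A B D E K Q T V Y Z : Subgroup G} {a b c e g k n r u v w x y z : G}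

theorem pow_mod (hu : u ∈ N(K)) (hc : c ∈ K) (i : ℕ) : ∃ d ∈ K, (u * c) ^ i = u ^ i * d := by
  induction i with
  | zero => exact ⟨1, K.one_mem, by simp⟩
  | succ i ih =>
    obtain ⟨d, hd, e⟩ := ih
    exact ⟨u⁻¹ * d * u * c, K.mul_mem (conj_mem_N' hu hd) hc, by rw [pow_succ, e, pow_succ]; group⟩

theorem mem_of_pows {i j : ℕ} (h1 : w ^ i ∈ K) (h2 : w ^ j ∈ K) (h : i.Coprime j) : w ∈ K := by
  have e := Nat.gcd_eq_gcd_ab i j
  rw [h.gcd_eq_one, Nat.cast_one] at e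
  have : w = (w ^ i) ^ i.gcdA j * (w ^ j) ^ i.gcdB j := by
    rw [← zpow_natCast, ← zpow_natCast, ← zpow_mul, ← zpow_mul, ← zpow_add, ← e, zpow_one]
  exact this ▸ K.mul_mem (K.zpow_mem h1 _) (K.zpow_mem h2 _)

theorem odd_of_pi (h : PiElt {2}ᶜ x) : Odd (orderOf x) :=
  Nat.not_even_iff_odd.1 fun k => (piNat_compl_iff Nat.prime_two).1 h (even_iff_two_dvd.1 k)

theorem odd_cop {m : ℕ} (h : Odd m) (i : ℕ) : m.Coprime (2 ^ i) :=
  (Nat.coprime_two_right.2 h).pow_right i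

/-- an element with an odd power fixing `v` and fixing its own commutator with `v` fixes `v` -/
theorem odd_fix {m i : ℕ} (hm : Odd m) (h1 : r ^ m * v = v * r ^ m) (h2 : r * v * r⁻¹ = z * v) (h3 : r * z = z * r)
    (h4 : z ^ 2 ^ i = 1) : z = 1 := by
  have k : ∀ j : ℕ, r ^ j * v = z ^ j * v * r ^ j := fun j => by
    induction j with
    | zero => simp
    | succ j ih =>
      have c : Commute r z := h3
      calc r ^ (j + 1) * v = r * (r ^ j * v) := by group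
        _ = (r * z ^ j) * r⁻¹ * (r * v * r⁻¹) * r ^ (j + 1) := by rw [ih]; group
        _ = _ := by rw [(c.pow_right j).eq, h2]; group
  have : z ^ m = 1 := by
    have := (k m).symm.trans h1
    rwa [mul_left_inj, mul_eq_right] at this
  exact mem_bot.1 (mem_of_pows (mem_bot.2 this) (mem_bot.2 h4) (odd_cop hm i))

theorem cm_mul_right (h : v * ⁅e, w⁆ = ⁅e, w⁆ * v) : ⁅e, v * w⁆ = ⁅e, v⁆ * ⁅e, w⁆ := by
  have : ⁅e, v * w⁆ = ⁅e, v⁆ * (v * ⁅e, w⁆) * v⁻¹ := by simp only [commutatorElement_def]; group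
  rw [this, h]; group

theorem cm_mul_left (h : e * ⁅g, v⁆ = ⁅g, v⁆ * e) : ⁅e * g, v⁆ = ⁅g, v⁆ * ⁅e, v⁆ := by
  have : ⁅e * g, v⁆ = (e * ⁅g, v⁆) * e⁻¹ * ⁅e, v⁆ := by simp only [commutatorElement_def]; group
  rw [this, h]; group

theorem cm_conj : g * ⁅e, v⁆ * g⁻¹ = ⁅g * e * g⁻¹, g * v * g⁻¹⁆ := by simp only [commutatorElement_def]; group

theorem cm_mem (he : e ∈ N(V)) (hv : v ∈ V) : ⁅e, v⁆ ∈ V := V.mul_mem (conj_mem_N he hv) (V.inv_mem hv)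

theorem cm_one : ⁅e, v⁆ = 1 ↔ e * v = v * e := commutatorElement_eq_one_iff_mul_comm

theorem mem_C_cm : e ∈ C(V) ↔ ∀ v ∈ V, ⁅e, v⁆ = 1 := by
  simp only [mem_C, cm_one, eq_comm]

theorem i2_of (h : A.relIndex B = 2) (hx : x ∈ B) (hy : y ∈ B) (h1 : x ∉ A) (h2 : y ∉ A) : x * y ∈ A := by
  have := mul_mem_iff_of_index_two (H := A.subgroupOf B) h (a := ⟨x, hx⟩) (b := ⟨y, hy⟩)
  simp only [mem_subgroupOf, coe_mul] at this
  exact this.2 (iff_of_false h1 h2)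

theorem relIndex_le_two (h : ∀ x ∈ B, ∀ y ∈ B, x ∉ A → y ∉ A → x * y ∈ A) : A.relIndex B ≤ 2 := by
  refine Nat.le_of_dvd two_pos (index_dvd_two_iff.2 ?_)
  by_cases k : ∀ x ∈ B, x ∈ A
  · exact ⟨1, fun b => .inr (k b b.2)⟩
  · push Not at k
    obtain ⟨x, hx, k⟩ := k
    exact ⟨⟨x, hx⟩, fun b => (em _).symm.imp_left fun k' => h b b.2 x hx k' k⟩

variable [Finite G]

theorem pi_pow (h : PiElt {2} x) : ∃ i, x ^ 2 ^ i = 1 :=
  have ⟨i, e⟩ := h.eq_pow (orderOf_pos x).ne'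
  ⟨i, e ▸ pow_orderOf_eq_one x⟩

theorem part_mem {i : ℕ} (h : w ^ 2 ^ i ∈ K) : piPart {2}ᶜ w ∈ K := by
  refine mem_of_pows (i := orderOf (piPart {2}ᶜ w)) (by rw [pow_orderOf_eq_one]; exact K.one_mem) ?_
    (odd_cop (odd_of_pi piElt_piPart) i)
  obtain ⟨j, e⟩ := mem_zpowers_iff.1 (piPart_mem_zpowers (π := {2}ᶜ) (x := w))
  rw [← e, ← zpow_natCast, zpow_comm, zpow_natCast]
  exact K.zpow_mem h j

theorem exists_sq {i : ℕ} (hx : x ∉ K) (h : x ^ 2 ^ i ∈ K) : ∃ j : ℕ, x ^ j ∉ K ∧ x ^ j * x ^ j ∈ K := by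
  induction i with
  | zero => exact absurd (by simpa using h) hx
  | succ i ih =>
    by_cases k : x ^ 2 ^ i ∈ K
    · exact ih k
    · exact ⟨_, k, by rwa [← pow_add, ← mul_two, ← pow_succ]⟩

/-- counting cosets through an injection -/
theorem cnt (f : G → G) (hf : ∀ e ∈ E, f e ∈ Z) (h : ∀ e ∈ E, ∀ g ∈ E, (f e)⁻¹ * f g ∈ Y → e⁻¹ * g ∈ K) :
    K.relIndex E ≤ Y.relIndex Z ∧ (Y.relIndex Z ≤ K.relIndex E → ∀ z ∈ Z, ∃ e ∈ E, (f e)⁻¹ * z ∈ Y) := by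
  let F : E ⧸ K.subgroupOf E → Z ⧸ Y.subgroupOf Z := fun q => QuotientGroup.mk ⟨f q.out, hf _ q.out.2⟩
  have i : Function.Injective F := fun p q k => by
    rw [← p.out_eq', ← q.out_eq']
    exact QuotientGroup.eq.2 (h _ p.out.2 _ q.out.2 ((QuotientGroup.eq (s := Y.subgroupOf Z)).1 k))
  refine ⟨Nat.card_le_card_of_injective F i, fun k z hz => ?_⟩
  obtain ⟨q, e⟩ := (i.bijective_of_nat_card_le k).2 (QuotientGroup.mk ⟨z, hz⟩)
  exact ⟨_, q.out.2, (QuotientGroup.eq (s := Y.subgroupOf Z)).1 e⟩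

theorem Ctx.pi (h : Ctx S) : PiGrp {2} S := h.syl.pi
theorem Ctx.pow (h : Ctx S) (hx : x ∈ S) : ∃ i, x ^ 2 ^ i = 1 := pi_pow (h.pi.elt hx)

theorem Ctx.le_of (h : Ctx S) (hQ : Q ≤ S) (na : ¬ Abel Q) (hT : PiGrp {2} T) (k : Q ≤ T) : T ≤ S := by
  obtain ⟨g, -, e⟩ := sylow_le_cj' Nat.prime_two h.syl hT le_top
  rwa [cj_eq_self (h.uq Q hQ na g (k.trans e))] at e

theorem Ctx.N_le (h : Ctx S) (hQ : Q ≤ S) (na : ¬ Abel Q) : N(Q) ≤ N(S) := fun g hg =>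
  h.uq Q hQ na g ((cj_eq_self hg).symm.trans_le (cj_mono hQ))

theorem Ctx.two_mem (h : Ctx S) (hx : x ∈ N(S)) (h2 : PiElt {2} x) : x ∈ S :=
  (h.syl.of_le le_N le_top).mem_of_nml le_rfl hx h2

theorem SC.mem (h : SC S A) (hx : x ∈ S) (hc : x ∈ C(A)) : x ∈ A := h.sc ⟨hx, hc⟩
theorem SC.comm (h : SC S A) (hx : x ∈ A) (hy : y ∈ A) : x * y = y * x := comm_of_cent h.ab hx hy
theorem SC.lt (h : SC S A) : A < S ⊓ N(A) :=
  h.ctx.pi.nil.lt_norm (h.le.lt_of_ne fun e => h.ctx.na (e ▸ h.ab))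
theorem SC.na (h : SC S A) : ¬ Abel (S ⊓ N(A)) := fun k =>
  h.lt.not_ge fun _ hx => h.mem hx.1 (C_anti h.lt.le (k hx))
theorem SC.syl (h : SC S A) : Hall {2} (S ⊓ N(A)) N(A) :=
  sylow_of_max Nat.prime_two inf_le_right h.ctx.pi.inf_left fun _ h1 h2 h3 =>
    le_inf (h.ctx.le_of inf_le_left h.na h1 h2) h3
theorem SC.eq_of_le (h : SC S A) (hB : B ≤ S) (ab : Abel B) (k : A ≤ B) : B = A :=
  le_antisymm (fun _ hx => h.mem (hB hx) (C_anti k (ab hx))) k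

/-- `A` is its own centralizer whenever this holds in its normalizer -/
theorem SC.cent (h : SC S A) (h1 : A ≤ K) (h2 : ∀ x ∈ S, x ∈ N(A) → x ∈ K → x ∈ A) (hx : x ∈ S) (hK : x ∈ K) : x ∈ A := by
  have := (h.ctx.pi.inf_left (B := K)).nil.eq_of_norm_le (le_inf h.le h1) fun y hy => h2 y hy.1.1 hy.2 hy.1.2
  rw [this]; exact ⟨hx, hK⟩

theorem SC.cj (h : SC S A) (hg : g ∈ N(S)) : SC S (cj g A) :=
  ⟨h.ctx, cj_le_of_mem_N h.le hg, h.ab.cj g, by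
    conv_lhs => rw [← cj_eq_self hg, ← cj_C, ← cj_inf]
    exact cj_mono h.sc⟩

theorem U_cj (hg : g ∈ N(S)) : cj g (S ⊓ N(A)) = S ⊓ N(cj g A) := by rw [cj_inf, cj_N, cj_eq_self hg]
theorem PP_cj (hg : g ∈ N(S)) : cj g (PP S A) = PP S (cj g A) := by rw [PP, PP, cj_sup, U_cj hg, cj_C]
theorem PP_le : PP S A ≤ N(A) := sup_le inf_le_right C_le_N
theorem C_le_PP : C(A) ≤ PP S A := le_sup_right
theorem U_le_PP : S ⊓ N(A) ≤ PP S A := le_sup_left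
theorem mem_PP : x ∈ PP S A ↔ ∃ u ∈ S ⊓ N(A), ∃ c ∈ C(A), x = u * c := mem_sup_of_norm (inf_le_right.trans N_le_N_C)
theorem N_PP (h1 : g ∈ N(S)) (h2 : g ∈ N(A)) : g ∈ N(PP S A) := mem_N_iff_cj.2 (by rw [PP_cj h1, cj_eq_self h2])

theorem Far.cj (h : Far S A n) (hg : g ∈ N(S)) : Far S (cj g A) (g * n * g⁻¹) :=
  ⟨h.sc.cj hg, by rw [← cj_N]; exact conj_mem_cj h.mem, by rw [← PP_cj hg, ← cj_N, conj_mem_cj_iff]; exact h.far⟩
theorem Ess.cj (h : Ess S A) (hg : g ∈ N(S)) : Ess S (cj g A) := h.elim fun _ k => ⟨_, k.cj hg⟩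
theorem Ess.sc (h : Ess S A) : SC S A := h.elim fun _ k => k.sc
theorem Far.inv (h : Far S A n) : Far S A n⁻¹ := ⟨h.sc, inv_mem h.mem, fun k => h.far (inv_mem_iff.1 k)⟩
theorem Far.mul (h : Far S A n) (he : e ∈ PP S A) : Far S A (e * n) :=
  ⟨h.sc, mul_mem (PP_le he) h.mem, fun k => h.far ((mul_mem_cancel_left (le_N he)).1 k)⟩

theorem SC.pow (h : SC S A) (hx : x ∈ PP S A) : ∃ i, x ^ 2 ^ i ∈ C(A) := by
  obtain ⟨u, hu, c, hc, rfl⟩ := mem_PP.1 hx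
  obtain ⟨i, e⟩ := h.ctx.pow hu.1
  obtain ⟨d, hd, e'⟩ := pow_mod (N_le_N_C hu.2) hc (2 ^ i)
  exact ⟨i, by rwa [e', e, one_mul]⟩

theorem SC.mem_PP (h : SC S A) (h1 : w ∈ N(A)) (h2 : w ∈ N(PP S A)) {i : ℕ} (h3 : w ^ 2 ^ i ∈ C(A)) : w ∈ PP S A := by
  refine mem_of_parts (π := {2}) ?_ (C_le_PP (part_mem h3))
  obtain ⟨g, hg, e⟩ := sylow_le_cj' Nat.prime_two (h.syl.of_le (K := N(A) ⊓ N(PP S A))
    (le_inf inf_le_right (le_norm U_le_PP)) inf_le_left) (piElt_piPart (x := w)).zpowers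
    (zpowers_le.2 (piPart_mem ⟨h1, h2⟩))
  exact cj_le_of_mem_N U_le_PP hg.2 (e (mem_zpowers _))

/-- the Sylow `2`-subgroups of `N(A)/C(A)` are TI -/
theorem SC.ti (h : SC S A) (hg : g ∈ N(A)) (h1 : x ∈ PP S A) (h2 : x ∈ H18.cj g (PP S A)) (h3 : x ∉ C(A)) :
    g ∈ N(PP S A) := by
  obtain ⟨i, hi⟩ := h.pow h1
  have k : piPart {2} x ∉ C(A) := fun k => h3 (mem_of_parts k (part_mem hi))
  have AP : A ≤ PP S A := h.lt.le.trans U_le_PP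
  have hQ : PiGrp {2} (A ⊔ zpowers (piPart {2} x)) :=
    (h.ctx.pi.of_le h.le).sup_norm' piElt_piPart.zpowers (zpowers_le.2 (PP_le (piPart_mem h1)))
  have s := h.syl.of_le U_le_PP PP_le
  obtain ⟨p, hp, e⟩ := sylow_le_cj Nat.prime_two s hQ (sup_le AP (zpowers_le.2 (piPart_mem h1)))
  obtain ⟨q, hq, e'⟩ := sylow_le_cj' Nat.prime_two s (hQ.cj g⁻¹) (le_cj_iff.1 (sup_le
    ((cj_eq_self hg).symm.trans_le (cj_mono AP)) (zpowers_le.2 (piPart_mem h2))))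
  have := h.ctx.uq _ (e.trans inf_le_left) (fun a => k ?_) (p * g * q) ?_
  · have := N_PP this (mul_mem (mul_mem (PP_le hp) hg) (PP_le hq))
    rwa [mul_mem_cancel_right (le_N hq), mul_mem_cancel_left (le_N hp)] at this
  · exact C_anti le_sup_left (cj_cent_iff.1 a (mem_sup_right (mem_zpowers _)))
  · rw [mul_assoc, cj_mul, cj_mul]
    exact cj_mono (le_cj_iff.2 (e'.trans (cj_mono inf_le_left)))

theorem Far.ti (h : Far S A n) (h1 : x ∈ PP S A) (h2 : n⁻¹ * x * n ∈ N(PP S A)) : x ∈ C(A) := by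
  by_contra k
  obtain ⟨i, hi⟩ := h.sc.pow h1
  refine h.far (h.sc.ti h.mem h1 (mem_cj.2 (h.sc.mem_PP (conj_mem_N' (le_N h.mem) (PP_le h1)) h2 (i := i) ?_)) k)
  have := conj_mem_N' (N_le_N_C h.mem) hi
  rwa [show n⁻¹ * x ^ 2 ^ i * n = (n⁻¹ * x * n) ^ 2 ^ i by simpa using (conj_pow (a := n⁻¹)).symm] at this

theorem Far.conj (h : Far S A n) (h1 : e ∈ PP S A) (h2 : e ∉ C(A)) : Far S A (n * e * n⁻¹) :=
  ⟨h.sc, conj_mem_N (le_N h.mem) (PP_le h1), fun k => h2 (h.inv.ti h1 (by rwa [inv_inv]))⟩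

theorem SC.odd_aux (h : SC S A) (he : e ∈ PP S A) (h1 : e ∉ C(A)) (hr : r ∈ N(A)) (h2 : e * r * e⁻¹ * r ∈ C(A))
    {j : ℕ} (h3 : r ^ j * r ^ j ∈ C(A)) : r ^ j ∈ PP S A := by
  have hw := pow_mem hr j
  refine h.mem_PP hw (h.ti hw he (mem_cj.2 ?_) h1) (i := 1) (by rwa [pow_one, sq])
  obtain ⟨d, hd, k⟩ := pow_mod (N_le_N_C (inv_mem hr)) (conj_mem_N (N_le_N_C hr) h2) j
  have : (r ^ j)⁻¹ * e * r ^ j = (r ^ j * r ^ j)⁻¹ * d * e := by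
    rw [show r⁻¹ * (r * (e * r * e⁻¹ * r) * r⁻¹) = e * r * e⁻¹ by group, conj_pow, inv_pow] at k
    rw [mul_assoc, show e * r ^ j = e * r ^ j * e⁻¹ * e by group, k]; group
  exact this ▸ mul_mem (C_le_PP (mul_mem (inv_mem h3) hd)) he

/-- involutions of distinct Sylow subgroups of `N(A)/C(A)` have products of odd order -/
theorem Far.odd (h : Far S A n) (he : e ∈ PP S A) (h1 : e ∉ C(A)) (h2 : e * e ∈ C(A)) (hg : g ∈ PP S A)
    (h3 : g ∉ C(A)) (h4 : g * g ∈ C(A)) : ∃ m, Odd m ∧ (e * (n * g * n⁻¹)) ^ m ∈ C(A) := by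
  have nC := N_le_N_C h.mem
  have k4 : n * g * n⁻¹ * (n * g * n⁻¹) ∈ C(A) := by rw [conj_mul]; exact conj_mem_N nC h4
  have eN := PP_le he
  have gN := conj_mem_N (le_N h.mem) (PP_le hg)
  set f := n * g * n⁻¹ with hf
  have key : ∀ k : ℕ, 0 < k → (e * f) ^ k ∈ C(A) → ∃ m, Odd m ∧ (e * f) ^ m ∈ C(A) := fun k => by
    induction k using Nat.strong_induction_on with
    | _ k ih =>
    intro k0 hk
    rcases k.even_or_odd with ⟨j, rfl⟩ | o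
    swap
    · exact ⟨k, o, hk⟩
    by_cases hj : (e * f) ^ j ∈ C(A)
    · exact ih j (by omega) (by omega) hj
    rw [pow_add] at hk
    have a1 := h.sc.odd_aux he h1 (mul_mem eN gN) (by
      rw [show e * (e * f) * e⁻¹ * (e * f) = e * e * (f * f) by group]; exact mul_mem h2 k4) hk
    have a2 := h.sc.odd_aux (r := n⁻¹ * (e * f) * n⁻¹⁻¹) (j := j) hg h3 (conj_mem_N (le_N (inv_mem h.mem)) (mul_mem eN gN))
      (by
        have : g * (n⁻¹ * (e * f) * n⁻¹⁻¹) * g⁻¹ * (n⁻¹ * (e * f) * n⁻¹⁻¹) = n⁻¹ * (f * (e * e) * f⁻¹ * (f * f)) * n := by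
          rw [hf]; group
        exact this ▸ conj_mem_N' nC (mul_mem (conj_mem_N (N_le_N_C gN) h2) k4))
      (by rw [conj_pow, conj_mul]; exact conj_mem_N (inv_mem nC) hk)
    rw [conj_pow, inv_inv] at a2
    exact absurd (h.ti a1 (le_N a2)) hj
  exact key _ (orderOf_pos _) (by rw [pow_orderOf_eq_one]; exact one_mem _)

/-- an element of odd order modulo `C(A)` fixing the involutions of `A` centralizes `A` -/
theorem om_fix (ab : Abel A) (hA : PiGrp {2} A) (hr : r ∈ N(A)) {m : ℕ} (hm : Odd m) (h1 : r ^ m ∈ C(A))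
    (h2 : ∀ v ∈ A, v * v = 1 → r * v = v * r) : r ∈ C(A) := by
  have : ∀ i : ℕ, ∀ v ∈ A, v ^ 2 ^ i = 1 → ⁅r, v⁆ = 1 := fun i => by
    induction i with
    | zero => intro v _ k; rw [pow_zero, pow_one] at k; simp [k]
    | succ i ih =>
      intro v hv k
      have z := cm_mem hr hv
      have e : ⁅r, v⁆ * ⁅r, v⁆ = 1 := by
        rw [← cm_mul_right (comm_of_cent ab hv z)]
        exact ih _ (mul_mem hv hv) (by rwa [← sq, ← pow_mul, ← pow_succ'])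
      exact odd_fix (i := 1) hm (mem_C.1 h1 v hv).symm (by rw [commutatorElement_def]; group) (h2 _ z e)
        (by rwa [pow_one, sq])
  exact mem_C_cm.2 fun v hv => (pi_pow (hA.elt hv)).elim fun i k => this i v hv k

/-- `Ω₁` of an abelian subgroup -/
def Om (A : Subgroup G) : Subgroup G := closure {v | v ∈ A ∧ v * v = 1}

theorem mem_Om (ab : Abel A) : v ∈ Om A ↔ v ∈ A ∧ v * v = 1 := by
  refine ⟨fun h => ?_, fun h => subset_closure h⟩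
  induction h using closure_induction with
  | mem x hx => exact hx
  | one => exact ⟨one_mem _, one_mul _⟩
  | mul x y _ _ hx hy =>
    exact ⟨mul_mem hx.1 hy.1, by rw [mul_assoc, ← mul_assoc y, comm_of_cent ab hy.1 hx.1, mul_assoc, hy.2, mul_one, hx.2]⟩
  | inv x _ hx => exact ⟨inv_mem hx.1, by rw [← mul_inv_rev, hx.2, inv_one]⟩

theorem Om_le : Om A ≤ A := (closure_le _).2 fun _ h => h.1
theorem N_Om : N(A) ≤ N(Om A) := norm_closure fun _ ha _ hb => ⟨conj_mem_N ha hb.1, by rw [conj_mul, hb.2]; group⟩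

/-- `N(A)/C(A)` acts faithfully on `Ω₁(A)` -/
theorem Ess.faith (h : Ess S A) (hx : x ∈ N(A)) (hc : x ∈ C(Om A)) : x ∈ C(A) := by
  obtain ⟨n, h⟩ := h
  have fx : ∀ r ∈ N(A), r ∈ C(Om A) → ∀ m, Odd m → r ^ m ∈ C(A) → r ∈ C(A) := fun r h1 h2 m h3 h4 =>
    om_fix h.sc.ab (h.sc.ctx.pi.of_le h.sc.le) h1 h3 h4 fun v hv k => (mem_C.1 h2 v (subset_closure ⟨hv, k⟩)).symm
  have nK := N_Om.trans (N_le_N_C (A := Om A))
  have k : ∀ u ∈ S ⊓ N(A), u ∈ C(Om A) → u ∈ C(A) := fun u hu hc => by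
    by_contra k
    obtain ⟨i, hi⟩ := h.sc.pow (U_le_PP hu)
    obtain ⟨j, k1, k2⟩ := exists_sq k hi
    have p := pow_mem (U_le_PP hu) j
    obtain ⟨m, h1, h2⟩ := h.odd p k1 k2 p k1 k2
    have := fx _ (mul_mem (PP_le p) (conj_mem_N (le_N h.mem) (PP_le p)))
      (mul_mem (pow_mem hc j) (conj_mem_N (nK h.mem) (pow_mem hc j))) m h1 h2
    exact (h.conj p k1).far (le_N ((mul_mem_cancel_left p).1 (C_le_PP this)))
  refine mem_of_parts (π := {2}) ?_ (fx _ (piPart_mem hx) (piPart_mem hc) _ (odd_of_pi piElt_piPart)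
    (by rw [pow_orderOf_eq_one]; exact one_mem _))
  obtain ⟨g, hg, e⟩ := sylow_le_cj Nat.prime_two h.sc.syl (piElt_piPart (x := x)).zpowers (zpowers_le.2 (piPart_mem hx))
  have := conj_mem_N' (N_le_N_C hg) (k _ (e (conj_mem_cj (mem_zpowers _))) (conj_mem_N (nK hg) (piPart_mem hc)))
  rwa [show g⁻¹ * (g * piPart {2} x * g⁻¹) * g = piPart {2} x by group] at this

theorem Ess.cent_om (h : Ess S A) (hx : x ∈ S) (hc : x ∈ C(Om A)) : x ∈ A :=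
  h.sc.cent (cent_mono h.sc.ab le_rfl Om_le) (fun _ h1 h2 h3 => h.sc.mem h1 (h.faith h2 h3)) hx hc

/-- a quadratic offender `E` on a faithful `N(A)/C(A)`-module `V ≤ A` -/
structure FF (S A V E : Subgroup G) : Prop where
  ess : Ess S A
  le : V ≤ A
  nm : N(A) ≤ N(V)
  fa : ∀ x ∈ N(A), x ∈ C(V) → x ∈ C(A)
  EP : E ≤ PP S A
  nE : ¬ E ≤ C(A)
  quad : ∀ e ∈ E, ∀ v ∈ V, ⁅e, v⁆ ∈ C(E)
  off : (V ⊓ C(E)).relIndex V ≤ C(A).relIndex E

namespace FF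
variable (h : FF S A V E)
include h

theorem comm (hx : x ∈ V) (hy : y ∈ V) : x * y = y * x := h.ess.sc.comm (h.le hx) (h.le hy)
theorem EN (he : e ∈ E) : e ∈ N(V) := h.nm (PP_le (h.EP he))
theorem cmZ (he : e ∈ E) (hv : v ∈ V) : ⁅e, v⁆ ∈ V ⊓ C(E) := ⟨cm_mem (h.EN he) hv, h.quad e he v hv⟩
theorem cjV (hk : k ∈ N(A)) : cj k (V ⊓ C(E)) ≤ V := cj_le_of_mem_N inf_le_left (h.nm hk)
theorem cm_mul (he : e ∈ N(V)) (hv : v ∈ V) (hw : w ∈ V) : ⁅e, v * w⁆ = ⁅e, v⁆ * ⁅e, w⁆ :=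
  cm_mul_right (h.comm hv (cm_mem he hw))
theorem exists_inv : ∃ e ∈ E, e ∉ C(A) ∧ e * e ∈ C(A) := by
  obtain ⟨e, he, k⟩ := SetLike.not_le_iff_exists.1 h.nE
  obtain ⟨i, hi⟩ := h.ess.sc.pow (h.EP he)
  obtain ⟨j, k1, k2⟩ := exists_sq k hi
  exact ⟨_, pow_mem he j, k1, k2⟩

theorem ne (hk : Far S A k) : ¬ cj k (V ⊓ C(E)) ≤ V ⊓ C(E) := fun q => by
  have q := eq_of_card_ge q card_cj.ge
  obtain ⟨e, he, h1, h2⟩ := h.exists_inv
  have p := h.EP he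
  obtain ⟨m, o, hm⟩ := hk.odd p h1 h2 p h1 h2
  have fN := h.nm (conj_mem_N (le_N hk.mem) (PP_le p))
  have cZ : ∀ z ∈ V ⊓ C(E), e * z = z * e ∧ k * e * k⁻¹ * z = z * (k * e * k⁻¹) := fun z hz =>
    ⟨mem_C.1 hz.2 e he, by
      obtain ⟨y, hy, rfl⟩ := mem_cj'.1 (q.ge hz)
      rw [conj_mul, conj_mul, mem_C.1 hy.2 e he]⟩
  refine (hk.conj p h1).far (le_N ((mul_mem_cancel_left p).1 (C_le_PP (h.fa _ (mul_mem (PP_le p)
    (conj_mem_N (le_N hk.mem) (PP_le p))) (mem_C_cm.2 fun v hv => ?_)))))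
  have a : ⁅k * e * k⁻¹, v⁆ ∈ V ⊓ C(E) := q.le (by
    have := conj_mem_cj (g := k) (h.cmZ he (conj_mem_N' (h.nm hk.mem) hv))
    rwa [cm_conj, show k * (k⁻¹ * v * k) * k⁻¹ = v by group] at this)
  have b : ⁅e * (k * e * k⁻¹), v⁆ ∈ V ⊓ C(E) := by rw [cm_mul_left (cZ _ a).1]; exact mul_mem a (h.cmZ he hv)
  obtain ⟨i, hi⟩ := h.ess.sc.ctx.pow (h.ess.sc.le (h.le b.1))
  refine odd_fix o (mem_C.1 hm v (h.le hv)).symm (by rw [commutatorElement_def]; group) ?_ hi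
  rw [mul_assoc, (cZ _ b).2, ← mul_assoc, (cZ _ b).1, mul_assoc]

theorem key (hk : Far S A k) (mx : ∀ j, Far S A j → Nat.card (V ⊓ C(E) ⊓ cj j (V ⊓ C(E)) : Subgroup G) ≤
    Nat.card (V ⊓ C(E) ⊓ cj k (V ⊓ C(E)) : Subgroup G)) (hx : x ∈ cj k (V ⊓ C(E))) (hn : x ∉ V ⊓ C(E)) (he : e ∈ E)
    (hc : ⁅e, x⁆ ∈ cj k (V ⊓ C(E))) : e ∈ C(A) := by
  refine inv_mem_iff.1 (hk.ti (inv_mem (h.EP he)) ?_)
  by_contra q
  have := mx _ ⟨hk.sc, conj_mem_N' (le_N hk.mem) (inv_mem (PP_le (h.EP he))), q⟩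
  refine (card_lt ((left_lt_sup (a := V ⊓ C(E) ⊓ cj k (V ⊓ C(E))) (b := zpowers x)).2 fun r =>
    hn (r (mem_zpowers x)).1)).not_ge (le_trans ?_ this)
  rw [← card_cj (g := k⁻¹)]
  refine card_le (le_inf (le_cj_iff.1 (sup_le inf_le_right (zpowers_le.2 hx))) ?_)
  rw [mul_assoc, cj_mul, cj_mul]
  refine cj_mono (sup_le (fun y hy => mem_cj.2 ?_) (zpowers_le.2 (mem_cj.2 ?_)))
  · rw [inv_inv, mem_C.1 hy.1.2 e he, mul_inv_cancel_right]; exact hy.2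
  · rw [inv_inv, show e * x * e⁻¹ = ⁅e, x⁆ * x by rw [commutatorElement_def]; group]; exact mul_mem hc hx

theorem cnt' (hk : Far S A k) (mx : ∀ j, Far S A j → Nat.card (V ⊓ C(E) ⊓ cj j (V ⊓ C(E)) : Subgroup G) ≤
    Nat.card (V ⊓ C(E) ⊓ cj k (V ⊓ C(E)) : Subgroup G)) (hx : x ∈ cj k (V ⊓ C(E))) (hn : x ∉ V ⊓ C(E)) :
    C(A).relIndex E ≤ (V ⊓ C(E) ⊓ cj k (V ⊓ C(E))).relIndex (V ⊓ C(E)) ∧
    ((V ⊓ C(E) ⊓ cj k (V ⊓ C(E))).relIndex (V ⊓ C(E)) ≤ C(A).relIndex E →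
      ∀ z ∈ V ⊓ C(E), ∃ e ∈ E, ⁅e, x⁆⁻¹ * z ∈ V ⊓ C(E) ⊓ cj k (V ⊓ C(E))) := by
  have hv := h.cjV hk.mem hx
  refine cnt (fun e => ⁅e, x⁆) (fun e he => h.cmZ he hv) fun e he g hg q => ?_
  have p := mul_mem (inv_mem he) hg
  refine h.key hk mx hx hn p ?_
  have := cm_mul_left (mem_C.1 (h.quad _ p x hv) e he)
  rw [mul_inv_cancel_left, h.comm (h.cmZ p hv).1 (h.cmZ he hv).1] at this
  simp only [this, inv_mul_cancel_left] at q
  exact q.2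

theorem main (hk : Far S A k) : (∀ j, Far S A j → Nat.card (V ⊓ C(E) ⊓ cj j (V ⊓ C(E)) : Subgroup G) ≤
    Nat.card (V ⊓ C(E) ⊓ cj k (V ⊓ C(E)) : Subgroup G)) ∧
    (V ⊓ C(E) ⊓ cj k (V ⊓ C(E))).relIndex (V ⊓ C(E)) = C(A).relIndex E ∧
    (V ⊓ C(E)).relIndex V = C(A).relIndex E ∧ V ≤ V ⊓ C(E) ⊔ cj k (V ⊓ C(E)) := by
  obtain ⟨_, ⟨n, hn, rfl⟩, mx⟩ := exists_max_card (fun Y => ∃ j, Far S A j ∧ Y = V ⊓ C(E) ⊓ cj j (V ⊓ C(E))) ⟨k, hk, rfl⟩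
  replace mx := fun j hj => mx _ ⟨j, hj, rfl⟩
  obtain ⟨x, hx, hx'⟩ := SetLike.not_le_iff_exists.1 (h.ne hn)
  have a1 := (h.cnt' hn mx hx hx').1
  have a2 := h.off
  have b := card_mul_relIndex (inf_le_left : V ⊓ C(E) ≤ V)
  have c : ∀ j, Far S A j → (V ⊓ C(E) ⊓ cj j (V ⊓ C(E))).relIndex (V ⊓ C(E)) ≤ (V ⊓ C(E)).relIndex V := fun j hj => by
    have := card_mul_le (inf_le_left : V ⊓ C(E) ≤ V) (h.cjV hj.mem)
    rw [card_cj, ← b, mul_left_comm] at this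
    exact Nat.le_of_mul_le_mul_left ((card_mul_relIndex inf_le_left).trans_le
      (Nat.le_of_mul_le_mul_left this card_pos')) card_pos'
  have d := fun j => card_mul_relIndex (inf_le_left : V ⊓ C(E) ⊓ cj j (V ⊓ C(E)) ≤ _)
  have c1 := c n hn
  have c2 := c k hk
  have e : Nat.card (V ⊓ C(E) ⊓ cj n (V ⊓ C(E)) : Subgroup G) ≤ Nat.card (V ⊓ C(E) ⊓ cj k (V ⊓ C(E)) : Subgroup G) :=
    Nat.le_of_mul_le_mul_right ((d n).trans_le ((d k).ge.trans (Nat.mul_le_mul_left _ (by omega)))) relIndex_pos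
  have e' := (mx k hk).antisymm e
  have f : (V ⊓ C(E) ⊓ cj k (V ⊓ C(E))).relIndex (V ⊓ C(E)) = C(A).relIndex E := by
    have := (d k).trans (d n).symm
    rw [e'] at this
    have := Nat.eq_of_mul_eq_mul_left card_pos' this
    omega
  refine ⟨fun j hj => (mx j hj).trans e, f, by omega, (eq_of_card_ge (sup_le inf_le_left (h.cjV hk.mem)) ?_).ge⟩
  have := Nrm2.card_sup (A := V ⊓ C(E)) (B := cj k (V ⊓ C(E))) (.inl fun y hy => C_le_N (mem_C.2 fun z hz =>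
    h.comm (h.cjV hk.mem hz) hy.1))
  rw [card_cj] at this
  refine Nat.le_of_mul_le_mul_right (c := Nat.card (V ⊓ C(E) ⊓ cj k (V ⊓ C(E)) : Subgroup G)) ?_ card_pos'
  rw [this, ← b, mul_assoc, mul_comm (relIndex _ _), show (V ⊓ C(E)).relIndex V = _ from (by omega : _ =
    (V ⊓ C(E) ⊓ cj k (V ⊓ C(E))).relIndex (V ⊓ C(E))), d k]

theorem idx : (V ⊓ C(E)).relIndex V = C(A).relIndex E := h.ess.elim fun _ k => (h.main k).2.2.1

theorem dec (hk : Far S A k) (hv : v ∈ V) : ∃ z ∈ V ⊓ C(E), ∃ x ∈ cj k (V ⊓ C(E)), v = z * x :=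
  (mem_sup_of_cent (A := V ⊓ C(E)) fun _ hy => mem_C.2 fun _ hz => h.comm (h.cjV hk.mem hz) hy.1).1 ((h.main hk).2.2.2 hv)

theorem c4 (hk : Far S A k) (hv : v ∈ V) (hn : v ∉ C(E)) (he : e ∈ E) (hc : ⁅e, v⁆ ∈ cj k (V ⊓ C(E))) : e ∈ C(A) := by
  obtain ⟨z, hz, x, hx, rfl⟩ := h.dec hk hv
  rw [h.cm_mul (h.EN he) hz.1 (h.cjV hk.mem hx), cm_one.2 (mem_C.1 hz.2 e he), one_mul] at hc
  exact h.key hk (h.main hk).1 hx (fun q => hn (mul_mem hz.2 q.2)) he hc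

theorem c3 (hv : v ∈ V) (hn : v ∉ C(E)) (he : e ∈ E) (hc : e * v = v * e) : e ∈ C(A) :=
  h.ess.elim fun _ k => h.c4 k hv hn he (by rw [cm_one.2 hc]; exact one_mem _)

theorem cover (hk : Far S A k) (hv : v ∈ V) (hn : v ∉ C(E)) : ∃ e ∈ E, v ∈ cj (e * k) (V ⊓ C(E)) := by
  obtain ⟨z, hz, x, hx, rfl⟩ := h.dec hk hv
  obtain ⟨e, he, q⟩ := (h.cnt' hk (h.main hk).1 hx fun q => hn (mul_mem hz.2 q.2)).2 (h.main hk).2.1.le z hz
  refine ⟨e, he, ?_⟩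
  rw [cj_mul]
  convert conj_mem_cj (g := e) (mul_mem q.2 hx) using 1
  have := h.comm q.1.1 (h.cmZ he (h.cjV hk.mem hx)).1
  rw [← conj_mul, mem_C.1 q.1.2 e he, mul_inv_cancel_right,
    show e * x * e⁻¹ = ⁅e, x⁆ * x by rw [commutatorElement_def]; group, ← mul_assoc, this]
  group

theorem sq (hg : g ∈ N(A)) (hv : v ∈ V) : v * v ∈ cj g (V ⊓ C(E)) := by
  obtain ⟨e, he, h1, h2⟩ := h.exists_inv
  have hw := conj_mem_N' (h.nm hg) hv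
  rw [mem_cj, show g⁻¹ * (v * v) * g = g⁻¹ * v * g * (g⁻¹ * v * g) by group]
  refine ⟨mul_mem hw hw, by_contra fun q => h1 (h.c3 (mul_mem hw hw) q he (cm_one.1 ?_))⟩
  rw [h.cm_mul (h.EN he) hw hw, ← cm_mul_left (mem_C.1 (h.quad e he _ hw) e he)]
  exact mem_C_cm.1 h2 _ (h.le hw)

theorem sq' (hv : v ∈ V) : ∃ z ∈ V ⊓ C(E), v * v = z * z := by
  by_cases hn : v ∈ C(E)
  · exact ⟨v, ⟨hv, hn⟩, rfl⟩
  obtain ⟨n, hn'⟩ := h.ess
  obtain ⟨f, hf, h1, -⟩ := h.exists_inv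
  obtain ⟨e, he, q⟩ := h.cover (hn'.conj (h.EP hf) h1) hv hn
  obtain ⟨z, hz, rfl⟩ := mem_cj'.1 q
  refine ⟨z, hz, ?_⟩
  obtain ⟨y, hy, q⟩ := mem_cj'.1 (h.sq hn'.mem hz.1)
  rw [conj_mul, mul_inv_eq_iff_eq_mul, mul_assoc, q, conj_mul, mem_C.1 hy.2 f hf, ← conj_mul, ← q, ← mul_assoc,
    mem_C.1 (mul_mem hz.2 hz.2) e he, mul_assoc]

/-- `E` is transitive on the other Sylow subgroups -/
theorem three (hn : Far S A n) (hk : Far S A k) : ∃ e ∈ E, k⁻¹ * e * n ∈ N(PP S A) := by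
  obtain ⟨f, hf, h1, -⟩ := h.exists_inv
  obtain ⟨x, hx, hx'⟩ := SetLike.not_le_iff_exists.1 (h.ne hk.inv)
  have hv := h.cjV hk.inv.mem hx
  have q : x ∉ C(E) := fun q => hx' ⟨hv, q⟩
  obtain ⟨e, he, r⟩ := h.cover hn (conj_mem_N (h.nm hk.mem) (h.cmZ hf hv).1) fun r => h1 (h.c4 hk.inv hv q hf
    (mem_cj.2 (by rw [inv_inv]; exact ⟨conj_mem_N (h.nm hk.mem) (h.cmZ hf hv).1, r⟩)))
  refine ⟨e, he, by_contra fun s => h1 (h.c4 ⟨hk.sc, mul_mem (mul_mem hk.inv.mem (PP_le (h.EP he))) hn.mem, s⟩ hv q hf ?_)⟩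
  rw [mul_assoc, cj_mul, mem_cj, inv_inv]
  exact r

theorem syl (hu : u ∈ PP S A) : ∃ e ∈ E, u⁻¹ * e ∈ C(A) := by
  obtain ⟨n, hn⟩ := h.ess
  obtain ⟨e, he, q⟩ := h.three hn (hn.mul hu)
  exact ⟨e, he, hn.ti (mul_mem (inv_mem hu) (h.EP he)) (by rwa [mul_inv_rev, mul_assoc n⁻¹] at q)⟩

end FF

/-- Alperin's fusion theorem: fusion is generated by `N(S)`, centralizers and the conjugates of `N_S(A)` in `N(A)`,
`A` essential -/
theorem Ctx.alperin (h : Ctx S) (R : Subgroup G → G → Prop) (mono : ∀ A B g, A ≤ B → R B g → R A g)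
    (comp : ∀ A B g h, (∀ a ∈ A, g⁻¹ * a * g ∈ B) → R A g → R B h → R A (g * h))
    (h1 : ∀ g ∈ N(S), R S g) (h2 : ∀ D ≤ S, ∀ c ∈ C(D), R D c)
    (h3 : ∀ A, Ess S A → ∀ n ∈ N(A), ∀ u ∈ S ⊓ N(A), R A (n * u * n⁻¹))
    (hA : A ≤ S) (hg : ∀ a ∈ A, g⁻¹ * a * g ∈ S) : R A g := by
  have := Fact.mk Nat.prime_two
  obtain ⟨P, rfl⟩ := h.syl.exists_sylow_top Nat.prime_two
  refine H3.alperin_induction_aux P R mono comp (fun D hD s ih x hx => ?_) A hA g hg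
  have s : Hall {2} (↑P ⊓ N(D)) N(D) := ⟨s.le, h.pi.inf_left, (piNat_compl_iff Nat.prime_two).2 s.not_dvd⟩
  have cp : ∀ a ∈ N(D), ∀ b, R D a → R D b → R D (a * b) := fun a ha b => comp D D a b fun y hy => conj_mem_N' ha hy
  have r1 := fun g hg => mono _ _ g hD (h1 g hg)
  by_cases ab : Abel D
  swap
  · exact r1 x (h.N_le hD ab hx)
  by_cases sc : ↑P ⊓ C(D) ≤ D
  swap
  · have s' := s.inf_nml nml_C_N
    rw [inf_assoc, inf_of_le_right C_le_N] at s'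
    obtain ⟨c, hc, m, hm, rfl⟩ := frattini_elt Nat.prime_two s' (N_le_N_C hx)
    have l : D < ↑P ⊓ C(D) := lt_of_le_not_ge (le_inf hD ab) sc
    exact cp c (C_le_N hc) m (h2 D hD c hc) (mono _ _ _ l.le
      (ih _ inf_le_left (card_lt l) m fun a ha => (conj_mem_N' hm ha).1))
  have sc : SC (↑P) D := ⟨h, hD, ab, sc⟩
  have k : ∀ n ∈ N(D), ∀ u ∈ ↑P ⊓ N(D), R D (n * u * n⁻¹) := fun n hn u hu => by
    by_cases q : n ∈ N(PP (↑P) D)
    · obtain ⟨v, hv, c, hc, e⟩ := mem_PP.1 (conj_mem_N q (U_le_PP hu))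
      exact e ▸ cp v hv.2 c (r1 v (le_N hv.1)) (h2 D hD c hc)
    · exact h3 D ⟨n, sc, hn, q⟩ n hn u hu
  have l : closure {y | ∃ n ∈ N(D), ∃ u ∈ ↑P ⊓ N(D), y = n * u * n⁻¹} ≤ N(D) := (closure_le _).2 <| by
    rintro _ ⟨n, hn, u, hu, rfl⟩; exact conj_mem_N (le_N hn) hu.2
  obtain ⟨c, hc, m, hm, rfl⟩ := frattini_elt Nat.prime_two (s.of_le (fun u hu => Subgroup.subset_closure (by
    exact ⟨1, one_mem _, u, hu, by group⟩)) l) (norm_closure (H := N(D)) (by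
      rintro a ha _ ⟨n, hn, u, hu, rfl⟩; exact ⟨a * n, mul_mem ha hn, u, hu, by group⟩) hx)
  refine cp c (l hc) m ?_ (r1 m (h.N_le inf_le_left sc.na hm))
  clear hx
  induction hc using closure_induction'' with
  | mem y hy => obtain ⟨n, hn, u, hu, rfl⟩ := hy; exact k n hn u hu
  | inv_mem y hy => obtain ⟨n, hn, u, hu, rfl⟩ := hy; rw [conj_inv]; exact k n hn _ (inv_mem hu)
  | one => exact r1 1 (one_mem _)
  | mul y z hy _ a b => exact cp y (l hy) z a b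

end H22.AI
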