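import Cfsg.Agent.H22.AI1

/-! Groups with abelian Sylow `2`-intersections, part 2: an involution `a` of a `2`-group `S` commuting with only one
other conjugate `z a` (`Inv`) has its conjugates as the reflections of a normal dihedral subgroup (`Inv.dih`);
essential subgroups `A` with `|N_S(A) : A| = 2` and `|[A, N_S(A)]| = 2` (`Q2`, `EI`). -/

set_option autoImplicit false
set_option linter.unusedSectionVars false
open Cfsg H18 Subgroup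
open scoped commutatorElement

namespace H22.AI
variable {G : Type*} [Group G] {S A B K M : Subgroup G} {a b c d e g k n s t u v w x y z : G}

theorem cm_eq : t * a * t⁻¹ = ⁅t, a⁆ * a := by rw [commutatorElement_def]; group
theorem cm_ml : ⁅t * s, a⁆ = t * ⁅s, a⁆ * t⁻¹ * ⁅t, a⁆ := by simp only [commutatorElement_def]; group
theorem inv_cm (h : x * x = 1) : x * ⁅x, y⁆ * x⁻¹ = ⁅x, y⁆⁻¹ := by
  have : x * ⁅x, y⁆ * x⁻¹ = x * x * y * x * (x * x)⁻¹ * y⁻¹ * x⁻¹ := by rw [commutatorElement_def]; group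
  rw [this, h, commutatorElement_def, inv_eq_of_mul_eq_one_right h]; group
  rw [zpow_neg_one x, inv_eq_of_mul_eq_one_right h]
theorem inv_cm' (h : a * a = 1) : a * ⁅t, a⁆ * a⁻¹ = ⁅t, a⁆⁻¹ := by
  rw [← commutatorElement_inv a, ← conj_inv, inv_cm h]
theorem cm_sq (hx : x * x = 1) (h : a * a = 1) : ⁅x, a⁆ = x * a * (x * a) := by
  rw [commutatorElement_def, inv_eq_of_mul_eq_one_right h, inv_eq_of_mul_eq_one_right hx, ← mul_assoc]
theorem sq_mul (h : x * y = y * x) : x * y * (x * y) = x * x * (y * y) := by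
  rw [mul_assoc, ← mul_assoc y, ← h]; group
theorem zp_comm (hx : x ∈ zpowers c) (hy : y ∈ zpowers c) : x * y = y * x := comm_of_cent abel_zpowers hx hy
theorem zp_half (h : d ∈ zpowers (c * c)) : ∃ e ∈ zpowers c, d = e * e := by
  obtain ⟨i, rfl⟩ := mem_zpowers_iff.1 h
  exact ⟨c ^ i, zpow_mem (mem_zpowers c) i, (Commute.refl c).mul_zpow i⟩
theorem zp_sq (h : d ∈ zpowers c) : d * d ∈ zpowers (c * c) := by
  obtain ⟨i, rfl⟩ := mem_zpowers_iff.1 h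
  rw [← (Commute.refl c).mul_zpow]; exact zpow_mem (mem_zpowers _) i
theorem zp_le : zpowers (c * c) ≤ zpowers c := zpowers_le.2 (mul_mem (mem_zpowers c) (mem_zpowers c))
theorem zp_or (h : d ∈ zpowers c) : d ∈ zpowers (c * c) ∨ c⁻¹ * d ∈ zpowers (c * c) := by
  obtain ⟨i, rfl⟩ := mem_zpowers_iff.1 h
  rcases i.even_or_odd' with ⟨j, rfl | rfl⟩
  · exact .inl ⟨j, by simp only [← zpow_two, ← zpow_mul]⟩
  · exact .inr ⟨j, by simp only [← zpow_two, ← zpow_mul]; group⟩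
theorem zp_i2 (hx : x ∈ zpowers c) (hy : y ∈ zpowers c) (h1 : x ∉ zpowers (c * c)) (h2 : y ∉ zpowers (c * c)) :
    x * y ∈ zpowers (c * c) := by
  have := mul_mem (mul_mem (mem_zpowers (c * c)) ((zp_or hx).resolve_left h1)) ((zp_or hy).resolve_left h2)
  rwa [show c * c * (c⁻¹ * x) * (c⁻¹ * y) = c * x * c⁻¹ * y by group, zp_comm (mem_zpowers c) hx,
    mul_inv_cancel_right] at this
theorem zp_inv (h : x * c * x⁻¹ = c⁻¹) (hd : d ∈ zpowers c) : x * d * x⁻¹ = d⁻¹ := by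
  obtain ⟨i, rfl⟩ := mem_zpowers_iff.1 hd
  rw [← conj_zpow, h, inv_zpow]

/-- the elements normalizing `K` and `K a` -/
def Sub (K : Subgroup G) (a : G) : Subgroup G where
  carrier := {t | t ∈ N(K) ∧ ⁅t, a⁆ ∈ K}
  one_mem' := ⟨one_mem _, by simp⟩
  mul_mem' h k := ⟨mul_mem h.1 k.1, by rw [cm_ml]; exact mul_mem (conj_mem_N h.1 k.2) h.2⟩
  inv_mem' {t} h := ⟨inv_mem h.1, by
    rw [show ⁅t⁻¹, a⁆ = t⁻¹ * ⁅t, a⁆⁻¹ * t by simp only [commutatorElement_def]; group]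
    exact conj_mem_N' h.1 (inv_mem h.2)⟩

theorem norm_i2 [Finite G] (h : M ≤ S) (i2 : ∀ x ∈ S, ∀ y ∈ S, x ∉ M → y ∉ M → x * y ∈ M) : S ≤ N(M) := fun t ht =>
  (em (t ∈ M)).elim (fun k => le_N k) fun k => mem_N_of_finite fun _ hy => i2 _ (mul_mem ht (h hy)) _ (inv_mem ht)
    (fun q => k ((mul_mem_cancel_right hy).1 q)) fun q => k (inv_mem_iff.1 q)

variable [Finite G]

theorem zp_nat (h : d ∈ zpowers c) : ∃ i : ℕ, c ^ i = d := mem_powers_iff_mem_zpowers.2 h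

theorem zp_gen (hc : PiElt {2} c) (h : d ∈ zpowers c) (hn : d ∉ zpowers (c * c)) : c ∈ zpowers d := by
  obtain ⟨i, rfl⟩ := zp_nat h
  obtain ⟨j, e⟩ := pi_pow hc
  refine mem_of_pows (mem_zpowers _) (e ▸ one_mem _) (odd_cop (Nat.not_even_iff_odd.1 ?_) j)
  rintro ⟨k, rfl⟩
  exact hn (pow_add c k k ▸ zp_sq (pow_mem (mem_zpowers c) k))

theorem zp_nsq (hc : PiElt {2} c) (h : c ≠ 1) : c ∉ zpowers (c * c) := fun k => by
  obtain ⟨i, e⟩ := zp_nat k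
  obtain ⟨j, e'⟩ := pi_pow hc
  rcases i with _ | i
  · exact h (by simpa using e.symm)
  have : c ^ (2 * i + 1) = 1 := by
    rw [← sq, ← pow_mul, show 2 * (i + 1) = 2 * i + 1 + 1 by ring, pow_succ, mul_eq_right] at e; exact e
  exact h (mem_bot.1 (mem_of_pows (mem_bot.2 this) (mem_bot.2 e') (odd_cop ⟨i, rfl⟩ j)))

theorem zp_uniq (hx : x ∈ zpowers c) (hy : y ∈ zpowers c) (h1 : x * x = 1) (h2 : y * y = 1) (h3 : x ≠ 1) (h4 : y ≠ 1) :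
    x = y := by
  have : ∀ x ∈ zpowers c, x * x = 1 → x ≠ 1 → x = c ^ (orderOf c / 2) := fun x hx h1 h3 => by
    obtain ⟨i, rfl⟩ := zp_nat hx
    rw [← pow_mod_orderOf] at h1 h3 ⊢
    have l := Nat.mod_lt i (orderOf_pos c)
    generalize i % orderOf c = m at *
    obtain ⟨k, e⟩ := orderOf_dvd_of_pow_eq_one ((pow_add c m m).trans h1)
    have m0 : m ≠ 0 := by rintro rfl; exact h3 (pow_zero c)
    obtain rfl : k = 1 := by
      rcases k with _ | _ | k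
      · omega
      · rfl
      · nlinarith
    congr 1; omega
  rw [this x hx h1 h3, this y hy h2 h4]

theorem exists_four (hc : PiElt {2} c) (h : c * c ≠ 1) : ∃ w ∈ zpowers c, w * w ≠ 1 ∧ w * w * (w * w) = 1 := by
  obtain ⟨i, e⟩ := pi_pow (hc.mul' hc rfl)
  obtain ⟨j, h1, h2⟩ := exists_sq (K := ⊥) (fun k => h (mem_bot.1 k)) (mem_bot.2 e)
  rw [(Commute.refl c).mul_pow, mem_bot] at h1 h2
  exact ⟨_, pow_mem (mem_zpowers c) j, h1, h2⟩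

/-- an involution `a` of a `2`-group commuting only with its conjugates `a`, `z a` -/
structure Inv (S : Subgroup G) (z a : G) : Prop where
  pi : PiGrp {2} S
  aS : a ∈ S
  a2 : a * a = 1
  z1 : z ≠ 1
  c0 : ∀ t ∈ S, ⁅t, a⁆ * ⁅t, a⁆ = 1 → t * z * t⁻¹ = z
  c1 : ∀ t ∈ S, ⁅t, a⁆ * ⁅t, a⁆ = 1 → ⁅t, a⁆ = 1 ∨ ⁅t, a⁆ = z
  c2 : ∀ u ∈ S, ∀ v ∈ S, u * u = 1 → v * v = 1 → ⁅u, a⁆ = z → ⁅v, a⁆ = z → u * v = v * u

theorem cm_of_inv (h : a * w * a⁻¹ = w⁻¹) : ⁅w, a⁆ = w * w := by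
  rw [show ⁅w, a⁆ = w * (a * w * a⁻¹)⁻¹ by rw [commutatorElement_def]; group, h, inv_inv]

theorem Inv.om (h : Inv S z a) (hw : w ∈ S) (h1 : a * w * a⁻¹ = w⁻¹) (h2 : w * w ≠ 1) (h3 : w * w * (w * w) = 1) :
    w * w = z := by
  have := h.c1 w hw
  rw [cm_of_inv h1] at this
  exact (this h3).resolve_left h2

theorem Inv.central (h : Inv S z a) (ht : t ∈ S) : t * z * t⁻¹ = z := by
  by_cases k : ⁅t, a⁆ * ⁅t, a⁆ = 1
  · exact h.c0 t ht k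
  have hc := S.mul_mem (S.mul_mem (S.mul_mem ht h.aS) (S.inv_mem ht)) (S.inv_mem h.aS)
  rw [← commutatorElement_def] at hc
  obtain ⟨w, hw, h1, h2⟩ := exists_four (h.pi.elt hc) k
  have wS := zpowers_le.2 hc hw
  have e := h.om wS (zp_inv (inv_cm' h.a2) hw) h1 h2
  have i : t * a * t⁻¹ * ⁅t, a⁆ * (t * a * t⁻¹)⁻¹ = ⁅t, a⁆⁻¹ := by
    rw [cm_eq (t := t), show ⁅t, a⁆ * a * ⁅t, a⁆ * (⁅t, a⁆ * a)⁻¹ = ⁅t, a⁆ * (a * ⁅t, a⁆ * a⁻¹) * ⁅t, a⁆⁻¹ by group,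
      inv_cm' h.a2]; group
  have e' := h.om (w := t⁻¹ * w * t) (conj_mem_N' (le_N ht) wS) (by
    rw [show a * (t⁻¹ * w * t) * a⁻¹ = t⁻¹ * (t * a * t⁻¹ * w * (t * a * t⁻¹)⁻¹) * t by group, zp_inv i hw]; group)
    (fun q => h1 (by rw [show w * w = t * (t⁻¹ * w * t * (t⁻¹ * w * t)) * t⁻¹ by group, q]; group))
    (by rw [show t⁻¹ * w * t * (t⁻¹ * w * t) * (t⁻¹ * w * t * (t⁻¹ * w * t)) = t⁻¹ * (w * w * (w * w)) * t by group, h2]; group)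
  calc t * z * t⁻¹ = t * (t⁻¹ * w * t * (t⁻¹ * w * t)) * t⁻¹ := by rw [e']
    _ = z := by rw [← e]; group

theorem Inv.comm (h : Inv S z a) (ht : t ∈ S) : t * z = z * t := mul_inv_eq_iff_eq_mul.1 (h.central ht)

theorem Inv.cj (h : Inv S z a) (ht : t ∈ S) : Inv S z (t * a * t⁻¹) := by
  have e : ∀ s, ⁅s, t * a * t⁻¹⁆ = t * ⁅t⁻¹ * s * t, a⁆ * t⁻¹ := fun s => by simp only [commutatorElement_def]; group
  have m : ∀ s ∈ S, t⁻¹ * s * t ∈ S := fun s hs => conj_mem_N' (le_N ht) hs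
  have z' : ∀ s, t * s * t⁻¹ = z ↔ s = z := fun s => by
    conv_lhs => rw [← h.central ht]
    simp
  refine ⟨h.pi, conj_mem_N (le_N ht) h.aS, by rw [conj_mul, h.a2]; group, h.z1, fun s hs _ => h.central hs,
    fun s hs => ?_, fun u hu v hv h1 h2 h3 h4 => ?_⟩
  · rw [e, conj_mul, conj_eq_one_iff', conj_eq_one_iff', z']; exact h.c1 _ (m s hs)
  · rw [e, z'] at h3 h4
    have := h.c2 _ (m u hu) _ (m v hv) (by rw [show t⁻¹ * u * t * (t⁻¹ * u * t) = t⁻¹ * (u * u) * t by group, h1]; group)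
      (by rw [show t⁻¹ * v * t * (t⁻¹ * v * t) = t⁻¹ * (v * v) * t by group, h2]; group) h3 h4
    simp only [← mul_assoc, mul_inv_cancel_right, mul_left_inj] at this
    simpa [mul_assoc] using this

/-- the dihedral group generated by `a` and a non-commuting conjugate `c a` -/
structure Dih0 (S : Subgroup G) (z a c : G) : Prop where
  inv : Inv S z a
  ex : ∃ s ∈ S, c = ⁅s, a⁆
  c2 : c * c ≠ 1

namespace Dih0
variable (h : Dih0 S z a c)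
include h
theorem cS : c ∈ S := by
  obtain ⟨s, hs, rfl⟩ := h.ex
  exact S.mul_mem (S.mul_mem (S.mul_mem hs h.inv.aS) (S.inv_mem hs)) (S.inv_mem h.inv.aS)
theorem le : zpowers c ≤ S := zpowers_le.2 h.cS
theorem ainv (hd : d ∈ zpowers c) : a * d * a⁻¹ = d⁻¹ := by
  obtain ⟨s, -, rfl⟩ := h.ex
  exact zp_inv (inv_cm' h.inv.a2) hd
theorem om : ∃ w ∈ zpowers c, w * w = z ∧ z * z = 1 := by
  obtain ⟨w, hw, h1, h2⟩ := exists_four (h.inv.pi.elt h.cS) h.c2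
  have := h.inv.om (h.le hw) (h.ainv hw) h1 h2
  exact ⟨w, hw, this, this ▸ h2⟩
theorem z2 : z * z = 1 := have ⟨_, _, _, k⟩ := h.om; k
theorem zC : z ∈ zpowers (c * c) := have ⟨_, k, e, _⟩ := h.om; e ▸ zp_sq k
theorem uniq (hd : d ∈ zpowers c) (h1 : d * d = 1) : d = 1 ∨ d = z :=
  (em _).imp_right fun k => zp_uniq hd (zp_le h.zC) h1 h.z2 k h.inv.z1
theorem uniq' (hd : d ∈ zpowers c) (h1 : d * d = 1) : d ∈ zpowers (c * c) := by
  rcases h.uniq hd h1 with rfl | rfl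
  exacts [one_mem _, h.zC]
theorem nsq : c ∉ zpowers (c * c) := zp_nsq (h.inv.pi.elt h.cS) fun k => h.c2 (by rw [k, one_mul])
theorem refl (hd : d ∈ zpowers c) : ∃ t ∈ S, d * a = t * a * t⁻¹ := by
  obtain ⟨s, hs, e⟩ := h.ex
  rcases zp_or hd with k | k <;> obtain ⟨f, hf, k⟩ := zp_half k
  · exact ⟨f, h.le hf, by rw [cm_eq, cm_of_inv (h.ainv hf), k]⟩
  · refine ⟨f * s, mul_mem (h.le hf) hs, ?_⟩
    rw [cm_eq, cm_ml, cm_of_inv (h.ainv hf), ← e, zp_comm hf (mem_zpowers c), ← k]; group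
theorem rinv (hd : d ∈ zpowers c) (he : e ∈ zpowers c) : d * a * e * (d * a)⁻¹ = e⁻¹ := by
  rw [show d * a * e * (d * a)⁻¹ = d * (a * e * a⁻¹) * d⁻¹ by group, h.ainv he, zp_comm hd (inv_mem he)]; group
theorem rsq (hd : d ∈ zpowers c) : d * a * (d * a) = 1 := by
  rw [show d * a * (d * a) = d * (a * d * a⁻¹) * (a * a) by group, h.ainv hd, h.inv.a2]; group

/-- an involution fixing the classes of reflections commutes with a reflection -/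
theorem fixr (hx : x ∈ S) (h1 : x * x = 1) (h2 : x ∈ N(zpowers c)) (h3 : ⁅x, a⁆ ∈ zpowers (c * c)) :
    ∃ d ∈ zpowers c, x * (d * a) = d * a * x := by
  obtain ⟨f, hf, e⟩ := zp_half h3
  have hf' := conj_mem_N h2 hf
  have k : ⁅x, f * a⁆ = x * f * x⁻¹ * f := by
    rw [show ⁅x, f * a⁆ = x * f * x⁻¹ * ⁅x, a⁆ * f⁻¹ by simp only [commutatorElement_def]; group, e]; group
  rcases h.uniq (mul_mem hf' hf) (by rw [sq_mul (zp_comm hf' hf), conj_mul, ← e, inv_cm h1, inv_mul_cancel]) with q | q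
  · exact ⟨f, hf, cm_one.1 (k.trans q)⟩
  obtain ⟨w, hw, e', -⟩ := h.om
  obtain ⟨t, ht, r⟩ := h.refl hf
  have i := h.inv.cj ht
  rw [← r] at i
  refine ⟨w * f, mul_mem hw hf, i.c2 x hx _ (mul_mem (h.le (mul_mem hw hf)) h.inv.aS) h1 (h.rsq (mul_mem hw hf))
    (k.trans q) ?_⟩
  rw [mul_assoc, cm_ml, commutatorElement_self, cm_of_inv (h.rinv hf hw), e']; group

theorem cls (ht : t ∈ S) (hd : d ∈ zpowers c) (hc : t * a * t⁻¹ * (d * a) = d * a * (t * a * t⁻¹)) :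
    ⁅t, a⁆ ∈ zpowers c := by
  obtain ⟨r, hr, e⟩ := h.refl hd
  have i := h.inv.cj hr
  rw [← e] at i
  have k : ⁅t * r⁻¹, d * a⁆ = ⁅t, a⁆ * d⁻¹ := by
    rw [commutatorElement_def]
    conv_lhs => enter [1, 1, 2]; rw [e]
    rw [commutatorElement_def]; group
  have := i.c1 _ (mul_mem ht (inv_mem hr)) (by
    have : ⁅t * r⁻¹, d * a⁆ = t * a * t⁻¹ * (d * a) := by
      rw [k, cm_eq, mul_assoc, ← mul_assoc a, ← h.ainv hd, inv_eq_of_mul_eq_one_right h.inv.a2]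
    rw [this, sq_mul hc, h.rsq hd, (h.inv.cj ht).a2, one_mul])
  rw [k, mul_inv_eq_one, mul_inv_eq_iff_eq_mul] at this
  rcases this with q | q <;> rw [q]
  exacts [hd, mul_mem (zp_le h.zC) hd]
end Dih0

/-- the conjugates of `a` are the reflections `d a`, `d ∈ ⟨c⟩` -/
structure Dih (S : Subgroup G) (z a c : G) : Prop extends Dih0 S z a c where
  nm : S ≤ Sub (zpowers c) a

theorem Inv.dih (h : Inv S z a) (hs : s ∈ S) (h1 : ⁅s, a⁆ * ⁅s, a⁆ ≠ 1) : ∃ c, Dih S z a c := by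
  obtain ⟨r, hr, mx⟩ := Set.exists_max_image (S : Set G) (fun s => orderOf ⁅s, a⁆) (Set.toFinite _) ⟨s, hs⟩
  have D : Dih0 S z a ⁅r, a⁆ := ⟨h, ⟨r, hr, rfl⟩, fun k => h1 (by
    have := (mx s hs).trans (orderOf_le_of_pow_eq_one two_pos ((sq _).trans k))
    have := orderOf_pos ⁅s, a⁆
    have : orderOf ⁅s, a⁆ ∣ 2 := by interval_cases orderOf ⁅s, a⁆ <;> simp
    rw [← sq]; exact orderOf_dvd_iff_pow_eq_one.1 this)⟩
  refine ⟨_, D, ?_⟩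
  generalize hc : ⁅r, a⁆ = c at D mx
  have k : ∀ t ∈ S, t * a * t⁻¹ ∈ Sub (zpowers c) a → ⁅t, a⁆ ∈ zpowers c := fun t ht hx => by
    have i := h.cj ht
    by_cases q : ⁅t * a * t⁻¹, a⁆ ∈ zpowers (c * c)
    · obtain ⟨d, hd, e⟩ := D.fixr i.aS i.a2 hx.1 q
      exact D.cls ht hd e
    have g := zp_gen (h.pi.elt D.cS) hx.2 q
    have e : ⁅t * a * t⁻¹, a⁆ = ⁅t, a⁆ * ⁅t, a⁆ := by
      rw [cm_sq i.a2 h.a2, commutatorElement_def, inv_eq_of_mul_eq_one_right h.a2]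
    rw [e] at g q
    have := card_lt (zp_le.lt_of_ne fun p => zp_nsq (c := ⁅t, a⁆) (h.pi.elt (by
      rw [commutatorElement_def]; exact mul_mem i.aS (inv_mem h.aS))) (fun p => q (by rw [p, one_mul]; exact one_mem _))
      (p.ge (mem_zpowers _)))
    have := (card_le (zpowers_le.2 g)).trans_lt this
    rw [card_zpowers', card_zpowers'] at this
    exact absurd (mx t ht) this.not_ge
  have ha : a ∈ S ⊓ Sub (zpowers c) a := ⟨h.aS, mem_N_of_finite fun d hd => D.ainv hd ▸ inv_mem hd, by simp⟩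
  have hc' : c ∈ S ⊓ Sub (zpowers c) a := ⟨D.cS, le_N (mem_zpowers c), by
    rw [cm_of_inv (D.ainv (mem_zpowers c))]; exact zp_le (mem_zpowers _)⟩
  refine (h.pi.nil.eq_of_norm_le (K := S ⊓ Sub (zpowers c) a) inf_le_left fun t ht => ?_).ge.trans inf_le_right
  have k1 := k t ht.1 (conj_mem_N ht.2 ha).2
  have k2 := k _ (mul_mem ht.1 hr) (by
    rw [show t * r * a * (t * r)⁻¹ = t * (r * a * r⁻¹) * t⁻¹ by group, cm_eq (t := r), hc]
    exact (conj_mem_N ht.2 (mul_mem hc' ha)).2)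
  rw [cm_ml, hc, mul_mem_cancel_right k1] at k2
  exact ⟨ht.1, mem_N_of_cj_le (by rw [cj_zpowers]; exact zpowers_le.2 k2), k1⟩

/-- an essential subgroup of index `2` in its normalizer `U` in `S`, with `[U, A] = ⟨z⟩` of order `2` -/
structure Q2 (S A : Subgroup G) (z : G) : Prop where
  ess : Ess S A
  z1 : z ≠ 1
  i2 : ∀ u ∈ S ⊓ N(A), ∀ v ∈ S ⊓ N(A), u ∉ A → v ∉ A → u * v ∈ A
  cm : ∀ u ∈ S ⊓ N(A), ∀ x ∈ A, ⁅u, x⁆ = 1 ∨ ⁅u, x⁆ = z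

namespace Q2
variable (h : Q2 S A z)
include h
theorem ex : ∃ u ∈ S ⊓ N(A), u ∉ C(A) ∧ ∃ x ∈ A, ⁅u, x⁆ = z := by
  obtain ⟨u, hu, k⟩ := SetLike.exists_of_lt h.ess.sc.lt
  have k' : u ∉ C(A) := fun q => k (h.ess.sc.mem hu.1 q)
  obtain ⟨x, hx⟩ := not_forall.1 (mt mem_C_cm.2 k')
  exact ⟨u, hu, k', x, (Classical.not_imp.1 hx).1, (h.cm u hu x (Classical.not_imp.1 hx).1).resolve_left (Classical.not_imp.1 hx).2⟩
theorem zA : z ∈ A := have ⟨_, hu, _, _, hx, e⟩ := h.ex; e ▸ cm_mem hu.2 hx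
theorem fix (h1 : g ∈ N(A)) (h2 : g ∈ N(PP S A)) : g * z * g⁻¹ = z := by
  obtain ⟨u, hu, -, x, hx, e⟩ := h.ex
  obtain ⟨v, hv, c, hc, e'⟩ := mem_PP.1 (conj_mem_N h2 (U_le_PP hu))
  have := h.cm v hv _ (conj_mem_N h1 hx)
  rw [← (by rw [cm_ml, mem_C_cm.1 hc _ (conj_mem_N h1 hx)]; group : ⁅v * c, g * x * g⁻¹⁆ = ⁅v, g * x * g⁻¹⁆), ← e',
    ← cm_conj, e, conj_eq_one_iff'] at this
  exact this.resolve_left h.z1
theorem zU : z ∈ C(S ⊓ N(A)) := mem_C.2 fun _ hu => mul_inv_eq_iff_eq_mul.1 (h.fix hu.2 (le_N (U_le_PP hu)))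
theorem cm_mul (hu : u ∈ N(A)) (hx : x ∈ A) (hy : y ∈ A) : ⁅u, x * y⁆ = ⁅u, x⁆ * ⁅u, y⁆ :=
  cm_mul_right (h.ess.sc.comm hx (cm_mem hu hy))
theorem z2 : z * z = 1 := by
  obtain ⟨u, hu, -, x, hx, e⟩ := h.ex
  have := h.cm u hu _ (mul_mem hx hx)
  rw [h.cm_mul hu.2 hx hx, e, mul_eq_left] at this
  exact this.resolve_right h.z1
theorem nc (hx : x ∈ A) (h1 : x ∉ C(S ⊓ N(A))) (hu : u ∈ S ⊓ N(A)) (h2 : u ∉ A) : ⁅u, x⁆ = z := by
  refine (h.cm u hu x hx).resolve_left fun k => h1 (mem_C.2 fun v hv => ?_)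
  by_cases q : v ∈ A
  · exact h.ess.sc.comm q hx
  have := h.ess.sc.comm (h.i2 _ (inv_mem hu) v hv (fun r => h2 (inv_mem_iff.1 r)) q) hx
  rw [← mul_inv_cancel_left u v, mul_assoc, this, ← mul_assoc, cm_one.1 k, mul_assoc]
theorem i2' (hx : x ∈ A) (hy : y ∈ A) (h1 : x ∉ C(S ⊓ N(A))) (h2 : y ∉ C(S ⊓ N(A))) : x * y ∈ C(S ⊓ N(A)) :=
  mem_C.2 fun v hv => (em (v ∈ A)).elim (fun q => h.ess.sc.comm q (mul_mem hx hy)) fun q => cm_one.1 <| by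
    rw [h.cm_mul hv.2 hx hy, h.nc hx h1 hv q, h.nc hy h2 hv q, h.z2]
theorem ff : FF S A A (S ⊓ N(A)) := by
  have k : ¬ S ⊓ N(A) ≤ C(A) := have ⟨_, hu, k, _⟩ := h.ex; fun q => k (q hu)
  refine ⟨h.ess, le_rfl, le_rfl, fun _ _ => id, U_le_PP, k, fun e he v hv => ?_, (relIndex_le_two fun x hx y hy h1 h2 =>
    mem_inf.2 ⟨mul_mem hx hy, h.i2' hx hy (fun q => h1 ⟨hx, q⟩) fun q => h2 ⟨hy, q⟩⟩).trans (one_lt_relIndex k)⟩
  rcases h.cm e he v hv with q | q <;> rw [q]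
  exacts [one_mem _, h.zU]
theorem far (hk : Far S A k) : k * z * k⁻¹ ∉ C(S ⊓ N(A)) := fun q => by
  obtain ⟨u, hu, h1, x, hx, e⟩ := h.ex
  refine h1 (h.ff.c4 hk.inv hx (fun r => h.z1 (e.symm.trans (cm_one.2 (mem_C.1 r u hu)))) hu (mem_cj.2 ?_))
  rw [inv_inv, e]; exact ⟨conj_mem_N hk.mem h.zA, q⟩
theorem nsq (hx : x ∈ A) : x * x ≠ z := fun e => h.ess.elim fun k hk => h.far hk <| by
  have := mem_cj.1 (h.ff.sq hk.inv.mem hx)
  rw [inv_inv, e] at this; exact this.2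
theorem uniq (h' : Q2 S A w) : w = z :=
  have ⟨u, hu, _, x, hx, e⟩ := h'.ex
  e ▸ (h.cm u hu x hx).resolve_left (e ▸ h'.z1)
theorem cj (hg : g ∈ N(S)) : Q2 S (cj g A) (g * z * g⁻¹) := by
  refine ⟨h.ess.cj hg, fun k => h.z1 (conj_eq_one_iff'.1 k), ?_, ?_⟩ <;> rw [← U_cj hg] <;> intro u hu v hv <;>
    obtain ⟨u, hu', rfl⟩ := mem_cj'.1 hu <;> obtain ⟨v, hv', rfl⟩ := mem_cj'.1 hv
  · rw [conj_mul, conj_mem_cj_iff, conj_mem_cj_iff, conj_mem_cj_iff]; exact h.i2 u hu' v hv'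
  · rw [← cm_conj]; exact (h.cm u hu' v hv').imp conj_eq_one_iff'.2 fun k => by rw [k]
theorem cm_cent (h1 : g ∈ N(A)) (h2 : g ∈ N(PP S A)) (hx : x ∈ A) : ⁅g, x⁆ ∈ C(S ⊓ N(A)) := by
  have e : ∀ y ∈ A, y ∈ C(S ⊓ N(A)) ↔ y ∈ C(PP S A) := fun y hy =>
    ⟨fun k => by rw [PP, C_sup]; exact ⟨k, mem_C.2 fun c hc => (mem_C.1 hc y hy).symm⟩, fun k => C_anti U_le_PP k⟩
  have f : ∀ g ∈ N(A), g ∈ N(PP S A) → ∀ y ∈ A, y ∈ C(S ⊓ N(A)) → g * y * g⁻¹ ∈ C(S ⊓ N(A)) := fun g h1 h2 y hy k =>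
    (e _ (conj_mem_N h1 hy)).2 (conj_mem_N (N_le_N_C h2) ((e y hy).1 k))
  rw [commutatorElement_def]
  by_cases k : x ∈ C(S ⊓ N(A))
  · exact mul_mem (f g h1 h2 x hx k) (inv_mem k)
  · refine h.i2' (conj_mem_N h1 hx) (inv_mem hx) (fun q => k ?_) fun q => k (inv_mem_iff.1 q)
    simpa [mul_assoc] using f _ (inv_mem h1) (inv_mem h2) _ (conj_mem_N h1 hx) q
end Q2

/-- `a` is a conjugate of `z` in `N(A)` outside `Z(N_S(A))` -/
structure EI (S A : Subgroup G) (z a : G) : Prop where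
  q : Q2 S A z
  ex : ∃ n, Far S A n ∧ a = n * z * n⁻¹

namespace EI
variable (h : EI S A z a)
include h
theorem mem : a ∈ A := have ⟨_, k, e⟩ := h.ex; e ▸ conj_mem_N k.mem h.q.zA
theorem aS : a ∈ S := h.q.ess.sc.le h.mem
theorem a2 : a * a = 1 := have ⟨_, _, e⟩ := h.ex; by rw [e, conj_mul, h.q.z2, conj_eq_one_iff']
theorem nc (hu : u ∈ S ⊓ N(A)) (h2 : u ∉ A) : ⁅u, a⁆ = z :=
  have ⟨_, k, e⟩ := h.ex; h.q.nc h.mem (e ▸ h.q.far k) hu h2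
theorem cent (hx : x ∈ S) (hc : x * a = a * x) : x ∈ A :=
  h.q.ess.sc.cent (K := C1(a)) (fun _ hy => mem_C1.2 (h.q.ess.sc.comm hy h.mem)) (fun _ h1 h2 h3 => by_contra fun k =>
    h.q.z1 ((h.nc ⟨h1, h2⟩ k).symm.trans (cm_one.2 (mem_C1.1 h3)))) hx (mem_C1.2 hc)
theorem cj (hg : g ∈ N(S)) : EI S (cj g A) (g * z * g⁻¹) (g * a * g⁻¹) :=
  have ⟨_, k, e⟩ := h.ex; ⟨h.q.cj hg, _, k.cj hg, by rw [e]; group⟩
theorem norm (ht : t ∈ S) (k : ⁅t, a⁆ * ⁅t, a⁆ = 1) : t ∈ N(A) := by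
  have i := h.cj (le_N ht)
  rw [commutatorElement_def, inv_eq_of_mul_eq_one_right h.a2, ← cm_sq i.a2 h.a2] at k
  have := h.cent i.aS (cm_one.1 k)
  exact mem_N_iff_cj.2 (eq_of_card_ge (fun y hy => i.cent (h.q.ess.sc.le hy) (h.q.ess.sc.comm hy this)) card_cj.le).symm
theorem inv : Inv S z a := by
  refine ⟨h.q.ess.sc.ctx.pi, h.aS, h.a2, h.q.z1, fun t ht k => h.q.fix (h.norm ht k) (N_PP (le_N ht) (h.norm ht k)),
    fun t ht k => h.q.cm t ⟨ht, h.norm ht k⟩ a h.mem, fun u hu v hv h1 h2 h3 h4 => ?_⟩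
  have f : ∀ u ∈ S, ⁅u, a⁆ = z → u ∈ S ⊓ N(A) ∧ u ∉ A := fun u hu e => ⟨⟨hu, h.norm hu (e.symm ▸ h.q.z2)⟩,
    fun k => h.q.z1 (e.symm.trans (cm_one.2 (h.q.ess.sc.comm k h.mem)))⟩
  have hx := h.q.i2 u (f u hu h3).1 v (f v hv h4).1 (f u hu h3).2 (f v hv h4).2
  have e : ⁅u, u * v⁆ * (u * v * (u * v)) = 1 := by
    rw [commutatorElement_def, inv_eq_of_mul_eq_one_right h1, show u * (u * v) * u * (u * v)⁻¹ * (u * v * (u * v)) =
      u * u * v * (u * u) * v by group, h1, one_mul, mul_one, h2]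
  rcases h.q.cm u (f u hu h3).1 _ hx with k | k
  · have := cm_one.1 k
    rwa [mul_assoc, mul_right_inj] at this
  · rw [k, ← h.q.z2, mul_right_inj] at e
    exact absurd e (h.q.nsq hx)
theorem two (h' : EI S A z b) : b * a⁻¹ = 1 ∨ b * a⁻¹ = z := by
  obtain ⟨k, hk, e⟩ := h.ex
  obtain ⟨n, hn, e'⟩ := h'.ex
  obtain ⟨u, hu, q⟩ := h.q.ff.three hn hk
  have := h.q.fix (mul_mem (mul_mem hk.inv.mem hu.2) hn.mem) q
  convert h.q.cm _ (inv_mem hu) a h.mem using 2 <;>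
  · rw [commutatorElement_def, e', mul_left_inj, e]
    conv_rhs => rw [← this]
    group
end EI

end H22.AI
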