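import Cfsg.Agent.H22.Basic

/-! Frobenius' theorem on the solutions of `x ^ n = c`: `gcd_dvd_card_pow_eq`
(`gcd n |C(c)|` divides `#{x | x ^ n = c}`), `frobenius_dvd_card_pow_eq_one`
(`gcd n |G|` divides `#{x | x ^ n = 1}`), `frobenius_class` (n-th power in a class),
`frobenius_invariant` (n-th power in a conjugation invariant set). Also the counting lemma
`dvd_card_of_fibers`. -/

set_option autoImplicit false

namespace H22

open Subgroup

theorem dvd_card_of_fibers {α β : Type*} [Finite α] (f : α → β) (S : Set α) (q : ℕ)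
    (h : ∀ a ∈ S, q ∣ Nat.card {x // x ∈ S ∧ f x = f a}) : q ∣ Nat.card S := by
  classical
  have := Fintype.ofFinite α
  have h1 : Nat.card S = (Finset.univ.filter (· ∈ S)).card := by
    rw [Nat.card_eq_fintype_card, Fintype.card_subtype]
  rw [h1, Finset.card_eq_sum_card_image f]
  refine Finset.dvd_sum fun b hb => ?_
  obtain ⟨a, ha, rfl⟩ := Finset.mem_image.mp hb
  have := h a (by simpa using ha)
  rw [Nat.card_eq_fintype_card, Fintype.card_subtype] at this
  rwa [Finset.filter_filter]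

variable {G : Type*} [Group G]

/-- the largest subgroup of `H` normalised by `x` -/
def frobU (H : Subgroup G) (x : G) : Subgroup G where
  carrier := {h | ∀ k : ℤ, x ^ k * h * (x ^ k)⁻¹ ∈ H}
  one_mem' := fun k => by simp
  mul_mem' := fun {a b} ha hb k => by
    have := H.mul_mem (ha k) (hb k)
    convert this using 1; group
  inv_mem' := fun {a} ha k => by
    have := H.inv_mem (ha k)
    convert this using 1; group

theorem mem_frobU {H : Subgroup G} {x h : G} :
    h ∈ frobU H x ↔ ∀ k : ℤ, x ^ k * h * (x ^ k)⁻¹ ∈ H := Iff.rfl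

theorem frobU_le (H : Subgroup G) (x : G) : frobU H x ≤ H := fun h hh => by simpa using hh 0

theorem frobU_conj_mem {H : Subgroup G} {x u : G} (hu : u ∈ frobU H x) (j : ℤ) :
    x ^ j * u * (x ^ j)⁻¹ ∈ frobU H x := fun k => by
  have := hu (k + j)
  convert this using 1; group

theorem frobU_zpow {H : Subgroup G} {x u : G} (hu : u ∈ frobU H x) (k : ℤ) :
    (x ^ k)⁻¹ * (x * u) ^ k ∈ frobU H x := by
  induction k using Int.induction_on with
  | zero => simp
  | succ k ih =>
    have := (frobU H x).mul_mem (frobU_conj_mem ih (-1)) hu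
    convert this using 1
    rw [zpow_add_one (x * u), zpow_add_one x]; group
  | pred k ih =>
    have := frobU_conj_mem ((frobU H x).mul_mem ih ((frobU H x).inv_mem hu)) 1
    convert this using 1
    rw [zpow_sub_one (x * u), zpow_sub_one x]; group

theorem frobU_le_mul {H : Subgroup G} {x u : G} (hu : u ∈ frobU H x) :
    frobU H x ≤ frobU H (x * u) := fun h hh k => by
  have h1 := frobU_zpow hu k
  have := ((frobU H x).mul_mem ((frobU H x).mul_mem h1 hh) ((frobU H x).inv_mem h1)) k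
  convert this using 1; group

theorem frobU_mul {H : Subgroup G} {x u : G} (hu : u ∈ frobU H x) :
    frobU H (x * u) = frobU H x := by
  refine le_antisymm ?_ (frobU_le_mul hu)
  have := frobU_le_mul ((frobU H (x * u)).inv_mem (frobU_le_mul hu hu))
  simpa using this

theorem mem_frobU_conj {H : Subgroup G} {x h w : G} (hh : h ∈ H) :
    w ∈ frobU H (h * x * h⁻¹) ↔ h⁻¹ * w * h ∈ frobU H x := by
  refine forall_congr' fun k => ?_
  rw [conj_zpow]
  constructor
  · intro h1
    have := H.mul_mem (H.mul_mem (H.inv_mem hh) h1) hh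
    convert this using 1; group
  · intro h1
    have := H.mul_mem (H.mul_mem hh h1) (H.inv_mem hh)
    convert this using 1; group

/-- Brauer's equivalence relation -/
def frobSetoid (H : Subgroup G) : Setoid G where
  r x y := ∃ h ∈ H, ∃ u ∈ frobU H x, y = h * (x * u) * h⁻¹
  iseqv := by
    refine ⟨fun x => ⟨1, H.one_mem, 1, one_mem _, by simp⟩, ?_, ?_⟩
    · rintro x y ⟨h, hh, u, hu, rfl⟩
      refine ⟨h⁻¹, H.inv_mem hh, h * u⁻¹ * h⁻¹, ?_, by group⟩
      rw [mem_frobU_conj hh, frobU_mul hu]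
      simpa [mul_assoc] using hu
    · rintro x y z ⟨h, hh, u, hu, rfl⟩ ⟨h', hh', u', hu', rfl⟩
      rw [mem_frobU_conj hh, frobU_mul hu] at hu'
      exact ⟨h' * h, H.mul_mem hh' hh, _, mul_mem hu hu', by group⟩

theorem card_frobSetoid_class (H : Subgroup G) (x : G) :
    Nat.card {y // (frobSetoid H) x y} = Nat.card H := by
  let U := frobU H x
  let F : (H ⧸ U.subgroupOf H) × U → {y // (frobSetoid H) x y} := fun z =>
    ⟨(z.1.out : G) * (x * z.2) * (z.1.out : G)⁻¹, _, z.1.out.2, _, z.2.2, rfl⟩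
  have hb : Function.Bijective F := by
    constructor
    · rintro ⟨q, u⟩ ⟨q', u'⟩ hF
      have hF' : (q.out : G) * (x * u) * (q.out : G)⁻¹ =
          (q'.out : G) * (x * u') * (q'.out : G)⁻¹ := congrArg Subtype.val hF
      have hq : q = q' := by
        rw [← q.out_eq, ← q'.out_eq]
        apply Quotient.sound'
        rw [QuotientGroup.leftRel_apply, mem_subgroupOf]
        set k : G := ((q.out⁻¹ * q'.out : H) : G) with hk
        have hkH : k ∈ H := (q.out⁻¹ * q'.out).2
        have hv : (u' : G)⁻¹ * u ∈ frobU H (x * u') := by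
          rw [frobU_mul u'.2]; exact U.mul_mem (U.inv_mem u'.2) u.2
        have e1 : k * (x * u') * k⁻¹ = (x * u') * ((u' : G)⁻¹ * u) := by
          rw [hk]; push_cast
          calc _ = (q.out : G)⁻¹ * ((q'.out : G) * (x * u') * (q'.out : G)⁻¹) * q.out := by group
            _ = _ := by rw [← hF']; group
        show k ∈ frobU H x
        rw [← frobU_mul u'.2]
        intro j
        have e2 := frobU_le _ _ (frobU_zpow hv (-j))
        rw [← e1, conj_zpow] at e2
        have := H.mul_mem e2 hkH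
        convert this using 1; group
      subst hq
      have : (u : G) = u' := by simpa using hF'
      rw [Subtype.ext this]
    · rintro ⟨y, h, hh, u, hu, rfl⟩
      obtain ⟨w, hw⟩ := QuotientGroup.mk_out_eq_mul (U.subgroupOf H) ⟨h, hh⟩
      have hwU : ((w : H) : G) ∈ U := w.2
      refine ⟨⟨((⟨h, hh⟩ : H) : H ⧸ U.subgroupOf H), ⟨_, U.mul_mem (U.mul_mem
        (frobU_conj_mem (U.inv_mem hwU) (-1)) hu) hwU⟩⟩, Subtype.ext ?_⟩
      simp only [F, hw]
      push_cast
      group
  rw [← Nat.card_eq_of_bijective F hb, Nat.card_prod, ← index_eq_card,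
    ← Nat.card_congr (subgroupOfEquivOfLe (frobU_le H x)).toEquiv, index_mul_card]

theorem dvd_of_le_pow_of_dvd_mul_pow {p l n j b : ℕ} (hp : p.Prime) (hl : l ≠ 0)
    (h1 : l ∣ n * p ^ j) (h2 : l ≤ p ^ b) (h3 : p ^ b ∣ n) : l ∣ n := by
  obtain ⟨i, m, hm, rfl⟩ := Nat.exists_eq_pow_mul_and_not_dvd hl p hp.ne_one
  have hm0 : 0 < m := Nat.pos_of_ne_zero (by rintro rfl; simp at hm)
  have hc : m.Coprime p := ((Nat.Prime.coprime_iff_not_dvd hp).mpr hm).symm
  have hi : i ≤ b := (Nat.pow_le_pow_iff_right hp.one_lt).mp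
    ((Nat.le_mul_of_pos_right _ hm0).trans h2)
  refine Nat.Coprime.mul_dvd_of_dvd_of_dvd (hc.symm.pow_left _) ((pow_dvd_pow p hi).trans h3) ?_
  exact (hc.pow_right j).dvd_of_dvd_mul_right ((Dvd.intro_left _ rfl).trans h1)

theorem pow_gcd_eq_of_pow_eq {x y : G} {d e : ℕ} (h1 : x ^ d = y ^ d) (h2 : x ^ e = y ^ e) :
    x ^ Nat.gcd d e = y ^ Nat.gcd d e := by
  rw [← zpow_natCast, ← zpow_natCast, Nat.gcd_eq_gcd_ab, zpow_add, zpow_add, zpow_mul, zpow_mul,
    zpow_mul, zpow_mul]
  simp only [zpow_natCast, h1, h2]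

theorem frobU_pow_eq [Finite G] {p b n : ℕ} (hp : p.Prime) {H : Subgroup G}
    (hH : Nat.card H = p ^ b) (hn : p ^ b ∣ n) {x u : G} (hu : u ∈ frobU H x)
    (hc : ∀ h ∈ H, Commute (x ^ n) h) : (x * u) ^ n = x ^ n := by
  classical
  have := Fintype.ofFinite H
  have hmem : ∀ k : ℕ, (x ^ k)⁻¹ * (x * u) ^ k ∈ H := fun k => by
    simpa using frobU_le _ _ (frobU_zpow hu k)
  obtain ⟨d, hd0, hd1, hd⟩ : ∃ d, d ≠ 0 ∧ d ≤ p ^ b ∧ (x * u) ^ d = x ^ d := by
    have key : ∀ k l : Fin (p ^ b + 1), k < l →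
        (x ^ (k : ℕ))⁻¹ * (x * u) ^ (k : ℕ) = (x ^ (l : ℕ))⁻¹ * (x * u) ^ (l : ℕ) →
        ∃ d, d ≠ 0 ∧ d ≤ p ^ b ∧ (x * u) ^ d = x ^ d := by
      intro k l hkl h
      obtain ⟨d, hd⟩ := Nat.exists_eq_add_of_lt hkl
      refine ⟨d + 1, by omega, by omega, ?_⟩
      have e : (l : ℕ) = (d + 1) + k := by omega
      rw [e, pow_add (x * u) (d + 1), pow_add x (d + 1)] at h
      have h' := mul_right_cancel (h.trans (mul_assoc _ _ _).symm)
      rw [mul_inv_rev, mul_assoc] at h'
      have h'' : (1 : G) = (x ^ (d + 1))⁻¹ * (x * u) ^ (d + 1) :=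
        mul_left_cancel ((mul_one _).trans h')
      rw [eq_inv_mul_iff_mul_eq, mul_one] at h''
      exact h''.symm
    obtain ⟨k, l, hkl, h⟩ := Fintype.exists_ne_map_eq_of_card_lt
      (fun k : Fin (p ^ b + 1) => (⟨_, hmem k⟩ : H))
      (by rw [← Nat.card_eq_fintype_card, hH]; simp)
    have h' := congrArg Subtype.val h
    rcases lt_or_gt_of_ne hkl with h1 | h1
    · exact key k l h1 h'
    · exact key l k h1 h'.symm
  have h2 : (x * u) ^ (n * p ^ b) = x ^ (n * p ^ b) := by
    have e : (x * u) ^ n = x ^ n * ((x ^ n)⁻¹ * (x * u) ^ n) := by group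
    have e2 : ((x ^ n)⁻¹ * (x * u) ^ n) ^ p ^ b = 1 := by
      have : (⟨_, hmem n⟩ : H) ^ Nat.card H = 1 := pow_card_eq_one'
      rw [hH] at this
      exact congrArg Subtype.val this
    rw [pow_mul, pow_mul, e, (hc _ (hmem n)).mul_pow, e2, mul_one]
  have h3 := pow_gcd_eq_of_pow_eq hd h2
  obtain ⟨t, ht⟩ : Nat.gcd d (n * p ^ b) ∣ n :=
    dvd_of_le_pow_of_dvd_mul_pow hp (Nat.gcd_ne_zero_left hd0) (Nat.gcd_dvd_right _ _)
      ((Nat.gcd_le_left _ (Nat.pos_of_ne_zero hd0)).trans hd1) hn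
  rw [ht, pow_mul, h3, ← pow_mul]

theorem card_dvd_card_pow_eq [Finite G] {p b n : ℕ} (hp : p.Prime) {H : Subgroup G}
    (hH : Nat.card H = p ^ b) (hn : p ^ b ∣ n) {c : G} (hc : ∀ h ∈ H, Commute c h) :
    p ^ b ∣ Nat.card {x : G // x ^ n = c} := by
  refine dvd_card_of_fibers (Quotient.mk (frobSetoid H)) {x : G | x ^ n = c} _ ?_
  intro a ha
  have ha' : a ^ n = c := ha
  rw [← hH, ← card_frobSetoid_class H a]
  apply dvd_of_eq
  refine Nat.card_congr (Equiv.subtypeEquivRight fun y => ⟨fun h => ⟨?_, ?_⟩, fun h => ?_⟩)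
  · obtain ⟨h, hh, u, hu, rfl⟩ := h
    show _ ^ n = c
    rw [conj_pow, frobU_pow_eq hp hH hn hu (by rwa [ha']), ha', ← (hc h hh).eq]
    simp
  · exact (Quotient.sound h).symm
  · exact Quotient.exact h.2.symm

/-- **Frobenius' theorem** for `x ^ n = c`. -/
theorem gcd_dvd_card_pow_eq [Finite G] (c : G) (n : ℕ) :
    Nat.gcd n (Nat.card (centralizer ({c} : Set G))) ∣ Nat.card {x : G // x ^ n = c} := by
  rw [Nat.dvd_iff_prime_pow_dvd_dvd]
  intro p k hp hk
  have := Fact.mk hp
  obtain ⟨K, hK⟩ := Sylow.exists_subgroup_card_pow_prime p (hk.trans (Nat.gcd_dvd_right _ _))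
  refine card_dvd_card_pow_eq hp (H := K.map (centralizer ({c} : Set G)).subtype) ?_
    (hk.trans (Nat.gcd_dvd_left _ _)) ?_
  · rw [card_map_of_injective (subtype_injective _), hK]
  · rintro _ ⟨⟨h, hh⟩, -, rfl⟩
    exact (mem_centralizer_singleton_iff.mp hh).symm

/-- **Frobenius' theorem**. -/
theorem frobenius_gcd_dvd [Finite G] (n : ℕ) :
    Nat.gcd n (Nat.card G) ∣ Nat.card {x : G // x ^ n = 1} := by
  have := gcd_dvd_card_pow_eq (1 : G) n
  rwa [(centralizer_eq_top_iff_subset (s := {(1 : G)})).mpr (by simp), card_top] at this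

theorem frobenius_dvd_card_pow_eq_one [Finite G] {n : ℕ} (hn : n ∣ Nat.card G) :
    n ∣ Nat.card {x : G // x ^ n = 1} := by
  have := frobenius_gcd_dvd (G := G) n
  rwa [Nat.gcd_eq_left hn] at this

theorem card_isConj_pow [Finite G] (c : G) (n : ℕ) :
    Nat.card {x : G // IsConj c (x ^ n)} =
      (centralizer ({c} : Set G)).index * Nat.card {x : G // x ^ n = c} := by
  let C := centralizer ({c} : Set G)
  let F : (G ⧸ C) × {x : G // x ^ n = c} → {x : G // IsConj c (x ^ n)} := fun z =>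
    ⟨z.1.out * z.2 * z.1.out⁻¹, by rw [conj_pow, z.2.2]; exact isConj_iff.mpr ⟨_, rfl⟩⟩
  have hb : Function.Bijective F := by
    constructor
    · rintro ⟨q, x, hx⟩ ⟨q', x', hx'⟩ hF
      have hF' : q.out * x * q.out⁻¹ = q'.out * x' * q'.out⁻¹ := congrArg Subtype.val hF
      have h1 : q.out * c * q.out⁻¹ = q'.out * c * q'.out⁻¹ := by
        have := congrArg (· ^ n) hF'
        simpa only [conj_pow, hx, hx'] using this
      have hq : q = q' := by
        rw [← q.out_eq, ← q'.out_eq]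
        apply Quotient.sound'
        rw [QuotientGroup.leftRel_apply, mem_centralizer_singleton_iff]
        calc _ = q.out⁻¹ * (q'.out * c * q'.out⁻¹) * q'.out := by group
          _ = _ := by rw [← h1]; group
      subst hq
      have : x = x' := by simpa using hF'
      subst this; rfl
    · rintro ⟨y, hy⟩
      obtain ⟨g, hg⟩ := isConj_iff.mp hy
      obtain ⟨w, hw⟩ := QuotientGroup.mk_out_eq_mul C g
      have hwc := mem_centralizer_singleton_iff.mp w.2
      refine ⟨⟨(g : G ⧸ C), ⟨(g * w)⁻¹ * y * (g * w), ?_⟩⟩, Subtype.ext ?_⟩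
      · have := conj_pow (a := (g * w)⁻¹) (b := y) (i := n)
        rw [inv_inv] at this
        rw [this, ← hg]
        calc _ = (w : G)⁻¹ * (c * w) := by group
          _ = c := by rw [← hwc]; group
      · simp only [F, hw]; group
  rw [← Nat.card_eq_of_bijective F hb, Nat.card_prod, ← index_eq_card]

theorem frobenius_class [Finite G] (c : G) (n : ℕ) :
    Nat.gcd ((centralizer ({c} : Set G)).index * n) (Nat.card G) ∣
      Nat.card {x : G // IsConj c (x ^ n)} := by
  rw [card_isConj_pow, ← (centralizer ({c} : Set G)).index_mul_card, Nat.gcd_mul_left]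
  exact Nat.mul_dvd_mul_left _ (gcd_dvd_card_pow_eq c n)

/-- the number of `x` whose `n`-th power lies in a conjugation invariant set -/
theorem frobenius_invariant [Finite G] (D : Set G) (hD : ∀ a b, IsConj a b → a ∈ D → b ∈ D)
    (n : ℕ) : Nat.gcd n (Nat.card G) ∣ Nat.card {x : G // x ^ n ∈ D} := by
  refine dvd_card_of_fibers (fun x => ConjClasses.mk (x ^ n)) {x : G | x ^ n ∈ D} _ ?_
  intro a ha
  refine ((Nat.gcd_dvd_gcd_mul_left_left _ _ _).trans (frobenius_class (a ^ n) n)).trans ?_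
  apply dvd_of_eq
  refine Nat.card_congr (Equiv.subtypeEquivRight fun y => ⟨fun h => ⟨hD _ _ h ha, ?_⟩, fun h => ?_⟩)
  · exact (ConjClasses.mk_eq_mk_iff_isConj.mpr h).symm
  · exact ConjClasses.mk_eq_mk_iff_isConj.mp h.2.symm

end H22
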