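import Cfsg.Agent.H22.PGLTor
import Cfsg.Agent.H29.As3
import Mathlib.NumberTheory.LegendreSymbol.QuadraticChar.GaussSum

/-! Maximal subgroups of `PGL(2,F)` and of `PSL2 F` (as `M ⋖ X` with `PSL2 F ≤ X`): `max_struct`, subfield subgroups
`Sub R`, normal four-groups (`N4`), `A₅` is realised over a field with a golden ratio (`a5_conj`). -/

set_option autoImplicit false
set_option linter.unusedSectionVars false

namespace H22

open Matrix MulAction Subgroup H10 OnePoint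
open scoped MatrixGroups

section Cov
variable {G H : Type*} [Group G] [Group H]

theorem map_covBy_iff {f : H →* G} (hf : Function.Injective f) {A B : Subgroup H} : A.map f ⋖ B.map f ↔ A ⋖ B := by
  constructor
  · refine fun h => ⟨(map_lt_map_iff_of_injective hf).1 h.1, fun C h1 h2 => ?_⟩
    exact h.2 ((map_lt_map_iff_of_injective hf).2 h1) ((map_lt_map_iff_of_injective hf).2 h2)
  · refine fun h => ⟨(map_lt_map_iff_of_injective hf).2 h.1, fun C h1 h2 => ?_⟩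
    have e : (C.comap f).map f = C := map_comap_eq_self (h2.le.trans (map_le_range f B))
    rw [← e, map_lt_map_iff_of_injective hf] at h1 h2
    exact h.2 h1 h2

theorem coatom_iff_cov {f : H →* G} (hf : Function.Injective f) {A : Subgroup H} : IsCoatom A ↔ A.map f ⋖ f.range := by
  rw [MonoidHom.range_eq_map, map_covBy_iff hf, covBy_top_iff]

/-- conjugate subgroup -/
abbrev cj (t : G) (M : Subgroup G) : Subgroup G := M.map (MulAut.conj t).toMonoidHom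

theorem mem_cj {t g : G} {M : Subgroup G} : g ∈ cj t M ↔ t⁻¹ * g * t ∈ M :=
  ⟨by rintro ⟨a, ha, rfl⟩; simpa [mul_assoc] using ha, fun h => ⟨_, h, by simp [mul_assoc]⟩⟩

theorem cj_normal (t : G) (X : Subgroup G) [hX : X.Normal] : cj t X = X := by
  ext g
  rw [mem_cj]
  exact ⟨fun h => by simpa [mul_assoc] using hX.conj_mem _ h t, fun h => hX.conj_mem' _ h t⟩

theorem cov_cj {M X : Subgroup G} [X.Normal] (h : M ⋖ X) (t : G) : cj t M ⋖ X := by
  rw [← cj_normal t X]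
  exact (map_covBy_iff (MulAut.conj t).injective).2 h

theorem not_le_cj {M L : Subgroup G} [L.Normal] (h : ¬ L ≤ M) (t : G) : ¬ L ≤ cj t M := by
  rw [← cj_normal t L]
  rwa [map_le_map_iff_of_injective (MulAut.conj t).injective]

noncomputable def cjEquiv (t : G) (M : Subgroup G) : M ≃* cj t M := M.equivMapOfInjective _ (MulAut.conj t).injective

theorem card_cj (t : G) (M : Subgroup G) : Nat.card (cj t M) = Nat.card M := (Nat.card_congr (cjEquiv t M).toEquiv).symm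

theorem cov_eq {M X L K : Subgroup G} (h : M ⋖ X) (hX : L ≤ X) (hK : M ≤ K) (hL : ¬ L ≤ K) : M = K ⊓ X :=
  ((h.eq_or_eq (le_inf hK h.le) inf_le_right).resolve_right fun e => hL (hX.trans (inf_eq_right.1 e))).symm

end Cov

variable {F : Type*} [Field F]

/-- `PGL(2,R)` inside `PGL(2,F)`. -/
abbrev Sub (R : Subfield F) : Subgroup PGL(2, F) := (ProjGenLinGroup.map R.subtype).range

/-- `PSL(2,R)` inside `PGL(2,F)`. -/
abbrev SubL (R : Subfield F) : Subgroup PGL(2, F) := (PSL2 R).map (ProjGenLinGroup.map R.subtype)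

theorem mob_mem_Sub {R : Subfield F} {a b c d : F} (h : a * d - b * c ≠ 0) (ha : a ∈ R) (hb : b ∈ R) (hc : c ∈ R)
    (hd : d ∈ R) : mob a b c d h ∈ Sub R :=
  ⟨mob (⟨a, ha⟩ : R) ⟨b, hb⟩ ⟨c, hc⟩ ⟨d, hd⟩ (fun e => h (congrArg Subtype.val e)), map_mob _ _⟩

theorem Sub_mono {R S : Subfield F} (h : R ≤ S) : Sub R ≤ Sub S := by
  rintro _ ⟨g, rfl⟩
  obtain ⟨a, b, c, d, hd, rfl⟩ := mob_surj g
  rw [map_mob]
  exact mob_mem_Sub _ (h a.2) (h b.2) (h c.2) (h d.2)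

theorem SubL_le (R : Subfield F) : SubL R ≤ Sub R ⊓ PSL2 F :=
  le_inf (map_le_range _ _) (by rintro _ ⟨g, hg, rfl⟩; exact map_mem_PSL2 _ hg)

theorem not_L_le_Sub {R : Subfield F} (h : R ≠ ⊤) : ¬ PSL2 F ≤ Sub R := fun hl => h (eq_top_iff.2 fun b _ => by
  obtain ⟨g, hg⟩ := hl ((aff_mem_PSL2_iff one_ne_zero b).2 IsSquare.one)
  obtain ⟨a, c, d, e, hd, rfl⟩ := mob_surj g
  rw [map_mob, aff, mob_eq_mob_iff] at hg
  obtain ⟨u, -, h1, h2, -⟩ := hg
  have : b = (c : F) / a := by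
    rw [h2, eq_inv_of_mul_eq_one_left h1.symm, div_eq_inv_mul]; rfl
  exact this ▸ R.div_mem c.2 a.2)

theorem equiv_Sub (R : Subfield F) : Nonempty (Sub R ≃* PGL(2, R)) :=
  ⟨(MonoidHom.ofInjective (PGL2_map_injective R.subtype)).symm⟩

theorem equiv_SubL (R : Subfield F) : Nonempty (SubL R ≃* PSL(2, R)) :=
  ⟨((PSL2 R).equivMapOfInjective _ (PGL2_map_injective R.subtype)).symm.trans (PSL2Equiv R).symm⟩

theorem exists_type0 (R : Type*) [Field R] [Finite R] : ∃ (F₀ : Type) (_ : Field F₀) (_ : Fintype F₀),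
    Fintype.card F₀ = Nat.card R ∧ Nonempty (PGL(2, R) ≃* PGL(2, F₀)) ∧ Nonempty (PSL(2, R) ≃* PSL(2, F₀)) := by
  obtain ⟨T, ⟨e⟩⟩ : ∃ T : Type, Nonempty (T ≃ R) := ⟨_, ⟨(Finite.equivFin R).symm⟩⟩
  let := e.field
  have : Finite T := Finite.of_equiv _ e.symm
  exact ⟨T, _, Fintype.ofFinite T, by rw [← Nat.card_congr e, @Nat.card_eq_fintype_card _ (Fintype.ofFinite T)],
    PGL2_congr e.ringEquiv.symm, PSL2_congr e.ringEquiv.symm⟩

theorem odd_pow_eq (k r : ℕ) : ∃ m, (2 * k + 1) ^ r = 2 * (k * m) + 1 ∧ m % 2 = r % 2 := by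
  induction r with
  | zero => exact ⟨0, by simp⟩
  | succ r ih =>
    obtain ⟨m, h1, h2⟩ := ih
    exact ⟨2 * (k * m) + m + 1, by rw [pow_succ, h1]; ring, by omega⟩

variable [Fintype F]

theorem two_ne_of_odd (ho : Odd (Fintype.card F)) : (2 : F) ≠ 0 := fun h => by
  have := FiniteField.even_card_of_char_two
    (ringChar.eq F 2 (C := (CharP.charP_iff_prime_eq_zero Nat.prime_two).2 h))
  have := Nat.odd_iff.1 ho
  omega

theorem ringChar_ne {K : Type*} [Field K] (h : (2 : K) ≠ 0) : ringChar K ≠ 2 := fun e =>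
  h (by have := ringChar.of_eq e; exact CharP.cast_eq_zero K 2)

theorem isSquare_sub (h2 : (2 : F) ≠ 0) {R : Subfield F} {r : ℕ} (hq : Fintype.card F = Nat.card R ^ r) {a : R}
    (ha : a ≠ 0) : IsSquare (a : F) ↔ Even r ∨ IsSquare a := by
  have := Fintype.ofFinite R
  have h2' : (2 : R) ≠ 0 := fun e => h2 (congrArg Subtype.val e)
  obtain ⟨k, hk⟩ := H24.odd_of_two_ne_zero h2'
  obtain ⟨m, h3, h4⟩ := odd_pow_eq k r
  rw [Nat.card_eq_fintype_card, hk, h3] at hq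
  have h5 := FiniteField.pow_dichotomy (ringChar_ne h2') ha
  rw [FiniteField.isSquare_iff (ringChar_ne h2) (fun e => ha (Subtype.ext e)),
    FiniteField.isSquare_iff (ringChar_ne h2') ha, hq, show (2 * (k * m) + 1) / 2 = k * m by omega, pow_mul]
  rw [hk, show (2 * k + 1) / 2 = k by omega] at h5 ⊢
  have hn : (-1 : R) ≠ 1 := fun e => h2' (by linear_combination -e)
  rw [← SubmonoidClass.coe_pow, ← SubmonoidClass.coe_pow, OneMemClass.coe_eq_one]
  rcases h5 with h5 | h5 <;> rw [h5]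
  · simp
  · rw [neg_one_pow_eq_one_iff_even hn, Nat.even_iff, Nat.even_iff, h4]; simp [hn]

theorem Sub_le_L (h2 : (2 : F) ≠ 0) {R : Subfield F} {r : ℕ} (hq : Fintype.card F = Nat.card R ^ r) (hr : Even r) :
    Sub R ≤ PSL2 F := by
  rintro _ ⟨g, rfl⟩
  obtain ⟨a, b, c, d, hd, rfl⟩ := mob_surj g
  rw [map_mob, mob_mem_PSL2_iff]
  exact (isSquare_sub h2 hq hd).2 (Or.inl hr)

theorem Sub_inf_L (h2 : (2 : F) ≠ 0) {R : Subfield F} {r : ℕ} (hq : Fintype.card F = Nat.card R ^ r) (hr : Odd r) :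
    Sub R ⊓ PSL2 F = SubL R := by
  refine le_antisymm ?_ (SubL_le R)
  rintro _ ⟨⟨g, rfl⟩, hg⟩
  obtain ⟨a, b, c, d, hd, rfl⟩ := mob_surj g
  refine ⟨_, (mob_mem_PSL2_iff hd).2 ?_, rfl⟩
  rw [map_mob] at hg
  exact ((isSquare_sub h2 hq hd).1 ((mob_mem_PSL2_iff _).1 hg)).resolve_left (Nat.not_even_iff_odd.2 hr)

theorem not_L_le_stab [DecidableEq F] (x : OnePoint F) : ¬ PSL2 F ≤ stabilizer PGL(2, F) x := fun h => by
  obtain ⟨g, hg, rfl⟩ := exists_smul_infty x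
  have h1 : g • (∞ : OnePoint F) = ∞ := smul_left_cancel g (h hg)
  obtain ⟨s, hs, h2⟩ := exists_smul_infty ((0 : F) : OnePoint F)
  have h3 : s • g • (∞ : OnePoint F) = g • ∞ := h hs
  rw [h1, h2] at h3
  exact coe_ne_infty _ h3

theorem card_stab [DecidableEq F] (x : OnePoint F) :
    Nat.card (stabilizer PGL(2, F) x) = Fintype.card F * (Fintype.card F - 1) := by
  have h1 := card_orbit_mul_card_stab (G := PGL(2, F)) x
  have h2 : orbit PGL(2, F) x = Set.univ := Set.eq_univ_of_forall fun y => by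
    obtain ⟨g, -, rfl⟩ := exists_smul_infty x
    obtain ⟨s, -, rfl⟩ := exists_smul_infty y
    exact ⟨s * g⁻¹, by simp [mul_smul]⟩
  have h3 : Nat.card (OnePoint F) = Fintype.card F + 1 := by
    rw [← Nat.card_eq_fintype_card]; exact Finite.card_option
  rw [h2, Nat.card_univ, h3, card_PGL2, mul_comm] at h1
  exact Nat.eq_of_mul_eq_mul_right (Nat.succ_pos _) h1

theorem card_stab_L [DecidableEq F] (ho : Odd (Fintype.card F)) (x : OnePoint F) :
    2 * Nat.card (stabilizer PGL(2, F) x ⊓ PSL2 F : Subgroup _) = Fintype.card F * (Fintype.card F - 1) := by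
  have h1 := index_stabilizer_PSL2 x
  have h2 := ((stabilizer PGL(2, F) x).comap (ι F)).index_mul_card
  have h3 := card_PSL2 (F := F)
  have h4 : Nat.card ((stabilizer PGL(2, F) x).comap (ι F)) = Nat.card (stabilizer PGL(2, F) x ⊓ PSL2 F : Subgroup _) := by
    rw [← card_map_of_injective ι_injective, map_comap_eq, inf_comm]; rfl
  rw [Nat.gcd_eq_left (by have := Nat.odd_iff.1 ho; omega), ← h2, h1, h4, Nat.card_eq_fintype_card] at h3
  exact Nat.eq_of_mul_eq_mul_right (Nat.add_one_pos (Fintype.card F)) (by rw [← h3]; ring)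

/-- The shapes of the maximal subgroups. -/
theorem max_struct [DecidableEq F] (p : ℕ) [Fact p.Prime] [CharP F p] (hq : 4 ≤ Fintype.card F)
    {M X : Subgroup PGL(2, F)} [X.Normal] (h : M ⋖ X) (hX : PSL2 F ≤ X) (hL : ¬ PSL2 F ≤ M) :
    (∃ x : OnePoint F, M = stabilizer PGL(2, F) x ⊓ X) ∨
    (∃ x y n, Tor x y n ∧ (n = Fintype.card F - 1 ∨ n = Fintype.card F + 1) ∧ M = PairSt x y ⊓ X) ∨
    (¬ p ∣ Nat.card M ∧ (Nonempty (M ≃* alternatingGroup (Fin 4)) ∨ Nonempty (M ≃* Equiv.Perm (Fin 4)))) ∨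
    ((¬ p ∣ Nat.card M ∨ p = 3) ∧ Nonempty (M ≃* alternatingGroup (Fin 5))) ∨
    (Nat.card M ≠ 6 ∧ ∃ (R : Subfield F) (r : ℕ) (t : PGL(2, F)), r.Prime ∧
      Fintype.card F = Nat.card R ^ r ∧ cj t M = Sub R ⊓ X) := by
  by_cases h0 : (∃ x : PL F, ∀ g ∈ M, g • x = x) ∨ (∃ x : PL F, Nat.card (orbit M x) = 2)
  · rcases pair_cases h0 with ⟨x, hx⟩ | ⟨x, y, hxy, hle⟩
    · exact Or.inl ⟨x, cov_eq h hX hx (not_L_le_stab x)⟩
    · rcases hxy with hxy | hxy
      · exact Or.inr (Or.inl ⟨x, y, _, hxy, Or.inl rfl, cov_eq h hX hle (hxy.not_le hq (by omega))⟩)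
      · exact Or.inr (Or.inl ⟨x, y, _, hxy, Or.inr rfl, cov_eq h hX hle (hxy.not_le hq le_rfl)⟩)
  refine Or.inr (Or.inr ?_)
  rcases dickson_PGL p M with h1 | h1 | ⟨h1, h2 | h2 | h2⟩ | ⟨h1, h2⟩ | ⟨R, t, h1⟩
  · exact absurd (Or.inl h1) h0
  · exact absurd (Or.inr h1) h0
  · exact Or.inl ⟨h1, Or.inl h2⟩
  · exact Or.inl ⟨h1, Or.inr h2⟩
  · exact Or.inr (Or.inl ⟨Or.inl h1, h2⟩)
  · exact Or.inr (Or.inl ⟨Or.inr h1, h2⟩)
  have hR : R ≠ ⊤ := by
    rintro rfl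
    refine not_le_cj hL t ?_
    have hs : Function.Surjective (⊤ : Subfield F).subtype := fun x => ⟨⟨x, trivial⟩, rfl⟩
    rcases h1 with h1 | h1
    · rw [cj, h1, MonoidHom.range_eq_top.2 (PGL2_map_surjective hs)]; exact le_top
    · rw [cj, h1, map_PSL2_eq hs]
  obtain ⟨S, r, hS, hr, hc⟩ := H29.exists_prime_index hR
  have hS1 : S ≠ ⊤ := by
    rintro rfl
    rw [Nat.card_congr Subfield.topEquiv.toEquiv, Nat.card_eq_fintype_card] at hc
    have := Nat.pow_lt_pow_right (a := Fintype.card F) (by omega) hr.one_lt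
    rw [pow_one] at this
    omega
  refine Or.inr (Or.inr ⟨fun h6 => h0 ?_, S, r, t, hr, hc,
    cov_eq (cov_cj h t) hX (le_trans ?_ (Sub_mono hS)) (not_L_le_Sub hS1)⟩)
  · obtain ⟨g, hg, ho⟩ := exists_mem_orderOf_eq M Nat.prime_three (by rw [h6]; norm_num)
    obtain ⟨x, hx⟩ := (p1Like_PL F).fix_exists g
    have h2 := card_orbit_mul_card_stab (G := M) x
    obtain ⟨k, hk⟩ : 3 ∣ Nat.card (stabilizer M x) := by
      rw [← ho, show orderOf g = _ from orderOf_coe (⟨g, hg⟩ : M)]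
      exact (stabilizer M x).orderOf_dvd_natCard (x := ⟨g, hg⟩) hx
    rw [h6, hk, mul_left_comm] at h2
    rcases (Nat.dvd_prime Nat.prime_two).1 ⟨k, (Nat.eq_of_mul_eq_mul_left (by norm_num) h2 : _ = 2).symm⟩ with e | e
    · exact Or.inl ⟨x, fun g hg => fixed_of_card_orbit_eq_one e ⟨g, hg⟩⟩
    · exact Or.inr ⟨x, e⟩
  rcases h1 with h1 | h1
  · exact h1.le
  · exact h1.le.trans (map_le_range _ _)

theorem cov_sub {M X : Subgroup PGL(2, F)} [X.Normal] (h : M ⋖ X) (hX : PSL2 F ≤ X)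
    {R : Subfield F} [Fintype R] (hR : R ≠ ⊤) {t : PGL(2, F)} (ht : cj t M ≤ Sub R) :
    Nat.card PSL(2, R) ∣ Nat.card M ∧ Nat.card M ∣ Nat.card PGL(2, R) := by
  have e := cov_eq (cov_cj h t) hX ht (not_L_le_Sub hR)
  rw [← card_cj t M, ← Nat.card_congr (equiv_Sub R).some.toEquiv, ← Nat.card_congr (equiv_SubL R).some.toEquiv]
  exact ⟨card_dvd_of_le (e ▸ (SubL_le R).trans (inf_le_inf_left _ hX)), card_dvd_of_le ht⟩

/-- `M` normalises the four-group `⟨x, y⟩ ≤ PSL2 F`. -/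
structure N4 (M : Subgroup PGL(2, F)) (x y : PGL(2, F)) : Prop where
  kp : KPair x y
  xL : x ∈ PSL2 F
  yL : y ∈ PSL2 F
  xM : x ∈ M
  yM : y ∈ M
  norm : ∀ n ∈ M, n * x * n⁻¹ ∈ closure ({x, y} : Set PGL(2, F)) ∧ n * y * n⁻¹ ∈ closure ({x, y} : Set PGL(2, F))

theorem n4_of_equiv {M : Subgroup PGL(2, F)} {A : Type*} [Group A] (e : M ≃* A) {a b : A} (hk : KPair a b)
    (hn : ∀ n : A, ∀ c, c = a ∨ c = b → n * c * n⁻¹ = a ∨ n * c * n⁻¹ = b ∨ n * c * n⁻¹ = a * b)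
    (ha : (e.symm a : PGL(2, F)) ∈ PSL2 F) (hb : (e.symm b : PGL(2, F)) ∈ PSL2 F) : N4 M (e.symm a) (e.symm b) := by
  have hk' : KPair (e.symm a : PGL(2, F)) (e.symm b) :=
    hk.map (f := M.subtype.comp e.symm.toMonoidHom) (M.subtype_injective.comp e.symm.injective)
  have key : ∀ n (h : n ∈ M) c, c = a ∨ c = b → n * e.symm c * n⁻¹ ∈ closure ({(e.symm a : PGL(2, F)), ↑(e.symm b)} : Set _) :=
    fun n h c hc => by
      have : n * e.symm c * n⁻¹ = e.symm (e ⟨n, h⟩ * c * (e ⟨n, h⟩)⁻¹) := by simp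
      rw [this, hk'.mem_closure_iff]
      rcases hn (e ⟨n, h⟩) c hc with h | h | h <;> simp [h]
  exact ⟨hk', ha, hb, (e.symm a).2, (e.symm b).2, fun n h => ⟨key n h a (Or.inl rfl), key n h b (Or.inr rfl)⟩⟩

theorem n4_of_klein {M : Subgroup PGL(2, F)} (e : (M ⊓ PSL2 F : Subgroup _) ≃* DihedralGroup 2) : ∃ x y, N4 M x y := by
  obtain ⟨x, y, hk, hc⟩ := exists_kPair_of_klein (V := M ⊓ PSL2 F)
    ⟨by rw [Nat.card_congr e.toEquiv, IsKleinFour.card_four],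
      by rw [Monoid.exponent_eq_of_mulEquiv e, IsKleinFour.exponent_two]⟩
  have hx : x ∈ M ⊓ PSL2 F := hc ▸ subset_closure (by simp)
  have hy : y ∈ M ⊓ PSL2 F := hc ▸ subset_closure (by simp)
  refine ⟨x, y, hk, hx.2, hy.2, hx.1, hy.1, fun n hn => ?_⟩
  rw [hc]
  exact ⟨⟨M.mul_mem (M.mul_mem hn hx.1) (M.inv_mem hn), PSL2_normal.conj_mem _ hx.2 _⟩,
    ⟨M.mul_mem (M.mul_mem hn hy.1) (M.inv_mem hn), PSL2_normal.conj_mem _ hy.2 _⟩⟩

theorem kp_conj (h2 : (2 : F) ≠ 0) {x y x' y' : PGL(2, F)} (h : KPair x y) (hx : x ∈ PSL2 F) (hy : y ∈ PSL2 F)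
    (h' : KPair x' y') (hx' : x' ∈ PSL2 F) (hy' : y' ∈ PSL2 F) : ∃ t, t * x * t⁻¹ = x' ∧ t * y * t⁻¹ = y' := by
  obtain ⟨a, b, hab⟩ := exists_sq_add_sq_neg_one (F := F)
  obtain ⟨s, rfl, rfl⟩ := h.exists_conj_std h2 hab hx hy
  obtain ⟨t, rfl, rfl⟩ := h'.exists_conj_std h2 hab hx' hy'
  exact ⟨t * s⁻¹, by group, by group⟩

theorem _root_.H10.KPair.rot {G : Type*} [Group G] {x y : G} (h : KPair x y) : KPair y (x * y) :=
  ⟨h.yy, by simp [mul_assoc, h.yxg, h.xx, h.yy], h.y1, h.xy1, by simp [h.x1], by simp [mul_assoc, h.yxg]⟩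

theorem _root_.H10.KPair.rot' {G : Type*} [Group G] {x y : G} (h : KPair x y) : KPair x (x * y) :=
  ⟨h.xx, h.rot.yy, h.x1, h.xy1, by simp [h.y1], by simp [mul_assoc, h.comm]⟩

theorem conj_mem_closure {G : Type*} [Group G] {x y n : G} (hx : n * x * n⁻¹ ∈ closure ({x, y} : Set G))
    (hy : n * y * n⁻¹ ∈ closure ({x, y} : Set G)) {v : G} (hv : v ∈ closure ({x, y} : Set G)) :
    n * v * n⁻¹ ∈ closure ({x, y} : Set G) :=
  (show closure ({x, y} : Set G) ≤ (closure {x, y}).comap (MulAut.conj n).toMonoidHom from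
    (closure_le _).2 (by rintro _ (rfl | rfl); exacts [hx, hy])) hv

namespace N4
variable {M X : Subgroup PGL(2, F)} {x y : PGL(2, F)} (h : N4 M x y)
include h

theorem mem (hq : 4 ≤ Fintype.card F) (ho : Odd (Fintype.card F)) (hc : M ⋖ X) (hX : PSL2 F ≤ X) {n : PGL(2, F)} (hn : n ∈ X)
    (hx : n * x * n⁻¹ ∈ closure ({x, y} : Set PGL(2, F))) (hy : n * y * n⁻¹ ∈ closure ({x, y} : Set PGL(2, F))) : n ∈ M := by
  have key : ∀ n : PGL(2, F), n * x * n⁻¹ ∈ closure ({x, y} : Set PGL(2, F)) → n * y * n⁻¹ ∈ closure ({x, y} : Set PGL(2, F)) →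
      n ∈ normalizer (closure ({x, y} : Set PGL(2, F)) : Set PGL(2, F)) := fun n a b =>
    mem_normalizer_fintype (S := (closure ({x, y} : Set PGL(2, F)) : Set PGL(2, F))) fun v hv => conj_mem_closure a b hv
  rw [cov_eq hc hX (fun n hn => key n (h.norm n hn).1 (h.norm n hn).2) fun hl => ?_]
  · exact ⟨key n hx hy, hn⟩
  have := ProjectiveSpecialLinearGroup.rank_two_simple (F := F) (by rwa [Nat.card_eq_fintype_card])
  have hN : ((closure ({x, y} : Set PGL(2, F))).comap (ι F)).Normal := ⟨fun v hv g => by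
    rw [mem_comap, map_mul, map_mul, map_inv]
    exact (mem_normalizer_iff.1 (hl (ι_mem g)) _).1 hv⟩
  rcases hN.eq_bot_or_eq_top with e | e
  · obtain ⟨x', rfl⟩ := h.xL
    have : x' ∈ (closure ({ι F x', y} : Set PGL(2, F))).comap (ι F) := subset_closure (by simp)
    rw [e, mem_bot] at this
    exact h.kp.x1 (by rw [this, map_one])
  · have h1 : PSL2 F ≤ closure {x, y} := by
      rintro _ ⟨g, rfl⟩
      exact (show g ∈ (closure ({x, y} : Set PGL(2, F))).comap (ι F) from e ▸ mem_top g)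
    have h2 := card_le_of_le h1
    have h3 := card_L_odd ho
    rw [h.kp.card_closure] at h2
    have : 4 * 3 * 5 ≤ Fintype.card F * (Fintype.card F - 1) * (Fintype.card F + 1) :=
      Nat.mul_le_mul (Nat.mul_le_mul hq (by omega)) (by omega)
    omega

theorem three_dvd (hq : 4 ≤ Fintype.card F) (ho : Odd (Fintype.card F)) (hc : M ⋖ X) (hX : PSL2 F ≤ X) :
    3 ∣ Nat.card M := by
  obtain ⟨t, h1, h2⟩ := kp_conj (two_ne_of_odd ho) h.kp h.xL h.yL h.kp.rot h.yL (mul_mem h.xL h.yL)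
  have h3 : t * (x * y) * t⁻¹ = x := by rw [← conj_mul, h1, h2, h.kp.yxg, h.kp.yy, mul_one]
  have a1 : t * t * x * (t * t)⁻¹ = x * y := by rw [← h2, ← h1]; group
  have a2 : t * t * y * (t * t)⁻¹ = x := by rw [← h3, ← h2]; group
  have a3 : t * t * (x * y) * (t * t)⁻¹ = y := by
    conv_rhs => rw [← h1, ← h3]
    group
  have hm : t * t ∈ M := h.mem hq ho hc hX (hX (sq_mem_PSL2 t)) (by rw [a1, h.kp.mem_closure_iff]; simp)
    (by rw [a2, h.kp.mem_closure_iff]; simp)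
  generalize t * t = s at a1 a2 a3 hm
  have h4 : s ^ 3 * x * (s ^ 3)⁻¹ = x := by
    rw [show s ^ 3 * x * (s ^ 3)⁻¹ = s * (s * (s * x * s⁻¹) * s⁻¹) * s⁻¹ by simp [pow_succ, mul_assoc], a1, a3, a2]
  by_contra hn
  have h5 := pow_card_eq_one' (x := (⟨s, hm⟩ : M))
  obtain ⟨k, hk⟩ := Nat.exists_mul_mod_eq_one_of_coprime
    (((Nat.Prime.coprime_iff_not_dvd Nat.prime_three).2 hn).symm) (by norm_num)
  have h6 : s ^ (Nat.card M * k) = 1 := by
    rw [pow_mul, show s ^ Nat.card M = 1 from congrArg Subtype.val h5, one_pow]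
  have h7 : Commute (s ^ 3) x := mul_inv_eq_iff_eq_mul.1 h4
  rw [← Nat.div_add_mod (Nat.card M * k) 3, hk.2, pow_add, pow_one, pow_mul] at h6
  have h8 : Commute s x := eq_inv_of_mul_eq_one_right h6 ▸ (h7.pow_left _).inv_left
  rw [h8.eq, mul_inv_cancel_right] at a1
  exact h.kp.y1 (by simpa using a1)

theorem conj_std (h2 : (2 : F) ≠ 0) {a b : F} (hab : a ^ 2 + b ^ 2 = -1) : ∃ t : PGL(2, F), ∀ n : PGL(2, F),
    n * x * n⁻¹ ∈ closure ({x, y} : Set PGL(2, F)) → n * y * n⁻¹ ∈ closure ({x, y} : Set PGL(2, F)) →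
      (t⁻¹ * n * t) * inv0 F * (t⁻¹ * n * t)⁻¹ ∈ closure ({inv0 F, inv1 hab} : Set PGL(2, F)) ∧
      (t⁻¹ * n * t) * inv1 hab * (t⁻¹ * n * t)⁻¹ ∈ closure ({inv0 F, inv1 hab} : Set PGL(2, F)) := by
  obtain ⟨t, rfl, rfl⟩ := h.kp.exists_conj_std h2 hab h.xL h.yL
  have key : ∀ n v, n * (t * v * t⁻¹) * n⁻¹ ∈ closure ({t * inv0 F * t⁻¹, t * inv1 hab * t⁻¹} : Set PGL(2, F)) →
      (t⁻¹ * n * t) * v * (t⁻¹ * n * t)⁻¹ ∈ closure ({inv0 F, inv1 hab} : Set PGL(2, F)) := fun n v hv => by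
    rw [show (t⁻¹ * n * t) * v * (t⁻¹ * n * t)⁻¹ = t⁻¹ * (n * (t * v * t⁻¹) * n⁻¹) * t by group,
      (kPair_inv h2 hab).mem_closure_iff]
    rcases h.kp.mem_closure_iff.1 hv with e | e | e | e <;> rw [e] <;> simp [mul_assoc]
  exact ⟨t, fun n h1 h2 => ⟨key n _ h1, key n _ h2⟩⟩

theorem mem_L (h2 : (2 : F) ≠ 0) (hsq : IsSquare (2 : F)) {n : PGL(2, F)}
    (hx : n * x * n⁻¹ ∈ closure ({x, y} : Set PGL(2, F))) (hy : n * y * n⁻¹ ∈ closure ({x, y} : Set PGL(2, F))) :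
    n ∈ PSL2 F := by
  obtain ⟨a, b, hab⟩ := exists_sq_add_sq_neg_one (F := F)
  obtain ⟨t, ht⟩ := h.conj_std h2 hab
  simpa [mul_assoc] using PSL2_normal.conj_mem _ (mem_PSL2_of_normalizes h2 hsq hab (ht n hx hy).1 (ht n hx hy).2) t

theorem le_sub (h2 : (2 : F) ≠ 0) (R : Subfield F) : ∃ t, cj t M ≤ Sub R := by
  have := Fintype.ofFinite R
  obtain ⟨⟨a, ha⟩, ⟨b, hb⟩, hab'⟩ := exists_sq_add_sq_neg_one (F := R)
  have hab : a ^ 2 + b ^ 2 = -1 := congrArg Subtype.val hab'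
  obtain ⟨t, ht⟩ := h.conj_std h2 hab
  refine ⟨t⁻¹, fun g hg => ?_⟩
  rw [mem_cj, inv_inv] at hg
  have h3 := ht _ (h.norm _ hg).1 (h.norm _ hg).2
  rw [show t⁻¹ * (t * g * t⁻¹) * t = g by group] at h3
  refine (kPair_inv h2 hab).mem_of_normalizes (S := Sub R) (fun g h0 h1 => ?_)
    (t₁ := mob 1 (-1) 1 1 (by rw [show (1 : F) * 1 - -1 * 1 = 2 by ring]; exact h2))
    (t₂ := mob (1 + a) b b (1 - a)
      (by rw [show (1 + a) * (1 - a) - b * b = 2 by linear_combination -hab]; exact h2))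
    ?_ ?_ ?_ ?_ ?_ ?_ h3.1 h3.2
  · refine (closure_le (Sub R)).2 ?_ (mem_of_commute_inv h2 hab h0 h1)
    rintro _ (rfl | rfl)
    exacts [mob_mem_Sub _ (zero_mem _) (neg_mem (one_mem _)) (one_mem _) (zero_mem _),
      mob_mem_Sub _ ha hb hb (neg_mem ha)]
  · exact mob_mem_Sub _ (one_mem _) (neg_mem (one_mem _)) (one_mem _) (one_mem _)
  · exact mob_mem_Sub _ (add_mem (one_mem _) ha) hb hb (sub_mem (one_mem _) ha)
  · rw [inv0, mob_mul, mob_mul]; apply mob_congr <;> ring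
  · rw [inv0, inv1, mob_mul, mob_mul, mob_mul]; apply mob_congr <;> ring
  · rw [inv0, inv1, mob_mul, mob_mul, mob_mul, mob_eq_mob_iff]
    refine ⟨-1, by simp, by ring, ?_, ?_, by ring⟩
    · linear_combination -hab
    · linear_combination hab
  · rw [inv1, mob_mul, mob_mul]; apply mob_congr <;> ring

theorem card_eq (p : ℕ) [Fact p.Prime] [CharP F p] [X.Normal] (ho : Odd (Fintype.card F)) (hc : M ⋖ X) (hX : PSL2 F ≤ X)
    (hp : ¬ p ∣ Nat.card M) : Fintype.card F = p := by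
  have h0 := Subfield.card_bot F p
  by_cases e : (⊥ : Subfield F) = ⊤
  · rwa [e, Nat.card_congr Subfield.topEquiv.toEquiv, Nat.card_eq_fintype_card] at h0
  have := Fintype.ofFinite (⊥ : Subfield F)
  have h2 := two_ne_of_odd ho
  obtain ⟨t, ht⟩ := h.le_sub h2 ⊥
  refine absurd (dvd_trans ?_ (cov_sub hc hX e ht).1) hp
  have h1 := card_PSL2 (F := (⊥ : Subfield F))
  rw [← Nat.card_eq_fintype_card, h0, mul_assoc] at h1
  refine ((Nat.Prime.dvd_mul Fact.out).1 (h1 ▸ dvd_mul_right p _)).resolve_left fun h3 => ?_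
  exact char_ne_two_of_two_ne_zero h2 p ((Nat.prime_dvd_prime_iff_eq Fact.out Nat.prime_two).1
    (h3.trans (Nat.gcd_dvd_left _ _)))

end N4

theorem comm_mem_PSL2 {K : Type*} [Field K] (u v : PGL(2, K)) : u * v * u⁻¹ * v⁻¹ ∈ PSL2 K := by
  rw [show u * v * u⁻¹ * v⁻¹ = (u * v) * (u * v) * (v⁻¹ * ((u⁻¹ * u⁻¹) * v⁻¹⁻¹) * (v⁻¹ * v⁻¹)) by group]
  exact mul_mem (sq_mem_PSL2 _) (mul_mem (by rw [← mul_assoc]; exact PSL2_normal.conj_mem _ (sq_mem_PSL2 _) _)
    (sq_mem_PSL2 _))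

theorem n4_S4 {M : Subgroup PGL(2, F)} (e : M ≃* Equiv.Perm (Fin 4)) : ∃ x y, N4 M x y := by
  have key : ∀ c : Equiv.Perm (Fin 4), (e.symm (c * c) : PGL(2, F)) ∈ PSL2 F := fun c => by
    rw [map_mul]; exact sq_mem_PSL2 _
  exact ⟨_, _, n4_of_equiv e (a := c[0, 2, 1, 3] * c[0, 2, 1, 3]) (b := c[0, 1, 2, 3] * c[0, 1, 2, 3])
    ⟨by decide, by decide, by decide, by decide, by decide, by decide⟩
    (by rintro n c (rfl | rfl) <;> revert n <;> decide +kernel) (key _) (key _)⟩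

theorem A4_sq : ∀ g : alternatingGroup (Fin 4), ∃ a b : alternatingGroup (Fin 4), g = a * a * (b * b) := by
  decide +kernel

theorem le_L_A4 {M : Subgroup PGL(2, F)} (e : M ≃* alternatingGroup (Fin 4)) : M ≤ PSL2 F := fun g hg => by
  obtain ⟨a, b, h⟩ := A4_sq (e ⟨g, hg⟩)
  have : g = e.symm a * e.symm a * (e.symm b * e.symm b) := by
    simpa using congrArg (fun z => (e.symm z : PGL(2, F))) h
  exact this ▸ mul_mem (sq_mem_PSL2 _) (sq_mem_PSL2 _)

theorem le_L_A5 {M : Subgroup PGL(2, F)} (e : M ≃* alternatingGroup (Fin 5)) : M ≤ PSL2 F := by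
  have hN : (((PSL2 F).comap M.subtype).comap e.symm.toMonoidHom).Normal := inferInstance
  rcases hN.eq_bot_or_eq_top with h | h
  · have : (⟨c[0, 1, 2], Equiv.Perm.mem_alternatingGroup.2 (by decide)⟩ * ⟨c[0, 1, 2], Equiv.Perm.mem_alternatingGroup.2 (by decide)⟩ : alternatingGroup (Fin 5)) ∈
        ((PSL2 F).comap M.subtype).comap e.symm.toMonoidHom := by
      rw [mem_comap, mem_comap, map_mul, map_mul]; exact sq_mem_PSL2 _
    rw [h, mem_bot] at this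
    exact absurd this (by decide)
  · intro g hg
    have : e ⟨g, hg⟩ ∈ ((PSL2 F).comap M.subtype).comap e.symm.toMonoidHom := h ▸ mem_top _
    simpa [mem_subgroupOf] using this

theorem n4_A4 {M : Subgroup PGL(2, F)} (e : M ≃* alternatingGroup (Fin 4)) : ∃ x y, N4 M x y :=
  ⟨_, _, n4_of_equiv e (a := ⟨c[0, 2, 1, 3] * c[0, 2, 1, 3], Equiv.Perm.mem_alternatingGroup.2 (by decide)⟩) (b := ⟨c[0, 1, 2, 3] * c[0, 1, 2, 3], Equiv.Perm.mem_alternatingGroup.2 (by decide)⟩)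
    ⟨by decide, by decide, by decide, by decide, by decide, by decide⟩
    (by rintro n c (rfl | rfl) <;> revert n <;> decide +kernel) (le_L_A4 e (e.symm _).2) (le_L_A4 e (e.symm _).2)⟩

theorem n4_D4 {M : Subgroup PGL(2, F)} (hM : M ≤ PSL2 F) (e : M ≃* DihedralGroup 4) : ∃ x y, N4 M x y :=
  ⟨_, _, n4_of_equiv e (a := DihedralGroup.r 2) (b := DihedralGroup.sr 0)
    ⟨by decide, by decide, by decide, by decide, by decide, by decide⟩
    (by rintro n c (rfl | rfl) <;> revert n <;> decide) (hM (e.symm _).2) (hM (e.symm _).2)⟩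

theorem mob_pow_three {K : Type*} [Field K] {a b c d : K} (h : a * d - b * c ≠ 0) (h3 : mob a b c d h ^ 3 = 1)
    (h1 : mob a b c d h ≠ 1) : (a + d) ^ 2 = a * d - b * c := by
  rw [pow_succ, pow_two, mob_mul, mob_mul, mob_eq_one_iff] at h3
  by_contra hn
  have hn' := sub_ne_zero.2 hn
  exact h1 ((mob_eq_one_iff h).2 ⟨mul_left_cancel₀ hn' (by linear_combination h3.1),
    mul_left_cancel₀ hn' (by linear_combination h3.2.1), mul_left_cancel₀ hn' (by linear_combination h3.2.2)⟩)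

theorem mob_pow_five {K : Type*} [Field K] {a b c d : K} (h : a * d - b * c ≠ 0) (h5 : mob a b c d h ^ 5 = 1)
    (h1 : mob a b c d h ≠ 1) :
    (a + d) ^ 4 - 3 * (a + d) ^ 2 * (a * d - b * c) + (a * d - b * c) ^ 2 = 0 := by
  rw [pow_succ, pow_succ, pow_succ, pow_two, mob_mul, mob_mul, mob_mul, mob_mul, mob_eq_one_iff] at h5
  by_contra hn
  exact h1 ((mob_eq_one_iff h).2 ⟨mul_left_cancel₀ hn (by linear_combination h5.1),
    mul_left_cancel₀ hn (by linear_combination h5.2.1), mul_left_cancel₀ hn (by linear_combination h5.2.2)⟩)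

theorem conj_rot {K : Type*} [Field K] (h2 : (2 : K) ≠ 0) {s τ α β α' β' κ : K} (hκ : κ ≠ 0) (h : α ^ 2 + β ^ 2 = κ)
    (h' : α' ^ 2 + β' ^ 2 = κ) (hd : (s + α) * (s - α) - (β + τ) * (β - τ) ≠ 0)
    (hd' : (s + α') * (s - α') - (β' + τ) * (β' - τ) ≠ 0) : ∃ t : PGL(2, K), t * inv0 K * t⁻¹ = inv0 K ∧
      t * mob (s + α) (β + τ) (β - τ) (s - α) hd * t⁻¹ = mob (s + α') (β' + τ) (β' - τ) (s - α') hd' := by
  simp only [mul_inv_eq_iff_eq_mul]
  by_cases hc : κ + (α * α' + β * β') = 0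
  · refine ⟨inv0 K, rfl, ?_⟩
    have hs : α * β' - β * α' = 0 := pow_eq_zero_iff two_ne_zero |>.1 (by
      linear_combination (α' ^ 2 + β' ^ 2) * h + κ * h' + (κ - (α * α' + β * β')) * hc)
    obtain rfl : α' = -α := mul_left_cancel₀ hκ (by linear_combination -α' * h + α * hc - β * hs)
    obtain rfl : β' = -β := mul_left_cancel₀ hκ (by linear_combination -β' * h + β * hc + α * hs)
    rw [inv0, mob_mul, mob_mul]
    apply mob_congr <;> ring
  · refine ⟨mob (κ + (α * α' + β * β')) (α' * β - α * β') (-(α' * β - α * β'))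
      (κ + (α * α' + β * β')) (fun e => mul_ne_zero (mul_ne_zero h2 hκ) hc ?_), ?_, ?_⟩
    · linear_combination e - (α' ^ 2 + β' ^ 2) * h - κ * h'
    · rw [inv0, mob_mul, mob_mul]; apply mob_congr <;> ring
    · rw [mob_mul, mob_mul]
      apply mob_congr
      · linear_combination α' * h - α * h'
      · linear_combination β' * h - β * h'
      · linear_combination β' * h - β * h'
      · linear_combination -α' * h + α * h'

theorem exists_sq_add_sq {K : Type*} [Field K] [Finite K] (h2 : (2 : K) ≠ 0) (κ : K) : ∃ a b : K, a ^ 2 + b ^ 2 = κ := by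
  have := Fintype.ofFinite K
  obtain ⟨a, c, h⟩ := FiniteField.exists_root_sum_quadratic
    (f := Polynomial.C (1 : K) * Polynomial.X ^ 2 + Polynomial.C 0 * Polynomial.X + Polynomial.C (-κ))
    (g := Polynomial.C (1 : K) * Polynomial.X ^ 2 + Polynomial.C 0 * Polynomial.X + Polynomial.C 0)
    (Polynomial.degree_quadratic one_ne_zero) (Polynomial.degree_quadratic one_ne_zero)
    (Nat.odd_iff.1 (H24.odd_of_two_ne_zero h2))
  simp only [Polynomial.eval_add, Polynomial.eval_mul, Polynomial.eval_C, Polynomial.eval_pow, Polynomial.eval_X] at h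
  exact ⟨a, c, by linear_combination h⟩

theorem pair_conj (h2 : (2 : F) ≠ 0) {R : Subfield F} {γ : F} (hγ : γ ∈ R) (hg : γ ^ 2 = γ + 1) {x y : PGL(2, F)}
    (hx : x ∈ PSL2 F) (hy : y ∈ PSL2 F) (xx : x * x = 1) (x1 : x ≠ 1) (y3 : y ^ 3 = 1) (y1 : y ≠ 1)
    (z5 : (x * y) ^ 5 = 1) (z1 : x * y ≠ 1) : ∃ t, t * x * t⁻¹ ∈ Sub R ∧ t * y * t⁻¹ ∈ Sub R := by
  obtain ⟨a0, b0, hab⟩ := exists_sq_add_sq_neg_one (F := F)
  have hk := kPair_inv h2 hab
  obtain ⟨u, -, hu⟩ := exists_conj_involution h2 hx xx x1 inv0_mem hk.xx hk.x1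
  have e3 : (u * y * u⁻¹) ^ 3 = 1 := by rw [conj_pow, y3]; simp
  have e5 : (inv0 F * (u * y * u⁻¹)) ^ 5 = 1 := by rw [← hu, conj_mul, conj_pow, z5]; simp
  have n3 : u * y * u⁻¹ ≠ 1 := fun e => y1 (conj_eq_one_iff.1 e)
  have n5 : inv0 F * (u * y * u⁻¹) ≠ 1 := by rw [← hu, conj_mul]; exact fun e => z1 (conj_eq_one_iff.1 e)
  obtain ⟨w, hw⟩ := mem_PSL2_iff_exists.1 (PSL2_normal.conj_mem _ hy u)
  obtain ⟨a, b, c, d, hd, rfl⟩ := slMk_surj w
  rw [toPGL_slMk] at hw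
  rw [← hw] at e3 e5 n3 n5
  rw [inv0, mob_mul] at e5 n5
  have hs : (a + d) ^ 2 = 1 := hd ▸ mob_pow_three _ e3 n3
  have ht : (b - c) ^ 4 - 3 * (b - c) ^ 2 + 1 = 0 := by
    have := mob_pow_five _ e5 n5
    rw [show (0 * a + -1 * c) * (1 * b + 0 * d) - (0 * b + -1 * d) * (1 * a + 0 * c) = 1 by linear_combination hd] at this
    linear_combination this
  have hsR : a + d ∈ R := by
    rcases sq_eq_one_iff.1 hs with e | e <;> rw [e]
    exacts [one_mem _, neg_mem (one_mem _)]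
  have htR : b - c ∈ R := by
    have : (b - c - γ) * (b - c - (1 - γ)) * ((b - c - -γ) * (b - c - (γ - 1))) = 0 := by
      linear_combination ht + (γ ^ 2 - γ + 1 - 2 * (b - c) ^ 2) * hg
    simp only [mul_eq_zero, sub_eq_zero (a := b - c)] at this
    rcases this with (e | e) | e | e <;> rw [e]
    exacts [hγ, sub_mem (one_mem _) hγ, neg_mem hγ, sub_mem hγ (one_mem _)]
  have hκ : (b - c) ^ 2 - 3 ≠ 0 := fun e => one_ne_zero (by linear_combination ht - (b - c) ^ 2 * e : (1 : F) = 0)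
  obtain ⟨⟨α, hα⟩, ⟨β, hβ⟩, h'⟩ := exists_sq_add_sq (K := R) (fun e => h2 (congrArg Subtype.val e))
    ⟨(b - c) ^ 2 - 3, sub_mem (pow_mem htR 2) (ofNat_mem R 3)⟩
  have h'' : α ^ 2 + β ^ 2 = (b - c) ^ 2 - 3 := congrArg Subtype.val h'
  have h4 : (4 : F) ≠ 0 := by rw [show (4 : F) = 2 * 2 by norm_num]; exact mul_ne_zero h2 h2
  obtain ⟨t, t1, t2⟩ := conj_rot h2 (s := a + d) (τ := b - c) (α := a - d) (β := b + c) hκ
    (by linear_combination hs - 4 * hd) h'' (fun e => h4 (by linear_combination e - 4 * hd))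
    (fun e => h4 (by linear_combination e + h'' - hs))
  refine ⟨t * u, ?_, ?_⟩
  · rw [show t * u * x * (t * u)⁻¹ = t * (u * x * u⁻¹) * t⁻¹ by group, hu, t1]
    exact mob_mem_Sub _ (zero_mem _) (neg_mem (one_mem _)) (one_mem _) (zero_mem _)
  · rw [← (mob_eq_mob_iff (a := a) (b := b) (c := c) (d := d) (by rw [hd]; exact one_ne_zero) _).2
      ⟨2, h2, by ring, by ring, by ring, by ring⟩, hw] at t2
    rw [show t * u * y * (t * u)⁻¹ = t * (u * y * u⁻¹) * t⁻¹ by group, t2]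
    exact mob_mem_Sub _ (add_mem hsR hα) (add_mem hβ htR) (sub_mem hβ htR) (sub_mem hsR hα)

theorem A5_gen : ∃ x y : alternatingGroup (Fin 5), x * x = 1 ∧ x ≠ 1 ∧ y ^ 3 = 1 ∧ y ≠ 1 ∧ (x * y) ^ 5 = 1 ∧ x * y ≠ 1 :=
  ⟨⟨c[0, 1] * c[2, 3], Equiv.Perm.mem_alternatingGroup.2 (by decide)⟩, ⟨c[0, 2, 4], Equiv.Perm.mem_alternatingGroup.2 (by decide)⟩, by decide +kernel⟩

theorem a5_conj (h2 : (2 : F) ≠ 0) {R : Subfield F} {γ : F} (hγ : γ ∈ R) (hg : γ ^ 2 = γ + 1) {M : Subgroup PGL(2, F)}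
    (e : M ≃* alternatingGroup (Fin 5)) : ∃ t, cj t M ≤ Sub R := by
  obtain ⟨a, b, h1, h3, h4, h5, h6, h7⟩ := A5_gen
  let f := M.subtype.comp e.symm.toMonoidHom
  have hf : Function.Injective f := M.subtype_injective.comp e.symm.injective
  have a1 : f a ≠ 1 := fun h => h3 (hf (h.trans (map_one f).symm))
  have xx : f a * f a = 1 := by rw [← map_mul, h1, map_one]
  have y3 : f b ^ 3 = 1 := by rw [← map_pow, h4, map_one]
  have z5 : (f a * f b) ^ 5 = 1 := by rw [← map_mul, ← map_pow, h6, map_one]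
  obtain ⟨t, t1, t2⟩ := pair_conj h2 hγ hg (le_L_A5 e (e.symm a).2) (le_L_A5 e (e.symm b).2) xx a1 y3
    (fun h => h5 (hf (h.trans (map_one f).symm))) z5 (fun h => h7 (hf (by rw [map_mul, map_one]; exact h)))
  obtain ⟨g, g1, g2⟩ := exists_injective_A5 (by rw [pow_two, xx]) y3 z5 a1
  have hM : closure {f a, f b} = M := eq_of_le_of_card_ge
    ((closure_le _).2 (by rintro _ (rfl | rfl); exacts [(e.symm a).2, (e.symm b).2]))
    (by rw [← g2, Nat.card_congr e.toEquiv, ← Nat.card_congr (MonoidHom.ofInjective g1).toEquiv])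
  refine ⟨t, map_le_iff_le_comap.2 ?_⟩
  rw [← hM, closure_le]
  rintro _ (rfl | rfl)
  exacts [t1, t2]

theorem a5_top (p : ℕ) [Fact p.Prime] [CharP F p] (h2 : (2 : F) ≠ 0) (h5 : p ≠ 5) {M X : Subgroup PGL(2, F)} [X.Normal]
    (h : M ⋖ X) (hX : PSL2 F ≤ X) (e : M ≃* alternatingGroup (Fin 5)) {R : Subfield F} {γ : F} (hγ : γ ∈ R)
    (hg : γ ^ 2 = γ + 1) : R = ⊤ := by
  by_contra hR
  have := Fintype.ofFinite R
  obtain ⟨t, ht⟩ := a5_conj h2 hγ hg e
  obtain ⟨h3, h4⟩ := cov_sub h hX hR ht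
  rw [Nat.card_congr e.toEquiv, card_alt_five] at h3 h4
  have h6 := card_PSL2 (F := R)
  have h7 := Nat.mul_le_mul (Nat.gcd_le_left (Fintype.card R - 1) two_pos) (Nat.le_of_dvd (by norm_num) h3)
  rw [card_PGL2] at h4
  rw [h6] at h7
  have h8 := Nat.odd_iff.1 (H24.odd_of_two_ne_zero (F := R) fun e => h2 (congrArg Subtype.val e))
  obtain ⟨n, -, hn⟩ := FiniteField.card R p
  have h9 : Fintype.card R ≠ 5 := fun e => h5 ((Nat.prime_dvd_prime_iff_eq Fact.out Nat.prime_five).1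
    (e ▸ hn ▸ dvd_pow_self p n.ne_zero))
  have h10 := Fintype.one_lt_card (α := R)
  generalize Fintype.card R = q at *
  have : q ≤ 5 := by
    by_contra hq
    have : 6 * 5 * 7 ≤ q * (q - 1) * (q + 1) := Nat.mul_le_mul (Nat.mul_le_mul (by omega) (by omega)) (by omega)
    omega
  interval_cases q <;> omega

theorem exists_golden {K : Type*} [Field K] [Fintype K]
    (h : 5 ∣ Fintype.card K * (Fintype.card K - 1) * (Fintype.card K + 1)) : ∃ τ : K, τ ^ 2 = τ + 1 := by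
  have : Fact (Nat.Prime 5) := ⟨Nat.prime_five⟩
  obtain ⟨z, hz⟩ := exists_prime_orderOf_dvd_card' (G := SL(2, K)) 5 (by rwa [card_SL2])
  exact exists_golden_of_orderOf hz

theorem not_coatom_two_mul {Y : Type*} [Group Y] [Finite Y] [IsSimpleGroup Y] {r : ℕ} [hr : Fact r.Prime] {M H : Subgroup Y}
    (hM : IsCoatom M) (h1 : Nat.card M = 2 * r) {m k : ℕ} (hY : Nat.card Y = r * m) (hm : ¬ r ∣ m) (hH : Nat.card H = r * k)
    (hk : k % r ≠ 1) (hk2 : k ≠ 2) (hkm : k ≠ m) : False := by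
  have hr1 := hr.out.one_lt
  have hsyl : ∀ K : Subgroup Y, r ∣ Nat.card K → ∃ P : Sylow r Y, (P : Subgroup Y) ≤ K := fun K hK => by
    obtain ⟨g, hg, ho⟩ := exists_mem_orderOf_eq K hr.out hK
    obtain ⟨P, hP⟩ := (IsPGroup.of_card (n := 1) (by rw [Nat.card_zpowers, ho, pow_one] : Nat.card (zpowers g) = _)).exists_le_sylow
    refine ⟨P, (eq_of_le_of_card_ge hP ?_).ge.trans (zpowers_le.2 hg)⟩
    rw [sylow_card_of (a := 1) (by rwa [pow_one]) hm P, Nat.card_zpowers, ho, pow_one]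
  obtain ⟨P, hP⟩ := hsyl M ⟨2, by rw [h1, mul_comm]⟩
  obtain ⟨Q, hQ⟩ := hsyl H ⟨k, hH⟩
  obtain ⟨g, rfl⟩ := exists_smul_eq Y Q P
  have hc := sylow_card_of (a := 1) (by rwa [pow_one]) hm (g • Q)
  rw [pow_one] at hc
  set P := g • Q with hPd
  have hP' : (P : Subgroup Y) ≤ cj g H := by rw [hPd, Sylow.coe_subgroup_smul]; exact map_mono hQ
  rw [← card_cj g H] at hH
  generalize cj g H = K at hH hP'
  have hidx : ((P : Subgroup Y).subgroupOf M).index = 2 := by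
    have := ((P : Subgroup Y).subgroupOf M).index_mul_card
    rw [Nat.card_congr (subgroupOfEquivOfLe hP).toEquiv, hc, h1] at this
    exact Nat.eq_of_mul_eq_mul_right hr.out.pos this
  have hN : normalizer ((P : Subgroup Y) : Set Y) = M := by
    refine ((hM.le_iff.1 ((normal_subgroupOf_iff_le_normalizer hP).1 (normal_of_index_eq_two hidx))).resolve_left fun e => ?_)
    rcases (normalizer_eq_top_iff.1 e).eq_bot_or_eq_top with e1 | e1
    · rw [e1, card_bot] at hc; omega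
    · exact hM.1 (top_le_iff.1 (e1 ▸ hP))
  have h3 := card_sylow_mul_card_normalizer (P.subtype hP')
  have h4 : normalizer (((P.subtype hP' : Sylow r K) : Subgroup K) : Set K) = M.subgroupOf K := by
    rw [Sylow.coe_subtype, ← subgroupOf_normalizer_eq hP', hN]
  have h5 : Nat.card (M.subgroupOf K) = Nat.card (M ⊓ K : Subgroup Y) := by
    rw [← inf_subgroupOf_right, Nat.card_congr (subgroupOfEquivOfLe inf_le_right).toEquiv]
  have h6 : Nat.card (Sylow r K) ≡ 1 [MOD r] := card_sylow_modEq_one r K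
  obtain ⟨j, hj⟩ : r ∣ Nat.card (M ⊓ K : Subgroup Y) := hc ▸ card_dvd_of_le (le_inf hP hP')
  have h7 : j ∣ 2 := by
    have := card_dvd_of_le (inf_le_left : M ⊓ K ≤ M)
    rw [hj, h1, mul_comm 2] at this
    exact Nat.dvd_of_mul_dvd_mul_left hr.out.pos this
  rcases (Nat.dvd_prime Nat.prime_two).1 h7 with rfl | rfl
  · rw [h4, h5, hj, mul_one, hH, mul_comm] at h3
    rw [Nat.eq_of_mul_eq_mul_left hr.out.pos h3, Nat.ModEq, Nat.mod_eq_of_lt hr1] at h6
    exact hk h6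
  · have h8 : M ≤ K := inf_eq_left.1 (eq_of_le_of_card_ge inf_le_left (by rw [hj, h1, mul_comm]))
    rcases hM.le_iff.1 h8 with e | e
    · rw [e, card_top, hY] at hH
      exact hkm (Nat.eq_of_mul_eq_mul_left hr.out.pos hH).symm
    · rw [e, h1, mul_comm] at hH
      exact hk2 (Nat.eq_of_mul_eq_mul_left hr.out.pos hH).symm

theorem pgl_struct [DecidableEq F] (ho : Odd (Fintype.card F)) (hq : 4 ≤ Fintype.card F) {M : Subgroup PGL(2, F)}
    (hM : IsCoatom M) (hL : ¬ PSL2 F ≤ M) : (∃ x : OnePoint F, M = stabilizer PGL(2, F) x) ∨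
    (∃ x y n, Tor x y n ∧ ((n = Fintype.card F - 1 ∧ Fintype.card F ≠ 5) ∨ n = Fintype.card F + 1) ∧ M = PairSt x y) ∨
    ((Fintype.card F).Prime ∧ (Fintype.card F % 8 = 3 ∨ Fintype.card F % 8 = 5) ∧ Nonempty (M ≃* Equiv.Perm (Fin 4))) ∨
    ∃ (R : Subfield F) (r : ℕ) (t : PGL(2, F)), r.Prime ∧ Odd r ∧ Fintype.card F = Nat.card R ^ r ∧ cj t M = Sub R := by
  obtain ⟨p, hp⟩ := CharP.exists F
  have : Fact p.Prime := ⟨CharP.char_is_prime F p⟩
  have h2 := two_ne_of_odd ho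
  have h := covBy_top_iff.2 hM
  have hn : ¬ M ≤ PSL2 F := fun hl => by
    rcases hM.le_iff.1 hl with e | e
    · have := index_L_odd ho
      rw [e, index_top] at this
      omega
    · exact hL e.le
  rcases max_struct p hq h le_top hL with ⟨x, hx⟩ | ⟨x, y, n, h1, h3, h4⟩ | ⟨h1, ⟨⟨e⟩⟩ | ⟨⟨e⟩⟩⟩ | ⟨-, ⟨e⟩⟩ |
    ⟨-, R, r, t, h1, h3, h4⟩
  · exact Or.inl ⟨x, by rwa [inf_top_eq] at hx⟩
  · rw [inf_top_eq] at h4
    refine Or.inr (Or.inl ⟨x, y, n, h1, h3.imp_left fun e => ⟨e, fun h5 => ?_⟩, h4⟩)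
    obtain ⟨h6, t, h7, h8, h9⟩ := h1.odd ho hq h3
    obtain ⟨e'⟩ := h1.dih h7 h8 h9
    rw [show Nat.card (TorSt x y ⊓ PSL2 F : Subgroup _) = 2 by omega, ← h4] at e'
    obtain ⟨a, b, h10⟩ := n4_of_klein e'
    have := h10.three_dvd hq ho h le_top
    rw [h4, h1.card_pair] at this
    omega
  · exact absurd (le_L_A4 e) hn
  · obtain ⟨x, y, h3⟩ := n4_S4 e
    refine Or.inr (Or.inr (Or.inl ⟨h3.card_eq p ho h le_top h1 ▸ this.out, ?_, ⟨e⟩⟩))
    by_contra hc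
    exact hn fun g hg => h3.mem_L h2 (FiniteField.isSquare_two_iff.2 (not_or.1 hc)) (h3.norm g hg).1 (h3.norm g hg).2
  · exact absurd (le_L_A5 e) hn
  · rw [inf_top_eq] at h4
    refine Or.inr (Or.inr (Or.inr ⟨R, r, t, h1, Nat.not_even_iff_odd.1 fun hr => hn ?_, h3, h4⟩))
    have := Sub_le_L h2 h3 hr
    rwa [← h4, ← cj_normal t (PSL2 F), map_le_map_iff_of_injective (MulAut.conj t).injective] at this

end H22
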