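import Cfsg.Agent.H13.C2N
import Cfsg.Agent.H2.FT3b
import Cfsg.Agent.H9.Glaub
import Cfsg.Agent.S5892
import Cfsg.Agent.H23.FT1

/-! Groups in which every nontrivial `{2, r}`-subgroup has a maximal normalizer (`MN`): such a group is simple
(`MN.simple`), has a self-centralizing four-group (`MN.exists_mc4`), and is `PSL₂(13)` (`MN.psl`). -/

set_option autoImplicit false
open Cfsg H18 Subgroup
open H5 (piNat_two_compl)
open H13 (two_elt)
open H10 (KPair)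
open scoped MatrixGroups commutatorElement

namespace H22
universe u

/-- every nontrivial `{2, r}`-subgroup has a maximal normalizer -/
def MN (G : Type*) [Group G] : Prop :=
  ∀ (H : Subgroup G) (r : ℕ), r.Prime → H ≠ ⊥ → PiGrp {2, r} H → IsCoatom N(H)

variable {G : Type u} [Group G] [Finite G] {H K L P X : Subgroup G} {a b r s : ℕ} {c g n t u w x y z : G}

theorem norm_sup_le {π : Set ℕ} (h1 : PiGrp π H) (h2 : PiGrp πᶜ K) (hn : K ≤ N(H)) : N(H ⊔ K) ≤ N(H) := by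
  have := (hall_of_sup h1 h2 (Or.inr hn)).eq_pcore (sup_le le_N hn)
  conv_rhs => rw [← this]
  exact norm_pcore le_rfl

omit [Finite G] in
theorem N_zp (h : t * t = 1) : N(zpowers t) = C1(t) := le_antisymm (fun g hg => by
  rcases mem_zpowers_inv h (conj_mem_N hg (mem_zpowers t)) with k | k
  · rw [conj_eq_one_iff'] at k; exact mem_C1.2 (by rw [k, one_mul, mul_one])
  · exact mem_C1.2 (mul_inv_eq_iff_eq_mul.1 k)) C1_le_N_zpowers

omit [Finite G] in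
theorem coatom_eq {A B : Subgroup G} (hA : IsCoatom A) (hB : IsCoatom B) (h : A ≤ B) : A = B :=
  ((hA.le_iff.1 h).resolve_left hB.1).symm

/-- the four-group generated by `t` and `u` -/
abbrev KV (t u : G) : Subgroup G := closure {t, u}

omit [Finite G] in
theorem KV_two (k : KPair t u) : PiGrp {2} (KV t u) := piGrp_of_card_pow (n := 2) Nat.prime_two k.card_closure
omit [Finite G] in
theorem t_mem : t ∈ KV t u := subset_closure (by simp)
omit [Finite G] in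
theorem u_mem : u ∈ KV t u := subset_closure (by simp)
omit [Finite G] in
theorem KV_le (h1 : t ∈ H) (h2 : u ∈ H) : KV t u ≤ H := (closure_le _).2 (by rintro _ (rfl | rfl) <;> assumption)
omit [Finite G] in
theorem C_KV : C(KV t u) = C1(t) ⊓ C1(u) := le_antisymm (le_inf (C_le_C1 t_mem) (C_le_C1 u_mem))
  (cent_symm (KV_le (le_C1_iff.1 inf_le_left) (le_C1_iff.1 inf_le_right)))
omit [Finite G] in
theorem KV_le_C (k : KPair t u) : KV t u ≤ C1(t) ⊓ C1(u) :=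
  KV_le ⟨C1_self, mem_C1.2 k.comm.symm⟩ ⟨mem_C1.2 k.comm, C1_self⟩
theorem mem_N_KV (h1 : n * t * n⁻¹ ∈ KV t u) (h2 : n * u * n⁻¹ ∈ KV t u) : n ∈ N(KV t u) :=
  mem_N_of_finite fun _ hb => conj_mem_closure h1 h2 hb
omit [Finite G] in
theorem KV_comm : KV t u = KV u t := by rw [KV, Set.pair_comm]
omit [Finite G] in
theorem kp_symm (k : KPair t u) : KPair u t := ⟨k.yy, k.xx, k.y1, k.x1, k.ne.symm, k.comm.symm⟩

omit [Finite G] in
theorem swap_of (k : KPair t u) (hn : n ∈ N(KV t u)) (h1 : n ∈ C1(t)) (h2 : n ∉ C1(u)) : n * u * n⁻¹ = t * u := by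
  rcases k.mem_closure_iff.1 (conj_mem_N hn u_mem) with e | e | e | e
  · exact absurd (conj_eq_one_iff'.1 e) k.y1
  · rw [← conj_eq_self_of_C1 h1] at e; exact absurd (by simpa using e) k.ne.symm
  · exact absurd (mem_C1.2 (mul_inv_eq_iff_eq_mul.1 e)) h2
  · exact e

namespace MN
variable (h : MN G)
include h

theorem one (hH : PiGrp {a} H) (H1 : H ≠ ⊥) : IsCoatom N(H) := h H a (hH.prime H1) H1 (hH.sub (by simp))

theorem not_solv [L.Normal] (L1 : L ≠ ⊥) : ¬ Solv L := fun hs =>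
  let ⟨_, _, e⟩ := hs.exists_pcore_ne_bot L1
  (h.one pcore_pi e).1 (top_le_iff.1 (norm_pcore norm_of_normal))

theorem nsup (ab : a ≠ b) (h2 : a = 2 ∨ b = 2) (hb : b.Prime) (hH : PiGrp {a} H) (hK : PiGrp {b} K) (H1 : H ≠ ⊥)
    (hn : K ≤ N(H)) : N(H ⊔ K) = N(H) := by
  have k : ∃ r, r.Prime ∧ a ∈ ({2, r} : Set ℕ) ∧ b ∈ ({2, r} : Set ℕ) := by
    rcases h2 with rfl | rfl
    exacts [⟨b, hb, by simp, by simp⟩, ⟨a, hH.prime H1, by simp, by simp⟩]
  obtain ⟨r, hr, k1, k2⟩ := k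
  exact coatom_eq (h _ r hr (fun e => H1 (le_bot_iff.1 (e ▸ le_sup_left))) (PiGrp.sup_norm' (hH.of_p k1) (hK.of_p k2) hn))
    (h.one hH H1) (norm_sup_le hH (hK.p'_of_ne ab.symm) hn)

theorem coatom_C1 (t2 : t * t = 1) (t1 : t ≠ 1) : IsCoatom C1(t) :=
  N_zp t2 ▸ h.one (two_elt t2).zpowers (by simpa using t1)

theorem f1 (t2 : t * t = 1) (t1 : t ≠ 1) (r2 : r ≠ 2) (hP : PiGrp {r} P) (P1 : P ≠ ⊥) (le : P ≤ C1(t)) :
    N(P) = C1(t) := by
  rw [← h.nsup r2 (Or.inr rfl) Nat.prime_two hP (two_elt t2).zpowers P1 (zpowers_le.2 (C_le_N (le_C1_iff.1 le))),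
    sup_comm, h.nsup r2.symm (Or.inl rfl) (hP.prime P1) (two_elt t2).zpowers hP (by simpa using t1)
      (le.trans C1_le_N_zpowers), N_zp t2]

theorem f1' (t2 : t * t = 1) (t1 : t ≠ 1) (hz : (orderOf z).Prime) (z2 : orderOf z ≠ 2) (le : z ∈ C1(t)) :
    N(zpowers z) = C1(t) :=
  h.f1 t2 t1 z2 (PiElt.zpowers (piNat_self hz)) (by rintro e; rw [zpowers_eq_bot.1 e] at hz; simp at hz; exact Nat.not_prime_one hz)
    (zpowers_le.2 le)

theorem two_D (k : KPair t u) (ne : C1(t) ≠ C1(u)) : PiGrp {2} (C1(t) ⊓ C1(u)) :=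
  piGrp_of_prime_elt fun _ hx hp => by_contra fun e =>
    ne ((h.f1' k.xx k.x1 hp e hx.1).symm.trans (h.f1' k.yy k.y1 hp e hx.2))

theorem dih (r2 : r ≠ 2) (hP : PiGrp {r} P) (P1 : P ≠ ⊥) (w2 : w * w = 1) (hw : w ∈ N(P)) (hc : c ∈ N(P)) :
    c * w * c⁻¹ * w⁻¹ ∈ P := by
  rw [← h.nsup r2 (Or.inr rfl) Nat.prime_two hP (two_elt w2).zpowers P1 (zpowers_le.2 hw)] at hc
  obtain ⟨p, hp, v, hv, e⟩ := (mem_sup_of_norm' (zpowers_le.2 hw)).1 (conj_mem_N hc (mem_sup_right (mem_zpowers w)))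
  rcases mem_zpowers_inv w2 hv with rfl | rfl
  · have : c * w * c⁻¹ = 1 := ((two_elt w2).conj c).eq_one' (by rw [e, mul_one]; exact (hP.elt hp).p'_of_ne r2)
    rw [conj_eq_one_iff'.1 this]; simp
  · rwa [e, mul_inv_cancel_right]

theorem c2n : H13.C2N G := fun t t2 t1 => hall_of_sylows pcore_le pcore_pi fun _ hp hπ hd =>
  let ⟨P, hP⟩ := exists_sylow hp C1(t)
  ⟨P, hP, le_pcore ⟨hP.le, (h.f1 t2 t1 hπ hP.pi (hP.ne_bot_p hp hd) hP.le).ge⟩ (hP.pi.of_p hπ)⟩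

theorem N_D (k : KPair t u) (ne : C1(t) ≠ C1(u)) [L.Normal] (ht : t ∈ L) : N(C1(t) ⊓ C1(u) ⊓ L) = N(KV t u) :=
  (coatom_eq (h.one (KV_two k) (ne_bot_of_mem t_mem k.x1))
    (h.one (h.two_D k ne).inf_left (ne_bot_of_mem ⟨KV_le_C k t_mem, ht⟩ k.x1))
    (norm_inf (C_KV (t := t) (u := u) ▸ N_le_N_C) norm_of_normal)).symm

theorem C1_ne (t2 : t * t = 1) (ne : g * t * g⁻¹ ≠ t) : C1(t) ≠ C1(g * t * g⁻¹) := fun e => by
  have t1 : t ≠ 1 := by rintro rfl; simp at ne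
  rcases (h.coatom_C1 t2 t1).le_iff.1 le_N with e1 | e1
  · have : Z(C1(t)).Normal := norm_top_iff.1 (norm_Z e1.ge)
    exact h.not_solv (L := Z(C1(t))) (ne_bot_of_mem ⟨C1_self, le_C1_iff.1 le_rfl⟩ t1) abel_Z.solv
  · exact ne (conj_eq_self_of_C1 (e1 ▸ mem_N_iff_cj.2 (cj_C1.trans e.symm)))

theorem swap [L.Normal] (k : KPair t u) (ne : C1(t) ≠ C1(u)) (ht : t ∈ L) (hX : Hall {2} X L) (hc : X ≤ C1(t))
    (nh : ¬ Hall {2} (C1(t) ⊓ C1(u) ⊓ L) L) : ∃ a ∈ L, a * t * a⁻¹ = t ∧ a * u * a⁻¹ = t * u := by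
  have hD : PiGrp {2} (C1(t) ⊓ C1(u) ⊓ L) := (h.two_D k ne).inf_left
  obtain ⟨T, hT, le⟩ := exists_sylow_le Nat.prime_two hD (inf_le_inf_right L inf_le_left)
  have hT' : Hall {2} T L := hT.of_idx inf_le_right (hX.idx_of_le (le_inf hc hX.le))
  obtain ⟨a, ⟨a1, a2⟩, a3⟩ := SetLike.exists_of_lt (hT.pi.nil.lt_norm (le.lt_of_ne fun e => nh (e ▸ hT')))
  rw [h.N_D k ne ht] at a2
  exact ⟨a, hT'.le a1, conj_eq_self_of_C1 (hT.le a1).1, swap_of k a2 (hT.le a1).1 fun e => a3 ⟨⟨(hT.le a1).1, e⟩, hT'.le a1⟩⟩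

theorem rot [L.Normal] (k : KPair t u) (ht : t ∈ L) (hg : g ∈ L) (e : u = g * t * g⁻¹) (hX : Hall {2} X L)
    (hc : X ≤ C1(t)) : ∃ n ∈ L, n * t * n⁻¹ = u ∧ n * u * n⁻¹ = t * u := by
  have ne : C1(t) ≠ C1(u) := e ▸ h.C1_ne k.xx (e ▸ k.ne.symm)
  have hu : u ∈ L := e ▸ ‹L.Normal›.conj_mem t ht g
  by_cases hh : Hall {2} (C1(t) ⊓ C1(u) ⊓ L) L
  · have h1 : Hall {2} (C1(t) ⊓ C1(u) ⊓ L) (C1(t) ⊓ L) := hh.of_le (inf_le_inf_right L inf_le_left) inf_le_right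
    have h2 : Hall {2} (H18.cj g⁻¹ (C1(t) ⊓ C1(u) ⊓ L)) (C1(t) ⊓ L) := (hh.cj_mem (inv_mem hg)).of_le
      (le_inf ((cj_mono (inf_le_left.trans inf_le_right)).trans (by rw [cj_C1, e]; simp [mul_assoc]))
        (hh.cj_mem (inv_mem hg)).le) inf_le_right
    obtain ⟨c, hc, e1⟩ := sylow_conj Nat.prime_two h1 h2
    have n1 : g * c ∈ N(C1(t) ⊓ C1(u) ⊓ L) := mem_N_iff_cj.2 (by rw [cj_mul, ← e1, cj_cj, mul_inv_cancel, cj_one])
    have n2 : g * c * t * (g * c)⁻¹ = u := by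
      rw [e, mul_inv_rev, mul_assoc g, mem_C1.1 hc.1]; simp [mul_assoc]
    refine ⟨g * c, mul_mem hg hc.2, n2, ?_⟩
    generalize g * c = n, mul_mem hg hc.2 = nL at n1 n2
    rcases k.mem_closure_iff.1 (conj_mem_N (h.N_D k ne ht ▸ n1) u_mem) with e | e | e | e
    · exact absurd (conj_eq_one_iff'.1 e) k.y1
    · have m1 : n * n ∈ C1(t) ⊓ C1(u) ⊓ L := ⟨⟨mem_C1.2 (by
        rw [mul_assoc, mul_inv_eq_iff_eq_mul.1 n2, ← mul_assoc, mul_inv_eq_iff_eq_mul.1 e, mul_assoc]), mem_C1.2 (by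
        rw [mul_assoc, mul_inv_eq_iff_eq_mul.1 e, ← mul_assoc, mul_inv_eq_iff_eq_mul.1 n2, mul_assoc])⟩, mul_mem nL nL⟩
      have m2 : PiElt {2} n := by
        have := hh.pi.elt m1
        refine ((piNat_self Nat.prime_two).mul this).of_dvd (orderOf_dvd_of_pow_eq_one ?_)
        rw [pow_mul, pow_two, pow_orderOf_eq_one]
      exact absurd ((conj_eq_self_of_C1 (H13.Hall.mem_of_norm hh nL m2 n1).1.1).symm.trans n2) k.ne
    · exact absurd (by simpa using n2.trans e.symm) k.ne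
    · exact e
  obtain ⟨a, aL, a1, a2⟩ := h.swap k ne ht hX hc hh
  obtain ⟨b, bL, b1, b2⟩ := h.swap (kp_symm k) ne.symm hu (hX.cj_mem hg) ((cj_mono hc).trans (by rw [cj_C1, e]))
    (by rwa [inf_comm C1(u)])
  refine ⟨a * b, mul_mem aL bL, ?_, ?_⟩
  · rw [mul_inv_rev, show a * b * t * (b⁻¹ * a⁻¹) = a * (b * t * b⁻¹) * a⁻¹ by group, b2, ← conj_mul, a1, a2,
      mul_assoc, k.comm, k.xxy]
  · rw [mul_inv_rev, show a * b * u * (b⁻¹ * a⁻¹) = a * (b * u * b⁻¹) * a⁻¹ by group, b1, a2]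


theorem cent_eq (k : KPair t u) (y3 : y ^ 3 = 1) (yt : y * t * y⁻¹ = u) (yu : y * u * y⁻¹ = t * u)
    (ne : C1(t) ≠ C1(u)) : C1(t) ⊓ C1(u) = KV t u := by
  have hD := h.two_D k ne
  have hy : PiElt {3} y := piElt_of_pow_eq_one Nat.prime_three y3
  have y1 : y ≠ 1 := by rintro rfl; exact k.ne (by simpa using yt)
  have yn : zpowers y ≤ N(KV t u) := zpowers_le.2 (mem_N_KV (yt ▸ u_mem) (yu ▸ mul_mem t_mem u_mem))
  have hy' : PiGrp {2}ᶜ (zpowers y) := hy.zpowers.p'_of_ne (by decide)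
  have e1 := h.nsup (by decide) (Or.inl rfl) Nat.prime_three (KV_two k) hy.zpowers (ne_bot_of_mem t_mem k.x1) yn
  have e2 : C1(t) ⊓ C1(u) ⊓ C1(y) = ⊥ := by
    by_contra e
    obtain ⟨w, ⟨hw, hw'⟩, w2, w1⟩ := H13.exists_inv hD.inf_left e
    have o : orderOf y = 3 := orderOf_eq_prime y3 y1
    have a1 := h.f1' w2 w1 (o ▸ Nat.prime_three) (by omega) (mem_C1_comm.1 hw')
    have a2 := mul_mem (conj_mem_N (a1 ▸ mem_C1_comm.1 hw.1) (mem_zpowers y)) (inv_mem (mem_zpowers y))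
    rw [H13.inv_eq k.xx, mul_assoc, mul_assoc, ← mul_assoc y, yt] at a2
    exact k.xy1 ((two_elt k.rot.yy).eq_one' (hy'.elt a2))
  refine (eq_of_card_ge (KV_le_C k) ((H13.card_le_cent_mul (a := y) (C := KV t u) fun d hd => ?_).trans
    (by rw [e2, card_bot, one_mul]))).symm
  have d1 : d ∈ N(KV t u) := C_le_N (C_KV (t := t) (u := u) ▸ hd)
  have d2 : y ∈ N(C1(t) ⊓ C1(u)) := C_KV (t := t) (u := u) ▸ N_le_N_C (yn (mem_zpowers y))
  refine (hall_of_sup (KV_two k) hy' (Or.inr yn)).mem_of_nml (sup_le le_N yn)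
    (mul_mem (conj_mem_N (e1 ▸ d1) (mem_sup_right (mem_zpowers y))) (inv_mem (mem_sup_right (mem_zpowers y))))
    (hD.elt ?_)
  rw [mul_assoc, mul_assoc, ← mul_assoc y]
  exact mul_mem hd (conj_mem_N d2 (inv_mem hd))
end MN

/-- a self-centralizing four-group `⟨t, u⟩` with `t` `2`-central, rotated by `y` -/
structure MC4 (t u y : G) : Prop where
  kp : KPair t u
  y3 : y ^ 3 = 1
  yt : y * t * y⁻¹ = u
  yu : y * u * y⁻¹ = t * u
  cen : C1(t) ⊓ C1(u) = KV t u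
  syl : ∃ S, Hall {2} S ⊤ ∧ S ≤ C1(t)

namespace MC4
variable (m : MC4 t u y)
include m
omit [Finite G] in
theorem y1 : y ≠ 1 := by rintro rfl; exact m.kp.ne (by simpa using m.yt)
omit [Finite G] in
theorem ord : orderOf y = 3 := orderOf_eq_prime m.y3 m.y1
theorem yN : y ∈ N(KV t u) := mem_N_KV (m.yt ▸ u_mem) (m.yu ▸ mul_mem t_mem u_mem)
omit [Finite G] in
theorem yC : y ∉ C1(t) := fun e => m.kp.ne ((conj_eq_self_of_C1 e).symm.trans m.yt)
theorem pi : PiGrp {2, 3} N(KV t u) := by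
  have h1 := H10.relIndex_centralizer_dvd_factorial (KV t u)
  rw [C_KV, m.cen, m.kp.card_closure] at h1
  refine piGrp_of_relIndex le_N ((KV_two m.kp).of_p (by simp)) (PiNat.of_dvd ?_ h1)
  exact PiNat.mul (m := 3) (n := 2) ((piNat_prime Nat.prime_three).2 (by simp)) ((piNat_prime Nat.prime_two).2 (by simp))
theorem le_of (hy : y ∈ L) (h : N(KV t u) ⊓ C1(t) ≤ L) : N(KV t u) ≤ L := fun n hn => by
  have key : ∀ v ∈ N(KV t u), v ∈ L → v * t * v⁻¹ = n * t * n⁻¹ → n ∈ L := fun v h1 h2 e =>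
    (L.mul_mem_cancel_left (inv_mem h2)).1 (h (mem_inf.2 ⟨mul_mem (inv_mem h1) hn, mem_C1.2 (by
      rw [mul_assoc, mul_inv_eq_iff_eq_mul.1 e.symm]; group)⟩))
  rcases m.kp.mem_closure_iff.1 (conj_mem_N hn t_mem) with e | e | e | e
  · exact absurd (conj_eq_one_iff'.1 e) m.kp.x1
  · exact key 1 (one_mem _) (one_mem _) (by simp [e])
  · exact key y m.yN hy (m.yt.trans e.symm)
  · exact key (y * y) (mul_mem m.yN m.yN) (mul_mem hy hy) (by
      rw [e, ← m.yu, ← m.yt]; group)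
end MC4

namespace MN
variable (h : MN G)
include h

theorem exists_mc4 [L.Normal] (L1 : L ≠ ⊥) : ∃ t ∈ L, ∃ u ∈ L, ∃ y ∈ L, MC4 t u y := by
  obtain ⟨S, hS⟩ := exists_sylow Nat.prime_two (⊤ : Subgroup G)
  have hX : Hall {2} (S ⊓ L) L := hS.inf_nml nml_top
  have X1 : S ⊓ L ≠ ⊥ := hX.ne_bot_p Nat.prime_two
    (even_iff_two_dvd.1 (Nat.not_odd_iff_even.1 fun e => h.not_solv L1 (H5.solv_of_odd e)))
  obtain ⟨t, ⟨⟨-, ht⟩, hc⟩, t2, t1⟩ := H13.exists_inv hX.pi.inf_left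
    (hS.pi.meet_cent hX.pi (norm_inf le_N norm_of_normal) X1)
  have hc' : S ≤ C1(t) := le_C1_iff.2 hc
  have : ∃ g ∈ L, Commute t (g * t * g⁻¹) ∧ g * t * g⁻¹ ≠ t := by
    by_contra! c
    have o : O[{2}ᶜ](L) = ⊥ := by
      by_contra e
      have : O[{2}ᶜ](L).Normal := norm_top_iff.1 (norm_pcore norm_of_normal)
      exact h.not_solv e (H5.solv_of_odd (piNat_two_compl.1 pcore_pi))
    have : Z(L).Normal := norm_top_iff.1 (norm_Z norm_of_normal)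
    refine h.not_solv (L := Z(L)) (ne_bot_of_mem ⟨ht, mem_C.2 fun g hg => ?_⟩ t1) abel_Z.solv
    have := H9.zstar_normal (N := L) (k := 1) (by rwa [pow_one, pow_two]) c hg
    rw [pPrimeCore_map Nat.prime_two, o, mem_bot, commutatorElement_eq_one_iff_mul_comm] at this
    exact this.symm
  obtain ⟨g, hg, c, ne⟩ := this
  have k : KPair t (g * t * g⁻¹) := ⟨t2, by rw [conj_mul, t2]; simp, t1, mt conj_eq_one_iff'.1 t1, ne.symm, c.eq.symm⟩
  have ne' := h.C1_ne t2 ne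
  obtain ⟨n, hn, n1, n2⟩ := h.rot k ht hg rfl hX (inf_le_left.trans hc')
  refine ⟨t, ht, _, ‹L.Normal›.conj_mem t ht g, ?_⟩
  generalize g * t * g⁻¹ = u at *
  have b1 : ∀ g, n * (t * g) = u * (n * g) := fun g => by rw [← n1]; group
  have b2 : ∀ g, n * (u * g) = t * (u * (n * g)) := fun g => by rw [← mul_assoc t, ← n2]; group
  have n3 : n ^ 3 ∈ C1(t) ⊓ C1(u) := ⟨mem_C1.2 (by
    simp only [pow_succ, pow_zero, one_mul, mul_assoc, b1, b2, k.yxg, k.yyx, mul_inv_eq_iff_eq_mul.1 n1]), mem_C1.2 (by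
    simp only [pow_succ, pow_zero, one_mul, mul_assoc, b1, b2, k.yxg, k.yyx, mul_inv_eq_iff_eq_mul.1 n2])⟩
  obtain ⟨j, hj⟩ := ((h.two_D k ne').elt n3).eq_pow (orderOf_pos _).ne'
  obtain ⟨i, hi⟩ : ∃ i, 4 ^ j = 1 + 3 * i := ⟨4 ^ j / 3, by have := Nat.pow_mod 4 j 3; simp at this; omega⟩
  have e : n ^ 4 ^ j = n * (n ^ 3) ^ i := by rw [hi, pow_add, pow_one, pow_mul]
  have y3 : (n ^ 4 ^ j) ^ 3 = 1 := by
    rw [← pow_mul, mul_comm, pow_mul, show 4 = 2 * 2 from rfl, mul_pow, pow_mul, ← hj, pow_orderOf_eq_one, one_pow]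
  have yt : n ^ 4 ^ j * t * (n ^ 4 ^ j)⁻¹ = u := by
    rw [e, ← n1, mul_assoc n, mem_C1.1 (pow_mem n3 i).1]; group
  have yu : n ^ 4 ^ j * u * (n ^ 4 ^ j)⁻¹ = t * u := by
    rw [e, ← n2, mul_assoc n, mem_C1.1 (pow_mem n3 i).2]; group
  exact ⟨_, pow_mem hn _, k, y3, yt, yu, h.cent_eq k y3 yt yu ne', S, hS, hc'⟩

theorem coatom_KV (m : MC4 t u y) : IsCoatom N(KV t u) := h.one (KV_two m.kp) (ne_bot_of_mem t_mem m.kp.x1)

theorem not_le (m : MC4 t u y) : ¬ C1(t) ≤ N(KV t u) := fun e =>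
  m.yC (coatom_eq (h.coatom_C1 m.kp.xx m.kp.x1) (h.coatom_KV m) e ▸ m.yN)

theorem eq_top [L.Normal] (L1 : L ≠ ⊥) : L = ⊤ := by
  obtain ⟨t, ht, u, hu, y, hy, m⟩ := h.exists_mc4 L1
  have k := m.kp
  have VL : KV t u ≤ L := KV_le ht hu
  have : N(KV t u) ≤ L := m.le_of hy (by
    by_cases hT : PiGrp {2} C1(t)
    · have a1 : KV t u < C1(t) ⊓ L := (le_inf ((KV_le_C k).trans inf_le_left) VL).lt_of_ne fun e =>
        h.not_le m (e ▸ norm_inf le_N norm_of_normal)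
      obtain ⟨a, ⟨a2, a3⟩, a4⟩ := SetLike.exists_of_lt (hT.inf_left.nil.lt_norm a1)
      have a5 := swap_of k a3 a2.1 fun e => a4 (m.cen ▸ ⟨a2.1, e⟩)
      rintro x ⟨x1, x2⟩
      by_cases x3 : x ∈ C1(u)
      · exact VL (m.cen ▸ ⟨x2, x3⟩)
      refine (L.mul_mem_cancel_left (inv_mem a2.2)).1 (VL (m.cen.le (mem_inf.2 ⟨mul_mem (inv_mem a2.1) x2, mem_C1.2 ?_⟩)))
      rw [mul_assoc, mul_inv_eq_iff_eq_mul.1 ((swap_of k x1 x2 x3).trans a5.symm)]; group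
    · obtain ⟨z, hz, hp, z2⟩ : ∃ z ∈ C1(t), (orderOf z).Prime ∧ orderOf z ≠ 2 := by
        by_contra! c; exact hT (piGrp_of_prime_elt c)
      have a1 := h.f1' k.xx k.x1 hp z2 hz
      have a2 : PiGrp {orderOf z} (zpowers z) := PiElt.zpowers (piNat_self hp)
      rintro x ⟨x1, x2⟩
      have a3 := h.dih z2 a2 (ne_bot_of_prime (card_zpowers' (x := z) ▸ hp)) k.yy (a1 ▸ mem_C1.2 k.comm) (a1 ▸ x2)
      have a4 := ((KV_two k).elt (mul_mem (conj_mem_N x1 u_mem) (inv_mem u_mem))).eq_one' ((a2.elt a3).p'_of_ne z2)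
      exact VL (m.cen ▸ ⟨x2, mem_C1.2 (mul_inv_eq_iff_eq_mul.1 (mul_inv_eq_one.1 a4))⟩))
  refine ((h.coatom_KV m).le_iff.1 this).resolve_right fun e => ?_
  exact (h L 3 Nat.prime_three L1 (e ▸ m.pi)).1 (top_le_iff.1 norm_of_normal)

theorem simple [Nontrivial G] : IsSimpleGroup G := ⟨fun _ _ => or_iff_not_imp_left.2 h.eq_top⟩

theorem not_comm [Nontrivial G] : ¬ IsMulCommutative G := fun c =>
  h.not_solv (L := ⊤) top_ne_bot (Abel.solv fun a _ => mem_C.2 fun b _ => c.is_comm.comm b a)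

theorem kn [Nontrivial G] : Kn G := by
  have := h.simple
  obtain ⟨t, -, u, -, y, -, m⟩ := h.exists_mc4 (L := ⊤) top_ne_bot
  obtain ⟨S, hS, hc⟩ := m.syl
  obtain ⟨T, hT, le⟩ := exists_sylow_le Nat.prime_two (KV_two m.kp) ((KV_le_C m.kp).trans inf_le_left)
  obtain ⟨P, rfl⟩ := (hT.of_idx le_top (hS.idx_of_le hc)).exists_sylow_top Nat.prime_two
  exact (H2.T3.kn_or_qd h.not_comm P (le u_mem) ((card_le ((inf_le_inf_right _ hT.le).trans m.cen.le)).trans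
    m.kp.card_closure.le)).resolve_right (h.c2n.not_qd (H2.T3.no_two h.not_comm))

theorem dich (m : MC4 t u y) : (∃ r, r.Prime ∧ r ≠ 2 ∧ H13.Sp G (2 * r)) ∨ 8 ∣ Nat.card G := by
  by_cases hT : PiGrp {2} C1(t)
  · have a1 : KV t u < C1(t) := ((KV_le_C m.kp).trans inf_le_left).lt_of_ne fun e => h.not_le m (e ▸ le_N)
    obtain ⟨j, hj⟩ := hT.card_eq_pow
    have a2 := card_lt a1
    rw [m.kp.card_closure, hj] at a2
    exact Or.inr ((pow_dvd_pow 2 ((Nat.pow_lt_pow_iff_right one_lt_two).1 (show 2 ^ 2 < 2 ^ j from a2))).trans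
      (hj ▸ card_subgroup_dvd_card _))
  · obtain ⟨z, hz, hp, z2⟩ : ∃ z ∈ C1(t), (orderOf z).Prime ∧ orderOf z ≠ 2 := by
      by_contra! c; exact hT (piGrp_of_prime_elt c)
    have o : orderOf t = 2 := H9.orderOf_eq_two.2 ⟨m.kp.xx, m.kp.x1⟩
    exact Or.inl ⟨_, hp, z2, o ▸ H13.sp_mul (mem_C1.1 hz).symm (o ▸ (Nat.coprime_primes Nat.prime_two hp).2 z2.symm)⟩


omit [Finite G] in
theorem of_equiv {Y : Type*} [Group Y] (e : G ≃* Y) : MN Y := fun H r hr H1 hH => by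
  have hs : Function.Surjective (e : G →* Y) := e.surjective
  have := h (H.comap e) r hr (fun c => H1 (by rw [← map_comap_eq_self_of_surjective hs H]; simp [c]))
    (by rwa [PiGrp, Nat.card_congr (e.subgroupMap (H.comap (e : G →* Y))).toEquiv, map_comap_eq_self_of_surjective hs])
  rwa [← comap_normalizer_eq_of_surjective _ hs, isCoatom_comap] at this
end MN

theorem not_mn_A7 : ¬ MN (alternatingGroup (Fin 7)) := fun h => by
  obtain ⟨t, u, x, g, k, x3, x1, h1, h2, h3, h4⟩ : ∃ t u x g : alternatingGroup (Fin 7), KPair t u ∧ x ^ 3 = 1 ∧ x ≠ 1 ∧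
      x * t = t * x ∧ x * u = u * x ∧ g * t = t * g ∧ g * u ≠ u * g :=
    ⟨⟨c[0, 1] * c[2, 3], Equiv.Perm.mem_alternatingGroup.2 (by decide)⟩,
      ⟨c[0, 2] * c[1, 3], Equiv.Perm.mem_alternatingGroup.2 (by decide)⟩,
      ⟨c[4, 5, 6], Equiv.Perm.mem_alternatingGroup.2 (by decide)⟩,
      ⟨c[0, 1] * c[4, 5], Equiv.Perm.mem_alternatingGroup.2 (by decide)⟩,
      ⟨by decide, by decide, by decide, by decide, by decide, by decide⟩, by decide +kernel⟩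
  have := (h.two_D k fun e => h4 (mem_C1.1 (e ▸ mem_C1.2 h3))).elt ⟨mem_C1.2 h1, mem_C1.2 h2⟩
  exact x1 (this.eq_one' ((piElt_of_pow_eq_one Nat.prime_three x3).p'_of_ne (by decide)))

theorem dih_three {k : ℕ} {a : DihedralGroup k} (h : a ^ 3 = 1) (b : DihedralGroup k) :
    a * b = b * a ∨ b * a * b⁻¹ = a⁻¹ := by
  rcases a with i | i
  · rcases b with j | j
    · exact Or.inl (by simp [add_comm])
    · exact Or.inr (by simp)
  · rw [pow_succ, pow_two, DihedralGroup.sr_mul_self, one_mul, DihedralGroup.one_def] at h; cases h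

omit [Finite G] in
theorem mem_zp3 (h : y ^ 3 = 1) (hx : x ∈ zpowers y) : x ^ 3 = 1 := by
  obtain ⟨i, rfl⟩ := hx
  rw [← zpow_natCast, ← zpow_mul, mul_comm, zpow_mul, zpow_natCast, h, one_zpow]

/-- no normal subgroup of order three -/
def No3 (A : Type*) [Group A] : Prop := ∀ g : A, g ^ 3 = 1 → g ≠ 1 → ∃ h, h * g * h⁻¹ ≠ g ∧ h * g * h⁻¹ ≠ g * g

omit [Finite G] in
theorem No3.false {A : Type*} [Group A] (h : No3 A) (y3 : y ^ 3 = 1) (y1 : y ≠ 1) (e : N(zpowers y) ≃* A) : False := by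
  obtain ⟨g, h1, h2⟩ := h (e ⟨y, le_N (mem_zpowers y)⟩) (by rw [← map_pow, ← map_one e]; exact congrArg e (Subtype.ext y3))
    fun c => y1 (congrArg Subtype.val (e.injective (c.trans (map_one e).symm)))
  obtain ⟨g, rfl⟩ := e.surjective g
  simp only [← map_inv, ← map_mul, Ne, e.injective.eq_iff, Subtype.ext_iff, coe_mul, coe_inv] at h1 h2
  obtain ⟨i, hi⟩ := conj_mem_N g.2 (mem_zpowers y)
  have y3' : y ^ (3 : ℤ) = 1 := by exact_mod_cast y3
  rw [← hi] at h1 h2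
  have h0 : y ^ i ≠ 1 := fun c => y1 (conj_eq_one_iff'.1 (hi.symm.trans c))
  simp only [zpow_eq_zpow_emod i y3'] at h0 h1 h2
  rcases (by omega : i % 3 = 0 ∨ i % 3 = 1 ∨ i % 3 = 2) with c | c | c <;> simp [c, pow_two] at h0 h1 h2

theorem no3_S4 : No3 (Equiv.Perm (Fin 4)) := by unfold No3; decide +kernel
theorem no3_alt {n : ℕ} (h : ∀ g : Equiv.Perm (Fin n), g ^ 3 = 1 → g ≠ 1 →
    ∃ h, h * h * g * (h * h)⁻¹ ≠ g ∧ h * h * g * (h * h)⁻¹ ≠ g * g) : No3 (alternatingGroup (Fin n)) :=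
  fun g h1 h2 => let ⟨a, a2, a3⟩ := h g (congrArg Subtype.val h1) fun e => h2 (Subtype.ext e)
    ⟨⟨a * a, Equiv.Perm.mem_alternatingGroup.2 (by simp)⟩, fun e => a2 (congrArg Subtype.val e), fun e => a3 (congrArg Subtype.val e)⟩
theorem no3_A4 : No3 (alternatingGroup (Fin 4)) := no3_alt (by decide +kernel)
theorem no3_A5 : No3 (alternatingGroup (Fin 5)) := no3_alt (by decide +kernel)

theorem MN.dvd_six (h : MN G) (y3 : y ^ 3 = 1) (y1 : y ≠ 1) {k : ℕ} (e : N(zpowers y) ≃* DihedralGroup k) : k ∣ 6 := by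
  have := mem_zp3 y3 (MN.dih (w := (e.symm (.sr 0) : G)) (c := (e.symm (.r 1) : G)) h (by decide)
    (piElt_of_pow_eq_one Nat.prime_three y3).zpowers (by simpa using y1) (by rw [← coe_mul, ← map_mul]; simp)
    (e.symm (.sr 0)).2 (e.symm (.r 1)).2)
  rw [← coe_inv, ← coe_inv, ← coe_mul, ← coe_mul, ← coe_mul, ← coe_pow, OneMemClass.coe_eq_one, ← map_inv, ← map_inv,
    ← map_mul, ← map_mul, ← map_mul, ← map_pow, map_eq_one_iff _ e.symm.injective] at this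
  simp only [DihedralGroup.inv_r, DihedralGroup.inv_sr, DihedralGroup.r_mul_sr, DihedralGroup.sr_mul_r,
    DihedralGroup.sr_mul_sr, DihedralGroup.r_pow, DihedralGroup.one_def, DihedralGroup.r.injEq] at this
  exact (ZMod.natCast_eq_zero_iff 6 k).1 (by push_cast at this ⊢; linear_combination this)

theorem MN.card_eq {F : Type*} [Field F] [Fintype F] (h : MN PSL(2, F)) (ho : Odd (Fintype.card F))
    (h3 : 3 < Fintype.card F) : Fintype.card F = 13 := by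
  obtain ⟨p, hp⟩ := CharP.exists F
  have : Fact p.Prime := ⟨CharP.char_is_prime F p⟩
  obtain ⟨f, pp, hf⟩ := FiniteField.card F p
  have ho' := Nat.odd_iff.1 ho
  have h5 : 5 ≤ Fintype.card F := by omega
  have pq : p ∣ Fintype.card F := hf ▸ dvd_pow_self p f.ne_zero
  have p2 : p ≠ 2 := by rintro rfl; omega
  have := H13.psl_simple (F := F) h3
  obtain ⟨t, -, u, -, y, -, m⟩ := h.exists_mc4 (L := ⊤) top_ne_bot
  have sp := fun n => (H13.sp_psl_odd (n := n) pp pq h3 ho).1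
  have cK : ∀ (K : Type) [Field K] [Fintype K] (r : ℕ), Fintype.card F = Fintype.card K ^ r →
      p ∣ Fintype.card K ∧ Odd (Fintype.card K) := fun K _ _ r e =>
    ⟨pp.dvd_of_dvd_pow (e ▸ pq), (Nat.odd_pow_iff (by rintro rfl; rw [pow_zero] at e; omega)).1 (e ▸ ho)⟩
  have cP : ∀ (K : Type) [Field K] [Fintype K], Odd (Fintype.card K) →
      2 * Nat.card PSL(2, K) = Fintype.card K * (Fintype.card K - 1) * (Fintype.card K + 1) := fun K _ _ o => by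
    rw [Nat.card_congr (H10.PSL2Equiv K).toEquiv, card_L_odd o]
  have c8 : ∀ q : ℕ, Odd q → 8 ∣ q * (q - 1) * (q + 1) := by
    rintro _ ⟨q, rfl⟩
    obtain ⟨c, hc⟩ := Nat.even_mul_succ_self q
    exact ⟨(2 * q + 1) * c, by rw [Nat.add_sub_cancel]; linear_combination (4 * (2 * q + 1)) * hc⟩
  have a1 : p = 3 ∨ (Fintype.card F = p ∧ p ≠ 11) := by
    have b1 : p ∣ 2 * Nat.card N(KV t u) → p = 3 := fun d => by
      simpa [p2] using m.pi p pp (((Nat.coprime_primes pp Nat.prime_two).2 p2).dvd_of_dvd_mul_left d)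
    have b2 : ∀ k, ¬ Nonempty (N(KV t u) ≃* DihedralGroup k) := fun k ⟨e⟩ => by
      rcases dih_three (a := e ⟨y, m.yN⟩) (by rw [← map_pow, ← map_one e]; exact congrArg e (Subtype.ext m.y3))
        (e ⟨t, le_N t_mem⟩) with c | c <;>
        simp only [← map_inv, ← map_mul, e.injective.eq_iff, Subtype.ext_iff, coe_mul, coe_inv] at c
      · exact m.yC (mem_C1.2 c)
      · have c1 : t * u = (y ^ 2)⁻¹ := by
          rw [H13.inv_eq m.kp.xx] at c
          rw [← m.yt, ← mul_assoc, ← mul_assoc, c, pow_two, mul_inv_rev]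
        exact m.kp.xy1 ((two_elt m.kp.rot.yy).eq_one'
          (c1 ▸ ((piElt_of_pow_eq_one Nat.prime_three m.y3).pow' 2).inv.p'_of_ne (by decide)))
    rcases Cfsg.Agent.S5892.result p ho h5 _ (h.coatom_KV m) with e | ⟨-, k, -, e⟩ | ⟨-, -, k, -, e⟩ | ⟨K, _, _, c, ⟨e⟩⟩ |
      ⟨K, _, _, r, -, -, c, ⟨e⟩⟩ | ⟨-, -, ⟨e⟩⟩ | ⟨c, -, e, -⟩ | ⟨c, e, -⟩
    · exact Or.inl (b1 (e ▸ pq.mul_right _))
    · exact absurd e (b2 k)
    · exact absurd e (b2 k)
    · exact Or.inl (b1 (by rw [Nat.card_congr e.toEquiv, H10.card_PGL2]; exact (((cK K 2 c).1.mul_right _).mul_right _).mul_left _))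
    · exact Or.inl (b1 (by rw [Nat.card_congr e.toEquiv, cP K (cK K r c).2]; exact ((cK K r c).1.mul_right _).mul_right _))
    · simpa using m.pi 5 Nat.prime_five (by rw [Nat.card_congr e.toEquiv, H10.card_alt_five]; decide)
    · exact Or.inr ⟨c, by omega⟩
    · exact Or.inr ⟨c, by omega⟩
  have s3 : ∀ g ∈ C1(y), (orderOf g).Prime → orderOf g ≠ 3 → H13.Sp PSL(2, F) (orderOf g * 3) := fun g hg h1 h2 =>
    m.ord ▸ H13.sp_mul (mem_C1.1 hg) (m.ord ▸ (Nat.coprime_primes h1 Nat.prime_three).2 h2)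
  have i2 := H10.relIndex_centralizer_dvd_factorial (zpowers y)
  rw [C_zpowers, card_zpowers', m.ord] at i2
  have i3 := card_mul_relIndex (C1_le_N_zpowers (x := y))
  have d3 : 3 ∣ Nat.card N(zpowers y) := m.ord ▸ orderOf_dvd_card (le_N (mem_zpowers y))
  have hM := Cfsg.Agent.S5892.result p ho h5 _ (h.one (piElt_of_pow_eq_one Nat.prime_three m.y3).zpowers
    (by simpa using m.y1))
  rcases a1 with rfl | ⟨hq, h11⟩
  · obtain ⟨a, ha⟩ := PiGrp.card_eq_pow (p := 3) (H := C1(y)) (piGrp_of_prime_elt fun g hg h1 => by_contra fun h2 => by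
      rcases sp _ (s3 g hg h1 h2) with c | c | c
      · have := Nat.le_of_dvd (by decide) c; have := h1.two_le; omega
      all_goals have := (dvd_mul_left _ _).trans c; omega)
    have d : Nat.card N(zpowers y) ∣ 3 ^ a * 2 := by rw [← i3, ha]; exact Nat.mul_dvd_mul_left _ i2
    have n4 : ¬ 4 ∣ Nat.card N(zpowers y) := fun c => by
      have := ((Nat.Coprime.pow_right a (by decide : Nat.Coprime 4 3)).dvd_of_dvd_mul_left (c.trans d))
      omega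
    exfalso
    rcases hM with e | ⟨-, k, c, ⟨e⟩⟩ | ⟨-, -, k, c, ⟨e⟩⟩ | ⟨K, _, _, c, ⟨e⟩⟩ |
      ⟨K, _, _, r, -, -, c, ⟨e⟩⟩ | ⟨-, -, ⟨e⟩⟩ | ⟨c, -⟩ | ⟨c, -⟩
    · have c1 : Fintype.card F - 1 ∣ 3 ^ a * 4 := (dvd_mul_left _ (Fintype.card F)).trans (by
        rw [← e, mul_comm 2, show 4 = 2 * 2 from rfl, ← mul_assoc]; exact Nat.mul_dvd_mul_right d 2)
      have := Nat.le_of_dvd (by decide) ((Nat.Coprime.pow_right a
        ((Nat.prime_three.coprime_iff_not_dvd.2 (by omega)).symm)).dvd_of_dvd_mul_left c1)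
      omega
    · rw [Nat.card_congr e.toEquiv, DihedralGroup.nat_card] at d3; omega
    · rw [Nat.card_congr e.toEquiv, DihedralGroup.nat_card] at d3; omega
    · have := c8 _ (cK K 2 c).2
      rw [Nat.card_congr e.toEquiv, H10.card_PGL2] at n4; omega
    · have := c8 _ (cK K r c).2
      rw [← cP K (cK K r c).2, ← Nat.card_congr e.toEquiv] at this; omega
    · rw [Nat.card_congr e.toEquiv, H10.card_alt_five] at n4; omega
    · omega
    · omega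
  have p5 : 5 ≤ p := hq ▸ h5
  rcases hM with e | ⟨c1, k, c, ⟨e⟩⟩ | ⟨c1, c2, k, c, ⟨e⟩⟩ | ⟨K, _, _, c, -⟩ |
    ⟨K, _, _, r, c1, -, c, -⟩ | ⟨-, -, ⟨e⟩⟩ | ⟨-, -, -, ⟨e⟩⟩ | ⟨-, -, ⟨e⟩⟩
  · have c0 : p.Coprime 2 := (Nat.coprime_primes pp Nat.prime_two).2 p2
    have c1 : p ∣ Nat.card C1(y) := (c0.coprime_dvd_right i2).dvd_of_dvd_mul_right
      (i3 ▸ c0.dvd_of_dvd_mul_left (e ▸ pq.mul_right _))
    obtain ⟨g, hg, o⟩ := cauchy pp c1
    rcases sp _ (o ▸ s3 g hg (o ▸ pp) (by omega)) with c | c | c <;> have := Nat.le_of_dvd (by omega) c <;> omega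
  · have := Nat.le_of_dvd (by decide) (h.dvd_six m.y3 m.y1 e); omega
  · have c3 := h.dvd_six m.y3 m.y1 e
    have := Nat.le_of_dvd (by decide) c3
    have q5 : Fintype.card F = 5 := by interval_cases k <;> omega
    rcases h.dich m with ⟨r, r1, r2, c⟩ | c
    · have := r1.two_le
      rcases sp _ c with c | c | c <;> have := Nat.le_of_dvd (by omega) c <;> omega
    · rw [H13.card_psl 60 q5 (by norm_num)] at c; omega
  · exact absurd (c ▸ hq ▸ pp).eq_one_of_pow (by norm_num)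
  · exact absurd (c ▸ hq ▸ pp).eq_one_of_pow c1.one_lt.ne'
  · exact (no3_A5.false m.y3 m.y1 e).elim
  · exact (no3_A4.false m.y3 m.y1 e).elim
  · exact (no3_S4.false m.y3 m.y1 e).elim

theorem MN.psl [Nontrivial G] (h : MN G) : Nonempty (G ≃* PSL(2, ZMod 13)) := by
  have : Fact (Nat.Prime 13) := ⟨by norm_num⟩
  obtain ⟨F, _, _, ho, h3, ⟨e⟩⟩ | ⟨⟨e⟩⟩ := h.kn
  · exact ⟨e.trans (H13.psl_congr (((h.of_equiv e).card_eq ho h3).trans (ZMod.card 13).symm)).some⟩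
  · exact absurd (h.of_equiv e) not_mn_A7
end H22
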