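import Cfsg.Agent.H22.MN
import Cfsg.Agent.H17.Cores
import Cfsg.Agent.H21.Pairing
import Cfsg.Agent.H22.Rank1

/-! Groups whose `{2, r}`-subgroups outside the solvable radical have maximal normalizers (`MR`, `MR.main`);
Dedekind's lemma for odd `p` (`dedekind`); perfect central `2`-extensions of `PSL₂(q)` (`psl_or_sl`). -/

set_option autoImplicit false
open Cfsg H18 Subgroup
open H5 (piNat_two_compl)
open H13 (two_elt)
open H10 (KPair)
open scoped MatrixGroups commutatorElement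

namespace H22
universe u
variable {G : Type u} {Q : Type*} [Group G] [Group Q] [Finite G] {f : G →* Q} {H K L P R X : Subgroup G} {p q r : ℕ}
  {a b c g n t u w x y z : G}

omit [Finite G] in
theorem mem_zp_of_not_dvd (hx : PiElt {p} x) {k : ℤ} (h : ¬ (p : ℤ) ∣ k) : x ∈ zpowers (x ^ k) :=
  mem_zpowers_zpow_iff.2 (Nat.eq_one_iff_not_exists_prime_dvd.2 fun r hr d => h (by
    rw [← hx.eq_of_dvd hr (d.trans (Int.natCast_dvd_natCast.1 (Int.gcd_dvd_right k _)))]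
    exact (Int.natCast_dvd_natCast.2 d).trans (Int.gcd_dvd_left k _)))

omit [Finite G] in
theorem piElt_map {π : Set ℕ} (h : PiElt π x) (f : G →* Q) : PiElt π (f x) := h.of_dvd (orderOf_map_dvd f x)

theorem lift_elt [Finite Q] {π : Set ℕ} (hx : x ∈ K) (h : PiElt π (f x)) : ∃ y ∈ K, PiElt π y ∧ f y = f x := by
  refine ⟨piPart π x, piPart_mem hx, piElt_piPart, ?_⟩
  rw [← piPart_eq_self h]
  conv_rhs => rw [← piPart_mul_compl (π := π) (x := x), map_mul]
  exact (piPart_eq (by rw [← map_mul, piPart_comm_piPart, map_mul]) (piElt_map piElt_piPart f)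
    (piElt_map piElt_piPart f)).symm

/-- groups of odd order with all cyclic `p`-subgroups normal -/
theorem dedekind (hp : p.Prime) (p2 : p ≠ 2) (h : ∀ a ∈ R, PiElt {p} a → R ≤ N(zpowers a)) (n : ℕ) :
    ∀ b ∈ R, PiElt {p} b → orderOf b = n → ∀ a ∈ R, PiElt {p} a → b * a = a * b := by
  induction n using Nat.strong_induction_on with
  | _ n ih =>
  rintro b hb pb rfl a ha pa
  by_cases lt : orderOf a < orderOf b
  · exact (ih _ lt a ha pa rfl b hb pb).symm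
  by_contra ne
  have key : ∀ x ∈ zpowers a, ⁅b, x⁆ ∈ zpowers a ∧ ⁅b, x⁆ ∈ zpowers b := fun x hx =>
    ⟨mul_mem (conj_mem (h a ha pa) hb hx) (inv_mem hx), by
      rw [commutatorElement_def, mul_assoc, mul_assoc, ← mul_assoc x]
      exact mul_mem (mem_zpowers b) (conj_mem (h b hb pb) (zpowers_le.2 ha hx) (inv_mem (mem_zpowers b)))⟩
  have b1 : b ≠ 1 := by rintro rfl; simp at ne
  obtain ⟨m, hm⟩ := pb.eq_pow (orderOf_pos b).ne'
  obtain ⟨k, hk⟩ := pa.eq_pow (orderOf_pos a).ne'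
  have bp : ∀ x ∈ zpowers a, b ^ p * x = x * b ^ p := fun x hx => by
    have := ih (orderOf (b ^ p)) (by
      rw [orderOf_pow_of_dvd hp.ne_zero (pb.zpowers.dvd_card (by simpa using b1) |>.trans (by simp))]
      exact Nat.div_lt_self (orderOf_pos b) hp.one_lt) _ (pow_mem hb p) (pb.pow' p) rfl a ha pa
    exact mem_C1.1 (C1_le_of_mem_zpowers hx (mem_C1.2 this))
  have cp : ∀ x ∈ zpowers a, ⁅b, x⁆ ^ p = 1 := fun x hx => by
    rw [← H4.commutatorElement_pow_left' (comm_of_cent abel_zpowers (mem_zpowers b) (key x hx).2),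
      commutatorElement_eq_one_iff_mul_comm, bp x hx]
  have dv : ∀ (v : G) (j : ℕ) (i : ℤ), orderOf v = p ^ (j + 1) → (v ^ i) ^ p = 1 → (p : ℤ) ^ j ∣ i := fun v j i o e => by
    rw [← zpow_natCast, ← zpow_mul, ← orderOf_dvd_iff_zpow_eq_one, o, pow_succ, Nat.cast_mul, Nat.cast_pow] at e
    exact Int.dvd_of_mul_dvd_mul_right (by exact_mod_cast hp.ne_zero) e
  obtain _ | m := m
  · exact b1 (orderOf_eq_one_iff.1 hm)
  obtain ⟨i, hi⟩ := (key a (mem_zpowers a)).2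
  obtain ⟨i, rfl⟩ := dv b m i hm (by rw [show b ^ i = _ from hi, cp a (mem_zpowers a)])
  have e1 : (b ^ p ^ m) ^ i = ⁅b, a⁆ := by rw [← hi, ← zpow_natCast, ← zpow_mul]; simp
  have e2 : b ^ p ^ m ∈ zpowers a := zpowers_le.2 (key a (mem_zpowers a)).1 (e1 ▸ mem_zp_of_not_dvd (pb.pow' _) (by
    rintro ⟨i, rfl⟩
    rw [zpow_mul, zpow_natCast, ← pow_mul, ← pow_succ, ← hm, pow_orderOf_eq_one, one_zpow] at e1
    exact ne (commutatorElement_eq_one_iff_mul_comm.1 e1.symm)))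
  obtain _ | m := m
  · exact ne (comm_of_cent abel_zpowers (by simpa using e2) (mem_zpowers a))
  have mk : m + 1 + 1 ≤ k := (Nat.pow_le_pow_iff_right hp.one_lt).1 (hm ▸ hk ▸ not_lt.1 lt)
  obtain ⟨k, rfl⟩ := Nat.exists_eq_add_of_le' mk
  obtain ⟨j, hj⟩ := e2
  obtain ⟨j, rfl⟩ := (pow_dvd_pow (p : ℤ) (Nat.le_add_left (m + 1) k)).trans (dv a _ j hk (by
    rw [show a ^ j = _ from hj, ← pow_mul, ← pow_succ, ← hm, pow_orderOf_eq_one]))
  have hx : a ^ (-j) ∈ zpowers a := zpow_mem_zpowers a _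
  have e3 : (a ^ (-j) * b) ^ p ^ (m + 1) = 1 := by
    obtain ⟨c, hc⟩ := hp.dvd_choose_self two_ne_zero (hp.two_le.lt_of_ne p2.symm)
    rw [pow_succ', pow_mul, H21.mul_pow_class_two (comm_of_cent abel_zpowers hx (key _ hx).1)
      (comm_of_cent abel_zpowers (mem_zpowers b) (key _ hx).2), hc, pow_mul, cp _ hx, one_pow, mul_one,
      Commute.mul_pow (bp _ (pow_mem hx p)).symm, ← pow_mul, ← pow_mul, ← pow_succ', ← hj, ← zpow_natCast, ← zpow_mul,
      ← zpow_add]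
    simp [mul_comm]
  have e4 := orderOf_dvd_of_pow_eq_one e3
  have := ih _ ((Nat.le_of_dvd (pow_pos hp.pos _) e4).trans_lt (hm ▸ Nat.pow_lt_pow_right hp.one_lt (Nat.lt_succ_self _)))
    _ (mul_mem (zpow_mem ha _) hb) ((piNat_pow_self hp _).of_dvd e4) rfl a ha pa
  rw [← mul_assoc, comm_of_cent abel_zpowers (mem_zpowers a) hx, mul_assoc, mul_assoc] at this
  exact ne (mul_left_cancel this)

theorem abel_of_pElts (h : ∀ p, p.Prime → ∀ a ∈ R, PiElt {p} a → ∀ q, q.Prime → ∀ b ∈ R, PiElt {q} b → b * a = a * b) :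
    Abel R := le_of_pElts fun p hp a ha pa => le_C1_iff.1 (le_of_pElts fun q hq b hb pb => mem_C1.2 (h p hp a ha pa q hq b hb pb))

/-- the kernel of `f` is the solvable radical, and `{2, r}`-subgroups outside it have maximal normalizers -/
structure MR (f : G →* Q) : Prop where
  surj : Function.Surjective f
  solv : Solv f.ker
  max : ∀ X : Subgroup G, X.Normal → Solv X → X ≤ f.ker
  co : ∀ (H : Subgroup G) (r : ℕ), r.Prime → ¬ H ≤ f.ker → PiGrp {2, r} H → IsCoatom N(H)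

namespace MR
variable (h : MR f)
include h

theorem nrm (hr : r.Prime) (H1 : ¬ H ≤ f.ker) (hH : PiGrp {2, r} H) : (N(H.map f)).comap f = N(H) := by
  refine ((h.co H r hr H1 hH).le_iff.1 (map_le_iff_le_comap.1 (le_normalizer_map f))).resolve_left fun e => H1 ?_
  have : (H.map f).Normal := norm_top_iff.1 fun y _ => by obtain ⟨x, rfl⟩ := h.surj y; exact e.ge (mem_top x)
  refine le_sup_left.trans (h.max (H ⊔ f.ker) (comap_map_eq f H ▸ inferInstance) ?_)
  exact (H21.solv_paqb Nat.prime_two hr hH).sup h.solv (Or.inl norm_of_normal)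

theorem mn [Finite Q] : MN Q := fun H r hr H1 hH => by
  have : Solv H := H21.solv_paqb Nat.prime_two hr hH
  have := h.solv
  have hs : Solv (H.comap f) := Group.isSolvable_of_ker_le_range (inclusion (ker_le_comap f H)) (f.subgroupComap H)
    fun x hx => ⟨⟨x, congrArg Subtype.val hx⟩, rfl⟩
  obtain ⟨K, hK⟩ := H23.hall_exists {2, r} hs
  have e : K.map f = H := by
    have := hall_map hK f
    rw [map_comap_eq_self_of_surjective h.surj] at this
    exact this.eq_self hH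
  have K1 : ¬ K ≤ f.ker := fun c => H1 (e ▸ (map_eq_bot_iff K).2 c)
  have c := h.co K r hr K1 hK.pi
  rw [← h.nrm hr K1 hK.pi, e] at c
  exact ⟨fun e => c.1 (by rw [e, comap_top]), fun B hB => comap_injective h.surj
    (c.2 _ ((comap_lt_comap_of_surjective h.surj).2 hB))⟩

theorem zp (hx : PiElt {p} x) (x1 : f x ≠ 1) (hg : f g ∈ N(zpowers (f x))) : g ∈ N(zpowers x) := by
  rw [← h.nrm (hx.zpowers.prime (by rintro e; simp [zpowers_eq_bot.1 e] at x1)) (by simpa using x1)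
    (hx.zpowers.of_p (by simp)), f.map_zpowers]
  exact hg

theorem ker_le (hr : r.Prime) (H1 : ¬ H ≤ f.ker) (hH : PiGrp {2, r} H) : f.ker ≤ N(H) :=
  h.nrm hr H1 hH ▸ ker_le_comap f _

theorem top_of [Finite Q] [IsSimpleGroup Q] (hp : p.Prime) (d : p ∣ Nat.card Q) :
    ∃ A : Subgroup G, A.Normal ∧ A.map f = ⊤ ∧ ⁅f.ker, A⁆ ≤ O[{p}](f.ker) := by
  have : O[{p}](f.ker).Normal := norm_top_iff.1 (norm_pcore norm_of_normal)
  let π := QuotientGroup.mk' O[{p}](f.ker)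
  have : (f.ker.map π).Normal := Normal.map inferInstance _ (QuotientGroup.mk'_surjective _)
  have key : ∀ x, x ∈ (C(f.ker.map π)).comap π ↔ ∀ r ∈ f.ker, ⁅r, x⁆ ∈ O[{p}](f.ker) := fun x => by
    have : ∀ r, π r * π x = π x * π r ↔ ⁅r, x⁆ ∈ O[{p}](f.ker) := fun r => by
      rw [← commutatorElement_eq_one_iff_mul_comm, ← map_commutatorElement]; exact QuotientGroup.eq_one_iff _
    exact ⟨fun c r hr => (this r).1 (mem_C.1 c _ ⟨r, hr, rfl⟩), fun c => mem_C.2 (by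
      rintro _ ⟨r, hr, rfl⟩; exact (this r).2 (c r hr))⟩
  refine ⟨(C(f.ker.map π)).comap π, inferInstance, ?_, commutator_le.2 fun r hr x hx => (key x).1 hx r hr⟩
  refine (Normal.map inferInstance f h.surj).eq_bot_or_eq_top.resolve_left fun e => ?_
  obtain ⟨y, -, o⟩ := cauchy (H := (⊤ : Subgroup Q)) hp (by rwa [card_top])
  obtain ⟨y, rfl⟩ := h.surj y
  obtain ⟨x, -, px, ex⟩ := lift_elt (f := f) (mem_top y) (piElt_of_pow_eq_one hp (o ▸ pow_orderOf_eq_one _))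
  have x1 : f x ≠ 1 := fun c => by rw [← ex, c, orderOf_one] at o; exact hp.one_lt.ne o
  have n : f.ker ≤ N(zpowers x) := fun r hr => h.zp px x1 (by rw [show f r = 1 from hr]; exact one_mem _)
  refine x1 ((Subgroup.map_eq_bot_iff _).1 e ((key x).2 fun r hr => le_pcore (nml_inf_of_norm n) px.zpowers.inf_right (mem_inf.2 ⟨?_, ?_⟩)))
  · simp [commutatorElement_def, show f r = 1 from hr]
  · exact mul_mem (conj_mem n hr (mem_zpowers x)) (inv_mem (mem_zpowers x))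

theorem exists_K [Finite Q] [IsSimpleGroup Q] (hQ : ⁅(⊤ : Subgroup Q), (⊤ : Subgroup Q)⁆ = ⊤) (d : 6 ∣ Nat.card Q) :
    ∃ K : Subgroup G, K.Normal ∧ K.map f = ⊤ ∧ K ≤ C(f.ker) ∧ ⁅K, K⁆ = K := by
  obtain ⟨A, _, a1, a2⟩ := h.top_of Nat.prime_two (Dvd.dvd.trans (by decide) d)
  obtain ⟨B, _, b1, b2⟩ := h.top_of Nat.prime_three (Dvd.dvd.trans (by decide) d)
  have c1 : A ⊓ B ≤ C(f.ker) := cent_symm (comm_eq_bot_iff.1 (le_bot_iff.1 ((le_inf ((comm_mono le_rfl inf_le_left).trans a2)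
    ((comm_mono le_rfl inf_le_right).trans b2)).trans
      (PiGrp.inf_eq_bot pcore_pi (PiNat.p'_of_ne pcore_pi (by decide))).le)))
  have c2 : (C(f.ker)).map f = ⊤ := top_le_iff.1 (by
    rw [← hQ]; conv_lhs => rw [← a1]; arg 2; rw [a1, ← b1]
    rw [← map_commutator]; exact map_mono ((commutator_le_inf A B).trans c1))
  have c3 : (⁅C(f.ker), C(f.ker)⁆).map f = ⊤ := by rw [map_commutator, c2, hQ]
  refine ⟨_, inferInstance, c3, der_le, le_antisymm der_le ?_⟩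
  have c4 : C(f.ker) ≤ ⁅C(f.ker), C(f.ker)⁆ ⊔ Z(f.ker) := fun c hc => by
    obtain ⟨k, hk, e⟩ : f c ∈ (⁅C(f.ker), C(f.ker)⁆).map f := c3 ▸ mem_top _
    rw [← mul_inv_cancel_left k c]
    exact mul_mem_sup' hk (mem_inf.2 ⟨by simp [e], mul_mem (inv_mem (der_le hk)) hc⟩)
  refine (der_mono c4).trans ?_
  rw [der_sup, abel_Z.der, comm_eq_bot_iff.2 (der_le.trans (C_anti inf_le_left))]
  simp

theorem no_elt (hK : K.map f = ⊤) (hc : K ≤ C(f.ker)) [Finite Q] (hp : p.Prime) (p2 : p ≠ 2) {x w : Q} (xp : x ^ p = 1)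
    (x1 : x ≠ 1) (e : w * x * w⁻¹ = x⁻¹) (ha : a ∈ f.ker) : orderOf a ≠ p := fun o => by
  obtain ⟨w, hw, rfl⟩ : w ∈ K.map f := hK ▸ mem_top _
  obtain ⟨x, hx, rfl⟩ : x ∈ K.map f := hK ▸ mem_top _
  obtain ⟨y, hy, py, ey⟩ := lift_elt hx (piElt_of_pow_eq_one hp xp)
  have pd : ∀ k : ℤ, (p : ℤ) ∣ k → ¬ (p : ℤ) ∣ k - 2 := fun k h1 h2 => p2 ((Nat.prime_dvd_prime_iff_eq hp Nat.prime_two).1
    (Int.natCast_dvd_natCast.1 (by simpa using dvd_sub h1 h2)))
  have key : ∀ v, PiElt {p} v → f v = f x → w * v * w⁻¹ * v = 1 := fun v pv ev => by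
    have n : w ∈ N(zpowers v) := h.zp pv (ev ▸ x1) (mem_N_of_cj_le (by
      rw [cj_zpowers, ev, e, zpowers_inv]))
    obtain ⟨m, hm⟩ := mul_mem (conj_mem_N n (mem_zpowers v)) (mem_zpowers v)
    have r1 : v ^ m ∈ f.ker := by rw [show v ^ m = _ from hm]; simp [ev, e]
    have r2 : (p : ℤ) ∣ m := by_contra fun c => x1 (ev ▸ zpowers_le.2 r1 (mem_zp_of_not_dvd pv c))
    have r3 : (v ^ m) ^ (m - 2) = 1 := by
      have c1 : w * v * w⁻¹ = v ^ (m - 1) := by rw [zpow_sub_one, show v ^ m = _ from hm, mul_inv_cancel_right]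
      have c2 := conj_eq_self_of_C1 (C_le_C1 r1 (hc hw))
      rw [← conj_zpow, c1, ← zpow_mul] at c2
      rw [← zpow_mul, show m * (m - 2) = (m - 1) * m - m by ring, zpow_sub, c2, mul_inv_cancel]
    have := mem_zp_of_not_dvd (pv.of_mem_zpowers (zpow_mem_zpowers v m)) (pd m r2)
    rwa [r3, zpowers_one_eq_bot, mem_bot, show v ^ m = _ from hm] at this
  have pa : PiElt {p} a := piElt_of_pow_eq_one hp (o ▸ pow_orderOf_eq_one _)
  have c := mem_C.1 (hc hy) a ha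
  have k2 := key (y * a) (py.mul' pa c.symm) (by simp [ey, show f a = 1 from ha])
  rw [← conj_mul, conj_eq_self_of_C1 (C_le_C1 ha (hc hw)), mul_assoc, ← mul_assoc a, c, mul_assoc y, ← mul_assoc,
    key y py ey, one_mul] at k2
  rw [(two_elt k2).eq_one' (pa.p'_of_ne p2), orderOf_one] at o
  exact hp.one_lt.ne o

omit h in
theorem ord_dvd (hK : K.map f = ⊤) (hc : K ≤ C(f.ker)) (hp : ⁅K, K⁆ = K) (ha : a ∈ K) :
    orderOf a ∣ Nat.card Q := by
  have := isPerfect_iff.2 hp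
  have c1 : (f.domRestrict K).ker ≤ center K := fun z hz => mem_center_iff.2 fun k =>
    Subtype.ext (mem_C.1 (hc k.2) z hz).symm
  have c2 := MonoidHom.transferCenterPow_apply (⟨a, ha⟩ : K)
  have c0 : commutator K ≤ (MonoidHom.transferCenterPow K).ker := commutator_le.2 fun a _ b _ => by
    rw [MonoidHom.mem_ker, map_commutatorElement, commutatorElement_eq_one_iff_mul_comm]
    exact Subtype.ext (mem_center_iff.1 (MonoidHom.transferCenterPow K b).2 _)
  rw [MonoidHom.mem_ker.1 (c0 Group.IsPerfect.mem_commutator)] at c2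
  have c3 := index_dvd_of_le c1
  rw [index_ker, MonoidHom.domRestrict_range, hK, card_top] at c3
  exact (orderOf_dvd_of_pow_eq_one (congrArg Subtype.val c2.symm)).trans c3

theorem two_mem [Finite Q] [K.Normal] (hK : K.map f = ⊤) (hc : K ≤ C(f.ker)) (hZ : PiGrp {2} (K ⊓ f.ker)) {t u y : Q}
    (m : MC4 t u y) (ha : a ∈ f.ker) (pa : PiElt {2} a) : a ∈ K := by
  obtain ⟨t, ht, rfl⟩ : t ∈ K.map f := hK ▸ mem_top _
  obtain ⟨u, hu, rfl⟩ : u ∈ K.map f := hK ▸ mem_top _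
  obtain ⟨y, hy, rfl⟩ : y ∈ K.map f := hK ▸ mem_top _
  have k := m.kp
  have a1 : f a = 1 := ha
  have sq : ∀ v ∈ K, f v * f v = 1 → PiElt {2} v := fun v hv e =>
    ((piNat_self Nat.prime_two).mul (hZ.elt ⟨mul_mem hv hv, (map_mul f v v).trans e⟩)).of_dvd
      (orderOf_dvd_of_pow_eq_one (by rw [pow_mul, pow_two, pow_orderOf_eq_one]))
  let W := K ⊓ (zpowers (f t)).comap f
  have hW : PiGrp {2} W := piGrp_of_elt fun v hv => sq v hv.1 (by
    rcases mem_zpowers_inv k.xx hv.2 with e | e <;> rw [e]; exacts [one_mul 1, k.xx])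
  have c := mem_C.1 (hc hu) a ha
  have n : zpowers (u * a) ≤ N(W) := zpowers_le.2 (norm_inf norm_of_normal le_rfl (by
    rw [← comap_normalizer_eq_of_surjective _ h.surj]
    exact C1_le_N_zpowers (mem_C1.2 (by simp [a1, k.comm]))))
  have hH := (PiElt.mul' (sq u hu k.yy) pa c.symm).zpowers.sup_norm hW n
  have tW : t ∈ W := ⟨ht, mem_zpowers _⟩
  have e : (zpowers (u * a) ⊔ W).map f = KV (f t) (f u) := le_antisymm (by
    rw [Subgroup.map_sup, f.map_zpowers, map_mul, a1, mul_one]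
    exact sup_le (zpowers_le.2 u_mem) ((map_mono inf_le_right).trans ((map_comap_le _ _).trans (zpowers_le.2 t_mem))))
    (KV_le ⟨t, mem_sup_right tW, rfl⟩ ⟨u * a, mem_sup_left (mem_zpowers _), by simp [a1]⟩)
  have yn : y ∈ N(zpowers (u * a) ⊔ W) := by
    rw [← h.nrm Nat.prime_two (fun c => k.x1 (c (mem_sup_right tW))) (hH.of_p (by simp)), e]; exact m.yN
  obtain ⟨_, ⟨i, rfl⟩, v, hv, e1⟩ := (mem_sup_of_norm n).1 (conj_mem_N yn (mem_sup_right tW))
  have e2 : a ^ i ∈ K := by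
    have := mul_mem (mul_mem (inv_mem (zpow_mem hu i)) (mul_mem (mul_mem hy ht) (inv_mem hy))) (inv_mem hv.1)
    rwa [e1, show (fun x : ℤ => (u * a) ^ x) i = _ from Commute.mul_zpow c.symm i, mul_assoc, mul_assoc, mul_inv_cancel, mul_one, inv_mul_cancel_left] at this
  refine zpowers_le.2 e2 (mem_zp_of_not_dvd pa ?_)
  rintro ⟨i, rfl⟩
  have e3 := congrArg f e1
  simp only [map_mul, map_inv, map_zpow, m.yt, a1, mul_one, zpow_mul, Nat.cast_ofNat, zpow_two, k.yy, one_zpow,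
    one_mul] at e3
  rcases mem_zpowers_inv k.xx hv.2 with e | e
  exacts [k.y1 (e3.trans e), k.ne (e3.trans e).symm]

theorem abel [Finite Q] (hc : K ≤ C(f.ker)) (ht : t ∈ K) (pt : PiElt {2} t) (t1 : f t ≠ 1) (hX : X ≤ f.ker)
    (oX : PiGrp {2}ᶜ X) : Abel X := by
  have key : ∀ p, p.Prime → ∀ a ∈ X, PiElt {p} a → X ≤ N(zpowers a) := fun p hp a ha pa => by
    by_cases a1 : a = 1
    · rw [a1, zpowers_one_eq_bot]; exact norm_of_normal
    have p2 : p ≠ 2 := by rintro rfl; exact a1 (pa.eq_one' (oX.elt ha))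
    have n : zpowers t ≤ N(zpowers a) := zpowers_le.2 (C1_le_N_zpowers (C_le_C1 (hX ha) (hc ht)))
    exact hX.trans ((h.ker_le hp (fun c => t1 (c (mem_sup_right (mem_zpowers t))))
      (PiGrp.sup_norm' (pa.zpowers.of_p (by simp)) (pt.zpowers.of_p (by simp)) n)).trans
        (norm_sup_le pa.zpowers (pt.zpowers.p'_of_ne p2.symm) n))
  refine abel_of_pElts fun p hp a ha pa q hq b hb pb => ?_
  by_cases e : p = q
  · subst e
    by_cases p2 : p = 2
    · subst p2; simp [pa.eq_one' (oX.elt ha)]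
    exact dedekind hp p2 (key p hp) _ b hb pb rfl a ha pa
  exact comm_of_cent (cent_of_inf_eq_bot ((zpowers_le.2 hb).trans (key p hp a ha pa))
    ((zpowers_le.2 ha).trans (key q hq b hb pb)) (pb.zpowers.inf_eq_bot (pa.zpowers.p'_of_ne e)))
    (mem_zpowers b) (mem_zpowers a)
end MR

theorem real13 (hp : p = 3 ∨ p = 7 ∨ p = 13) : ∃ x w : PSL(2, ZMod 13), x ^ p = 1 ∧ x ≠ 1 ∧ w * x * w⁻¹ = x⁻¹ := by
  have key : ∀ x w : SL(2, ZMod 13), x ^ p = 1 → w * x ≠ x * w → x * (w * x) = 1 * w →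
      ∃ x w : PSL(2, ZMod 13), x ^ p = 1 ∧ x ≠ 1 ∧ w * x * w⁻¹ = x⁻¹ := fun x w h1 h2 h3 =>
    ⟨QuotientGroup.mk' _ x, QuotientGroup.mk' _ w, by rw [← map_pow, h1, map_one],
      fun c => h2 (mem_center_iff.1 ((QuotientGroup.eq_one_iff x).1 c) w), by
      rw [mul_inv_eq_iff_eq_mul, eq_inv_mul_iff_mul_eq, ← map_mul, ← map_mul, h3, one_mul]⟩
  rcases hp with rfl | rfl | rfl
  · exact key ⟨!![0, 5; 5, 12], by decide⟩ ⟨!![0, 1; 12, 0], by decide⟩ (by decide +kernel) (by decide +kernel)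
      (by decide +kernel)
  · exact key ⟨!![0, 5; 5, 7], by decide⟩ ⟨!![0, 1; 12, 0], by decide⟩ (by decide +kernel) (by decide +kernel)
      (by decide +kernel)
  · exact key ⟨!![0, 5; 5, 2], by decide⟩ ⟨!![0, 1; 12, 0], by decide⟩ (by decide +kernel) (by decide +kernel)
      (by decide +kernel)

theorem psl_or_sl {E F : Type*} [Group E] [Group.IsPerfect E] [Field F] [Fintype F] (hF : Odd (Fintype.card F))
    (π : E →* PSL(2, F)) (hs : Function.Surjective π) (hc : π.ker ≤ center E) {k : ℕ}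
    (h2 : ∀ z, π z = 1 → z ^ 2 ^ k = 1) : Nonempty (E ≃* PSL(2, F)) ∨ Nonempty (E ≃* SL(2, F)) := by
  obtain ⟨f, hf⟩ := exists_SL2_lift hF π hs hc h2
  have h1 := surj_of_perfect f π hc (hf ▸ QuotientGroup.mk'_surjective _)
  have e : ∀ a, π (f a) = 1 ↔ a ∈ center SL(2, F) := fun a => by
    rw [← MonoidHom.comp_apply, hf]; exact QuotientGroup.eq_one_iff a
  rcases eq_bot_or_eq_of_prime (X := center SL(2, F)) (Y := f.ker) (by
    rw [H10.card_center_SL2, H13.gcd_odd hF]; exact Nat.prime_two) fun a ha => (e a).1 (by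
      rw [show f a = 1 from ha, map_one]) with c | c
  · exact Or.inr ⟨(MulEquiv.ofBijective f ⟨f.ker_eq_bot_iff.1 c, h1⟩).symm⟩
  · refine Or.inl ⟨MulEquiv.ofBijective π ⟨(injective_iff_map_eq_one π).2 fun z hz => ?_, hs⟩⟩
    obtain ⟨a, rfl⟩ := h1 z
    exact c.ge ((e a).1 hz)

theorem MR.main {f : G →* PSL(2, ZMod 13)} (h : MR f) : ∃ K S : Subgroup G, K.Normal ∧ S.Normal ∧ K ⊓ S = ⊥ ∧ K ⊔ S = ⊤ ∧
    (Nonempty (K ≃* PSL(2, ZMod 13)) ∨ Nonempty (K ≃* SL(2, ZMod 13))) ∧ IsMulCommutative S ∧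
      (Nat.card K).Coprime (Nat.card S) := by
  have p13 : Fact (Nat.Prime 13) := ⟨by norm_num⟩
  have := H13.psl_simple (F := ZMod 13) (by simp)
  have cQ : Nat.card PSL(2, ZMod 13) = 1092 := H13.card_psl 1092 (ZMod.card 13) (by norm_num)
  have pr : ∀ r : ℕ, r.Prime → r ∣ Nat.card PSL(2, ZMod 13) → r = 2 ∨ r = 3 ∨ r = 7 ∨ r = 13 := fun r hr d => by
    rw [cQ, show 1092 = 2 * (2 * (3 * (7 * 13))) from rfl] at d
    simpa only [hr.dvd_mul, Nat.prime_dvd_prime_iff_eq hr, Nat.prime_two, Nat.prime_three, Nat.prime_seven, p13.out,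
      or_self_left] using d
  obtain ⟨K, _, k1, k2, k3⟩ := h.exists_K ((commutator_normal ⊤ ⊤).eq_bot_or_eq_top.resolve_left fun e =>
    h.mn.not_solv (L := ⊤) top_ne_bot (abel_iff_der.2 e).solv) (by rw [cQ]; decide)
  have no : ∀ a ∈ f.ker, ¬ (orderOf a = 3 ∨ orderOf a = 7 ∨ orderOf a = 13) := fun a ha c =>
    let ⟨_, _, x1, x2, x3⟩ := real13 c
    h.no_elt k1 k2 (by rcases c with c | c | c <;> rw [c] <;> norm_num) (by omega) x1 x2 x3 ha rfl
  have hZ : PiGrp {2} (K ⊓ f.ker) := piGrp_of_prime_elt fun a ha hp =>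
    (pr _ hp (MR.ord_dvd k1 k2 k3 ha.1)).resolve_right (no a ha.2)
  obtain ⟨t, -, u, -, y, -, m⟩ := h.mn.exists_mc4 (L := ⊤) top_ne_bot
  obtain ⟨S, hS⟩ := H23.hall_exists {2}ᶜ h.solv
  obtain ⟨P, hP⟩ := exists_sylow Nat.prime_two f.ker
  have e : K ⊔ S = ⊤ := top_le_iff.1 fun g _ => by
    obtain ⟨k, hk, e⟩ : f g ∈ K.map f := k1 ▸ mem_top _
    rw [← mul_inv_cancel_left k g]
    refine mul_mem (mem_sup_left hk) (sup_le_sup_right (fun a ha => h.two_mem k1 k2 hZ m (hP.le ha) (hP.pi.elt ha)) S ?_)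
    rw [hP.sup_compl hS]; simp [e]
  have pK : PiGrp {2, 3, 7, 13} K := piGrp_of_prime_elt fun a ha hp => pr _ hp (MR.ord_dvd k1 k2 k3 ha)
  have pS : PiGrp {2, 3, 7, 13}ᶜ S := piGrp_of_prime_elt fun a ha hp c =>
    c.elim (hS.pi.elt ha _ hp dvd_rfl) (no a (hS.le ha))
  obtain ⟨t', ht, rfl⟩ : t ∈ K.map f := k1 ▸ mem_top _
  obtain ⟨v, hv, pv, ev⟩ := lift_elt ht (two_elt m.kp.xx)
  obtain ⟨j, hj⟩ := hZ.card_eq_pow
  have := isPerfect_iff.2 k3
  refine ⟨K, S, inferInstance, norm_top_iff.1 (e ▸ sup_le (C_le_N.trans' (k2.trans (C_anti hS.le))) le_N),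
    pK.inf_eq_bot pS, e, psl_or_sl (by simp; decide) (f.domRestrict K) (MonoidHom.range_eq_top.1 (by
      rw [MonoidHom.domRestrict_range, k1])) (fun z hz => mem_center_iff.2 fun k => Subtype.ext (mem_C.1 (k2 k.2) z hz).symm)
      (k := j) fun z hz => Subtype.ext (hj ▸ pow_card_eq_one_of_mem (H := K ⊓ f.ker) ⟨z.2, hz⟩),
    (h.abel k2 hv pv (ev ▸ m.kp.x1) hS.le hS.pi).comm, pK.coprime pS⟩

theorem mr_of (h : ∀ H : Subgroup G, ¬ H.IsSubnormal →
    (∃ p q : ℕ, p.Prime ∧ q.Prime ∧ ∀ r : ℕ, r.Prime → r ∣ Nat.card H → r = p ∨ r = q) → IsCoatom N(H))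
    (hs : Function.Surjective f) (e : f.ker = H17.sol ⊤) : MR f :=
  ⟨hs, e ▸ H17.sol_solvable _, fun _ hX hs => e ▸ (H17.subn_top_iff.2 hX.isSubnormal).le_sol hs, fun H r hr H1 hH =>
    h H (fun c => H1 (e ▸ (H17.subn_top_iff.2 c).le_sol (H21.solv_paqb Nat.prime_two hr hH))) ⟨2, r, Nat.prime_two, hr, hH⟩⟩
end H22
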