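import Cfsg.Agent.H22.Frobenius
import Cfsg.Agent.H2.Frattini
import Cfsg.Agent.H3.BG4a
import Cfsg.Agent.S0126

/-! Miller's theorem: in a noncyclic `p`-group, `p` odd, the number of elements of order `p ^ s`, `s ≥ 2`, is a
multiple of `p ^ s` (`miller_pgroup`); `gen_count` counts a set closed under taking other generators. -/

set_option autoImplicit false

namespace H22

open Subgroup
open scoped commutatorElement

variable {G : Type*} [Group G]

theorem ncard_gen [Finite G] (a : G) : {b | zpowers b = zpowers a}.ncard = Nat.totient (orderOf a) := by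
  classical
  have := Fintype.ofFinite (zpowers a)
  have hd : orderOf a ∣ Fintype.card (zpowers a) := by rw [← Nat.card_eq_fintype_card, Nat.card_zpowers]
  rw [← IsCyclic.card_orderOf_eq_totient (α := zpowers a) hd, ← Set.ncard_coe_finset,
    ← Set.ncard_image_of_injective _ (zpowers a).subtype_injective]
  congr 1
  ext b
  constructor
  · intro h
    have h : zpowers b = zpowers a := h
    refine ⟨⟨b, h ▸ mem_zpowers b⟩, ?_, rfl⟩
    simp only [Finset.coe_filter, Finset.mem_univ, true_and, Set.mem_ofPred_eq, orderOf_mk]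
    rw [← Nat.card_zpowers, h, Nat.card_zpowers]
  · rintro ⟨b, h1, rfl⟩
    simp only [Finset.coe_filter, Finset.mem_univ, true_and, Set.mem_ofPred_eq] at h1
    refine eq_of_le_of_card_ge (zpowers_le.2 b.2) ?_
    rw [Nat.card_zpowers, Nat.card_zpowers, ← h1]
    exact le_of_eq (orderOf_injective (zpowers a).subtype (zpowers a).subtype_injective b).symm

theorem gen_dvd [Finite G] (S : Set G) (q : ℕ) (h1 : ∀ a ∈ S, q ∣ Nat.totient (orderOf a))
    (h2 : ∀ a ∈ S, ∀ b, zpowers b = zpowers a → b ∈ S) : q ∣ Nat.card S := by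
  refine dvd_card_of_fibers (fun a => zpowers a) S q fun a ha => ?_
  have : Nat.card {x // x ∈ S ∧ zpowers x = zpowers a} = {b | zpowers b = zpowers a}.ncard := by
    rw [← Nat.card_coe_set_eq]
    exact Nat.card_congr (Equiv.subtypeEquivRight fun x => ⟨fun h => h.2, fun h => ⟨h2 a ha x h, h⟩⟩)
  rw [this, ncard_gen]
  exact h1 a ha

theorem gen_count [Finite G] (S : Set G) (n : ℕ) (h1 : ∀ a ∈ S, orderOf a = n)
    (h2 : ∀ a ∈ S, ∀ b, zpowers b = zpowers a → b ∈ S) :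
    Nat.card S = Nat.totient n * Nat.card ((fun a => zpowers a) '' S) := by
  classical
  have := Fintype.ofFinite G
  have hS : S = ↑(Finset.univ.filter (· ∈ S)) := by ext; simp
  rw [Nat.card_coe_set_eq, Nat.card_coe_set_eq, hS, ← Finset.coe_image, Set.ncard_coe_finset,
    Set.ncard_coe_finset, Finset.card_eq_sum_card_image (fun a => zpowers a), mul_comm, ← smul_eq_mul,
    ← Finset.sum_const]
  refine Finset.sum_congr rfl fun b hb => ?_
  obtain ⟨a, ha, rfl⟩ := Finset.mem_image.mp hb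
  have ha : a ∈ S := by simpa using ha
  rw [← h1 a ha, ← ncard_gen, ← Set.ncard_coe_finset]
  congr 1
  ext x
  simp only [Finset.coe_filter, Finset.mem_filter, Finset.mem_univ, true_and, Set.mem_ofPred_eq]
  exact ⟨fun h => h.2, fun h => ⟨h2 a ha x h, h⟩⟩

theorem mul_pow_of_sq [Finite G] {p : ℕ} [hp : Fact p.Prime] (hodd : p ≠ 2) (hG : IsPGroup p G)
    (V : Subgroup G) [V.Normal] (hV : Cfsg.IsElementaryAbelian p V) (hc : Nat.card V = p ^ 2) (x v : G)
    (hv : v ∈ V) : (x * v) ^ p = x ^ p := by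
  have hnil : Group.IsNilpotent (⊤ : Subgroup G) := (hG.to_subgroup ⊤).isNilpotent
  have hV0 : V ≠ ⊥ := by
    rintro rfl
    rw [card_bot] at hc
    exact (Nat.one_lt_pow two_ne_zero hp.out.one_lt).ne hc
  have h1 : ⁅V, (⊤ : Subgroup G)⁆ < V := H2.commutator_lt_of_nilpotent hnil le_top (by rw [normalizer_eq_top]) hV0
  have h2 : ⁅⁅V, (⊤ : Subgroup G)⁆, (⊤ : Subgroup G)⁆ = ⊥ := by
    by_cases h0 : ⁅V, (⊤ : Subgroup G)⁆ = ⊥
    · rw [h0, commutator_bot_left]
    have h3 : ⁅⁅V, (⊤ : Subgroup G)⁆, (⊤ : Subgroup G)⁆ < ⁅V, (⊤ : Subgroup G)⁆ :=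
      H2.commutator_lt_of_nilpotent hnil le_top (by rw [normalizer_eq_top]) h0
    have c1 := card_dvd_of_le h1.le
    have c2 := card_dvd_of_le h3.le
    have l1 : Nat.card (⁅V, (⊤ : Subgroup G)⁆ : Subgroup G) ≠ Nat.card V := fun e => h1.ne (eq_of_le_of_card_ge h1.le e.ge)
    have l2 : Nat.card (⁅⁅V, (⊤ : Subgroup G)⁆, (⊤ : Subgroup G)⁆ : Subgroup G) ≠ Nat.card (⁅V, (⊤ : Subgroup G)⁆ : Subgroup G) := fun e =>
      h3.ne (eq_of_le_of_card_ge h3.le e.ge)
    rw [hc] at c1 l1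
    obtain ⟨i, hi, e⟩ := (Nat.dvd_prime_pow hp.out).1 c1
    rw [e] at c2 l2 l1
    obtain ⟨j, hj, e'⟩ := (Nat.dvd_prime_pow hp.out).1 c2
    rw [e'] at l2
    have hi2 : i ≠ 2 := fun h => l1 (by rw [h])
    have hji : j ≠ i := fun h => l2 (by rw [h])
    have : j = 0 := by omega
    rw [this, pow_zero] at e'
    exact eq_bot_of_card_eq _ e'
  have hz : ⁅v, x⁆ ∈ ⁅V, (⊤ : Subgroup G)⁆ := commutator_mem_commutator hv (mem_top x)
  have hcomm : ∀ y : G, Commute y ⁅v, x⁆ := fun y => by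
    have := commutator_mem_commutator hz (mem_top y)
    rw [h2, mem_bot, commutatorElement_eq_one_iff_commute] at this
    exact this.symm
  rw [H3.mul_pow_class_two (hcomm x) (hcomm v), hV.2 v hv, mul_one]
  obtain ⟨k, hk⟩ : p ∣ p.choose 2 := hp.out.dvd_choose_self two_ne_zero
    (lt_of_le_of_ne hp.out.two_le (Ne.symm hodd))
  rw [hk, pow_mul, hV.2 _ (h1.le hz), one_pow, one_mul]

theorem miller_pgroup [Finite G] {p : ℕ} [hp : Fact p.Prime] (hodd : p ≠ 2) (hG : IsPGroup p G)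
    (hc : ¬ IsCyclic G) {s : ℕ} (hs : 1 < s) : p ^ s ∣ Nat.card {g : G | orderOf g = p ^ s} := by
  obtain ⟨V, hn, hV, hcard⟩ := Cfsg.Agent.S0126.result hodd hG hc
  obtain ⟨t, rfl⟩ : ∃ t, s = t + 2 := ⟨s - 2, by omega⟩
  have key : ∀ j : ℕ, ∀ x y : G, (x : G ⧸ V) = y → x ^ p ^ (j + 1) = 1 → y ^ p ^ (j + 1) = 1 := by
    intro j x y h hx
    have hv := QuotientGroup.eq.1 h
    have : y = x * (x⁻¹ * y) := by group
    rw [this, pow_succ', pow_mul, mul_pow_of_sq hodd hG V hV hcard _ _ hv, ← pow_mul, ← pow_succ', hx]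
  have hord : ∀ g : G, orderOf g = p ^ (t + 2) ↔ g ^ p ^ (t + 2) = 1 ∧ g ^ p ^ (t + 1) ≠ 1 := by
    intro g
    constructor
    · intro h
      refine ⟨h ▸ pow_orderOf_eq_one g, fun e => ?_⟩
      have := orderOf_dvd_of_pow_eq_one e
      rw [h, Nat.pow_dvd_pow_iff_le_right hp.out.one_lt] at this
      omega
    · exact fun h => orderOf_eq_prime_pow h.2 h.1
  let T : Set (G ⧸ V) := QuotientGroup.mk '' {g : G | orderOf g = p ^ (t + 2)}
  have hS : {g : G | orderOf g = p ^ (t + 2)} = QuotientGroup.mk ⁻¹' T := by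
    ext g
    refine ⟨fun h => ⟨g, h, rfl⟩, ?_⟩
    rintro ⟨x, hx, e⟩
    have hx := (hord x).1 hx
    exact (hord g).2 ⟨key _ x g e hx.1, fun h => hx.2 (key _ g x e.symm h)⟩
  have hpow : ∀ j : ℕ, ∀ x y : G, (y : G ⧸ V) ∈ zpowers (x : G ⧸ V) → x ^ p ^ (j + 1) = 1 →
      y ^ p ^ (j + 1) = 1 := by
    intro j x y h hx
    obtain ⟨k, hk⟩ := mem_zpowers_iff.1 h
    refine key j (x ^ k) y (by rw [QuotientGroup.mk_zpow, hk]) ?_
    rw [← zpow_natCast, ← zpow_mul, mul_comm, zpow_mul, zpow_natCast, hx, one_zpow]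
  rw [hS, QuotientGroup.card_preimage_mk, hcard, pow_add, mul_comm]
  refine Nat.mul_dvd_mul_left _ (gen_dvd T _ ?_ ?_)
  · rintro _ ⟨x, hx, rfl⟩
    have hx := (hord x).1 hx
    obtain ⟨k, hk⟩ := (hG.to_quotient V).exists_orderOf_eq_pow (x : G ⧸ V)
    have hkt : t + 1 ≤ k := by
      by_contra hlt
      apply hx.2
      have h1 : (x : G ⧸ V) ^ p ^ t = 1 :=
        orderOf_dvd_iff_pow_eq_one.1 (hk ▸ pow_dvd_pow p (by omega))
      rw [← QuotientGroup.mk_pow, QuotientGroup.eq_one_iff] at h1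
      rw [pow_succ, pow_mul, hV.2 _ h1]
    rw [hk, Nat.totient_prime_pow hp.out (by omega)]
    exact (pow_dvd_pow p (by omega)).mul_right _
  · rintro _ ⟨x, hx, rfl⟩ b hb
    obtain ⟨y, rfl⟩ := QuotientGroup.mk_surjective b
    have hx := (hord x).1 hx
    refine ⟨y, (hord y).2 ⟨hpow _ x y (hb ▸ mem_zpowers _) hx.1, fun h => hx.2 ?_⟩, rfl⟩
    exact hpow _ y x (hb ▸ mem_zpowers _) h

end H22
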