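import Cfsg.Agent.H22.PGLMax
import Cfsg.Agent.S3740

/-! Normalisers of four-groups of `PSL2 F` (`kp_pow12`, `kp_three`) and conjugacy of elements of order three (`conj_three`). -/

set_option autoImplicit false
set_option linter.unusedSectionVars false

namespace H22

open Matrix MulAction Subgroup H10
open scoped MatrixGroups

theorem kp_aut {G : Type*} [Group G] {x y : G} (h : KPair x y) (σ : MulAut G)
    (hx : σ x ∈ Subgroup.closure ({x, y} : Set G)) (hy : σ y ∈ Subgroup.closure ({x, y} : Set G)) :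
    (σ ^ 6) x = x ∧ (σ ^ 6) y = y := by
  have k := h.map (f := σ.toMonoidHom) σ.injective
  have k1 : σ x ≠ 1 := k.x1
  have k2 : σ y ≠ 1 := k.y1
  have k3 : σ x ≠ σ y := k.ne
  rcases h.mem_closure_iff.1 hx with a | a | a | a <;> rcases h.mem_closure_iff.1 hy with b | b | b | b <;>
    first
    | exact absurd a k1
    | exact absurd b k2
    | exact absurd (a.trans b.symm) k3
    | simp [pow_succ, a, b, mul_assoc, h.xx, h.yy, h.comm, h.xxy, h.yxg]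

variable {F : Type*} [Field F] [Fintype F]

theorem kp_sq (h2 : (2 : F) ≠ 0) {x y g : PGL(2, F)} (h : KPair x y) (hx : x ∈ PSL2 F) (hy : y ∈ PSL2 F)
    (a : g * x * g⁻¹ = x) (b : g * y * g⁻¹ = y) : g ^ 2 = 1 := by
  rcases Cfsg.Agent.S3740.kp_comm h2 h hx hy (mul_inv_eq_iff_eq_mul.1 a) (mul_inv_eq_iff_eq_mul.1 b) with e | e | e | e <;>
    rw [e, pow_two]
  exacts [one_mul 1, h.xx, h.yy, h.rot.yy]

theorem kp_pow12 (h2 : (2 : F) ≠ 0) {x y n : PGL(2, F)} (h : KPair x y) (hx : x ∈ PSL2 F) (hy : y ∈ PSL2 F)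
    (a : n * x * n⁻¹ ∈ Subgroup.closure ({x, y} : Set PGL(2, F)))
    (b : n * y * n⁻¹ ∈ Subgroup.closure ({x, y} : Set PGL(2, F))) : n ^ 12 = 1 := by
  obtain ⟨h1, h3⟩ := kp_aut h (MulAut.conj n) a b
  rw [← map_pow] at h1 h3
  rw [show 12 = 6 * 2 from rfl, pow_mul]
  exact kp_sq h2 h hx hy h1 h3

theorem kp_three (h2 : (2 : F) ≠ 0) {x y : PGL(2, F)} (h : KPair x y) (hx : x ∈ PSL2 F) (hy : y ∈ PSL2 F) :
    ∃ s ∈ PSL2 F, s ^ 3 = 1 ∧ s * x * s⁻¹ = x * y ∧ s * y * s⁻¹ = x := by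
  obtain ⟨t, h1, h3⟩ := kp_conj h2 h hx hy h.rot hy (mul_mem hx hy)
  have h4 : t * (x * y) * t⁻¹ = x := by rw [← conj_mul, h1, h3, h.yxg, h.yy, mul_one]
  refine ⟨t * t, sq_mem_PSL2 t, ?_, by rw [← h3, ← h1]; group, by rw [← h4, ← h3]; group⟩
  rw [← pow_two, ← pow_mul, mul_comm, pow_mul]
  have e : ∀ v, t ^ 3 * v * (t ^ 3)⁻¹ = t * (t * (t * v * t⁻¹) * t⁻¹) * t⁻¹ := fun v => by simp [pow_succ, mul_assoc]
  exact kp_sq h2 h hx hy (by rw [e, h1, h3, h4]) (by rw [e, h3, h4, h1])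

theorem conj_three (h3 : (3 : F) ≠ 0) {a b : PGL(2, F)} (ha : a ∈ PSL2 F) (a3 : a ^ 3 = 1) (a1 : a ≠ 1)
    (hb : b ∈ PSL2 F) (b3 : b ^ 3 = 1) (b1 : b ≠ 1) : ∃ t ∈ PSL2 F, t * a * t⁻¹ = b := by
  have key : ∀ a ∈ PSL2 F, a ^ 3 = 1 → a ≠ 1 → ∃ s : SL(2, F), (s : H24.M2 F).trace = 1 ∧ SpecialLinearGroup.toPGL s = a :=
    fun g hg g3 g1 => by
      obtain ⟨s, rfl⟩ := mem_PSL2_iff_exists.1 hg
      obtain ⟨a, b, c, d, hd, rfl⟩ := slMk_surj s
      rw [toPGL_slMk] at g3 g1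
      rcases sq_eq_one_iff.1 ((mob_pow_three _ g3 g1).trans hd) with e | e
      · exact ⟨_, by simpa [trace_fin_two_of] using e, rfl⟩
      · exact ⟨_, by rw [slMk_neg, slMk_val, trace_fin_two_of]; linear_combination -e, toPGL_neg _⟩
  obtain ⟨s, hs, rfl⟩ := key a ha a3 a1
  obtain ⟨r, hr, rfl⟩ := key b hb b3 b1
  obtain ⟨t, rfl⟩ := isConj_iff.1 (H24.isConj_SL_of_trace (g := s) (h := r)
    (by rw [hr]; exact fun e => h3 (by linear_combination -e)) (hs.trans hr.symm))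
  exact ⟨_, mem_PSL2_iff_exists.2 ⟨t, rfl⟩, by simp⟩

end H22
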