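import Cfsg.Agent.H10.Klein

/-! Tori of `PGL(2,F)`: stabilisers `PairSt x y` of two points of `PL F` fixed by a non-identity element (`Tor`,
`tor_of_fix`), their intersections with `PSL2 F` (`Tor.dih`), `pair_cases` for groups with a fixed point or an orbit of
length two. -/

set_option autoImplicit false
set_option linter.unusedSectionVars false

namespace H22

open Matrix MulAction Subgroup H10 OnePoint
open scoped MatrixGroups

variable {F : Type*} [Field F]

/-- The stabiliser of the set `{x, y}`. -/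
def PairSt (x y : PL F) : Subgroup PGL(2, F) where
  carrier := {g | (g • x = x ∧ g • y = y) ∨ (g • x = y ∧ g • y = x)}
  one_mem' := Or.inl ⟨one_smul _ _, one_smul _ _⟩
  mul_mem' := by
    rintro a b (⟨h1, h2⟩ | ⟨h1, h2⟩) (⟨h3, h4⟩ | ⟨h3, h4⟩) <;> simp [mul_smul, h1, h2, h3, h4]
  inv_mem' := by
    rintro a (⟨h1, h2⟩ | ⟨h1, h2⟩)
    · exact Or.inl ⟨inv_smul_eq_iff.2 h1.symm, inv_smul_eq_iff.2 h2.symm⟩
    · exact Or.inr ⟨inv_smul_eq_iff.2 h2.symm, inv_smul_eq_iff.2 h1.symm⟩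

theorem mem_PairSt {x y : PL F} {g : PGL(2, F)} :
    g ∈ PairSt x y ↔ (g • x = x ∧ g • y = y) ∨ (g • x = y ∧ g • y = x) := Iff.rfl

/-- The pointwise stabiliser of `x`, `y`. -/
noncomputable abbrev TorSt (x y : PL F) : Subgroup PGL(2, F) := stabilizer PGL(2, F) x ⊓ stabilizer PGL(2, F) y

structure Tor (x y : PL F) (n : ℕ) : Prop where
  ne : x ≠ y
  card : Nat.card (TorSt x y) = n
  swap : ∃ t : PGL(2, F), t • x = y ∧ t • y = x

theorem Tor.symm {x y : PL F} {n : ℕ} (h : Tor x y n) : Tor y x n :=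
  ⟨h.ne.symm, by rw [TorSt, inf_comm]; exact h.card, h.swap.imp fun _ a => a.symm⟩

theorem Tor.smul {x y : PL F} {n : ℕ} (h : Tor x y n) (g : PGL(2, F)) : Tor (g • x) (g • y) n := by
  refine ⟨fun e => h.ne (smul_left_cancel g e), ?_, ?_⟩
  · rw [← h.card]
    refine (Nat.card_congr (Equiv.subtypeEquiv (MulAut.conj g).toEquiv fun a => ?_)).symm
    simp [mem_inf, mem_stabilizer_iff, mul_smul]
  · obtain ⟨t, h1, h2⟩ := h.swap
    exact ⟨g * t * g⁻¹, by simp [mul_smul, h1], by simp [mul_smul, h2]⟩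

theorem tor_rat [Fintype F] {x y : OnePoint F} (hxy : x ≠ y) : Tor (PL.of x) (PL.of y) (Fintype.card F - 1) := by
  classical
  obtain ⟨g, -, rfl, rfl⟩ := exists_smul_two hxy
  rw [PL.of_smul, PL.of_smul]
  refine Tor.smul ⟨fun e => infty_ne_coe _ (PL.of_injective e), ?_, mob 0 1 1 0 (by simp), ?_, ?_⟩ g
  · rw [← Nat.card_eq_fintype_card, ← Nat.card_units]
    refine (Nat.card_congr (Equiv.ofBijective (fun u : Fˣ => (⟨aff (u : F) u.ne_zero 0, ?_⟩ : TorSt _ _)) ⟨?_, ?_⟩)).symm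
    · simp [mem_inf, mem_stabilizer_iff, PL.smul_of_eq_iff]
    · intro u v e
      exact Units.ext ((aff_inj (ha := u.ne_zero) (ha' := v.ne_zero)).1 (congrArg Subtype.val e)).1
    · rintro ⟨s, h1, h2⟩
      obtain ⟨a, ha, b, rfl⟩ := exists_aff_of_smul_infty ((PL.smul_of_eq_iff _ _ _).1 h1)
      obtain rfl : b = 0 := by simpa using (PL.smul_of_eq_iff _ _ _).1 h2
      exact ⟨Units.mk0 a ha, rfl⟩
  · rw [PL.smul_of_eq_iff, mob_smul_infty_eq_coe_iff]; simp
  · rw [PL.smul_of_eq_iff, mob_smul_coe_eq_infty_iff]; simp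

/-- A finite point of `PL F`. -/
def pt (z : AlgebraicClosure F) : PL F := (z : OnePoint (AlgebraicClosure F))

local notation "φ" => algebraMap F (AlgebraicClosure F)

theorem mob_smul_pt {a b c d : F} (h : a * d - b * c ≠ 0) (z w : AlgebraicClosure F) :
    mob a b c d h • pt z = pt w ↔ φ a * z + φ b = w * (φ c * z + φ d) := by
  let := Classical.decEq (AlgebraicClosure F)
  change ProjGenLinGroup.map φ (mob a b c d h) • (z : OnePoint (AlgebraicClosure F)) = (w : OnePoint _) ↔ _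
  rw [map_mob, mob_smul_coe_eq_coe_iff]

theorem PL_cases (x : PL F) : (∃ r, x = PL.of r) ∨ ∃ z, x = pt z ∧ ∀ r, φ r ≠ z := by
  cases x with
  | none => exact Or.inl ⟨∞, rfl⟩
  | some z =>
    by_cases h : ∃ r, φ r = z
    · obtain ⟨r, rfl⟩ := h
      exact Or.inl ⟨r, rfl⟩
    · exact Or.inr ⟨z, rfl, fun r e => h ⟨r, e⟩⟩

theorem pt_ne_of {z : AlgebraicClosure F} (hz : ∀ r, φ r ≠ z) (r : OnePoint F) : pt z ≠ PL.of r := by
  cases r with
  | infty => exact coe_ne_infty z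
  | coe r => exact fun e => hz r (OnePoint.coe_eq_coe.1 e).symm

theorem indep {z : AlgebraicClosure F} (hz : ∀ r, φ r ≠ z) {u v : F} (h : φ u * z + φ v = 0) : u = 0 ∧ v = 0 := by
  by_cases hu : u = 0
  · subst hu
    exact ⟨rfl, by simpa using h⟩
  · refine absurd ?_ (hz (-v / u))
    have : φ u ≠ 0 := by simpa using hu
    rw [map_div₀, map_neg, div_eq_iff this]
    linear_combination -h

theorem tor_nonrat [Fintype F] {z : AlgebraicClosure F} (hz : ∀ r, φ r ≠ z) {g : PGL(2, F)} (g1 : g ≠ 1)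
    (hg : g • pt z = pt z) : ∃ y, Tor (pt z) y (Fintype.card F + 1) ∧ ∀ s : PGL(2, F), s • pt z = pt z → s • y = y := by
  classical
  obtain ⟨s, n, hq⟩ : ∃ s n : F, z ^ 2 = φ s * z - φ n := by
    obtain ⟨a, b, c, d, h, rfl⟩ := mob_surj g
    rw [mob_smul_pt] at hg
    by_cases hc : c = 0
    · subst hc
      obtain ⟨h1, h2⟩ := indep hz (u := a - d) (v := b) (by rw [map_sub]; simp at hg; linear_combination hg)
      exact absurd ((mob_eq_one_iff h).2 ⟨h2, rfl, sub_eq_zero.1 h1⟩) g1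
    · have : φ c ≠ 0 := by simpa using hc
      refine ⟨(a - d) / c, -b / c, ?_⟩
      rw [map_div₀, map_div₀, map_sub, map_neg]
      field_simp
      linear_combination -hg
  have hfix : ∀ t : PGL(2, F), t • pt z = pt z → t • pt (φ s - z) = pt (φ s - z) := fun t ht => by
    obtain ⟨a, b, c, d, h, rfl⟩ := mob_surj t
    rw [mob_smul_pt] at ht ⊢
    obtain ⟨h1, h2⟩ := indep hz (u := c * s + d - a) (v := -(c * n) - b) (by
      simp only [map_sub, map_add, map_mul, map_neg]; linear_combination -ht - φ c * hq)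
    obtain rfl : a = c * s + d := by linear_combination -h1
    obtain rfl : b = -(c * n) := by linear_combination -h2
    simp only [map_add, map_mul, map_neg]
    linear_combination -(φ c) * hq
  have hy : ∀ r, φ r ≠ φ s - z := fun r e => hz (s - r) (by rw [map_sub, e]; ring)
  have hne : pt z ≠ pt (φ s - z) := fun e => by
    have e1 : z = φ s - z := OnePoint.coe_eq_coe.1 e
    obtain ⟨h1, rfl⟩ := indep hz (u := 2) (v := -s) (by rw [map_neg, map_ofNat]; linear_combination e1) |>.imp id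
      neg_eq_zero.1
    obtain ⟨m, hm⟩ := FiniteField.isSquare_of_char_two (F := F)
      (ringChar.eq F 2 (C := (CharP.charP_iff_prime_eq_zero Nat.prime_two).2 h1)) (-n)
    have h2 : (2 : AlgebraicClosure F) = 0 := by rw [← map_ofNat φ, h1, map_zero]
    have h3 : φ n = -(φ m * φ m) := by rw [← map_mul, ← hm, map_neg, neg_neg]
    refine hz m (sub_eq_zero.1 (pow_eq_zero_iff two_ne_zero |>.1 ?_))
    rw [h3, map_zero] at hq
    linear_combination hq + (φ m * φ m - φ m * z) * h2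
  refine ⟨pt (φ s - z), ⟨hne, ?_, mob (-1) s 0 1 (by simp), ?_, ?_⟩, hfix⟩
  · have : Nat.card (OnePoint F) = Fintype.card F + 1 := by
      rw [← Nat.card_eq_fintype_card]; exact Finite.card_option
    rw [← this]
    refine Nat.card_congr (Equiv.ofBijective (fun t : TorSt _ _ => (t : PGL(2, F)) • (∞ : OnePoint F)) ⟨?_, ?_⟩)
    · rintro ⟨a, a1, a2⟩ ⟨b, b1, b2⟩ e
      have := (p1Like_PL F).fix_three (g := b⁻¹ * a) hne (pt_ne_of hz ∞) (pt_ne_of hy ∞)
        ((stabilizer _ _).mul_mem ((stabilizer _ _).inv_mem b1) a1)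
        ((stabilizer _ _).mul_mem ((stabilizer _ _).inv_mem b2) a2) (by
          rw [PL.smul_of_eq_iff, mul_smul, inv_smul_eq_iff]; exact e)
      exact Subtype.ext (inv_mul_eq_one.1 this).symm
    · intro r
      cases r with
      | infty => exact ⟨1, one_smul _ _⟩
      | coe a =>
        have hd : a * (a - s) - -n * 1 ≠ 0 := fun e => by
          have e1 := congrArg φ e
          simp only [map_sub, map_mul, map_neg, map_one, map_zero] at e1
          have : (z - φ a) * (z - φ (s - a)) = 0 := by rw [map_sub]; linear_combination hq - e1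
          rcases mul_eq_zero.1 this with h | h <;> exact hz _ (sub_eq_zero.1 h).symm
        have h1 : mob a (-n) 1 (a - s) hd • pt z = pt z := by
          rw [mob_smul_pt]; simp only [map_sub, map_neg, map_one]; linear_combination -hq
        exact ⟨⟨_, h1, hfix _ h1⟩, (mob_smul_infty_eq_coe_iff hd a).2 (mul_one a).symm⟩
  · rw [mob_smul_pt]; simp; ring
  · rw [mob_smul_pt]; simp

variable [Fintype F]

theorem tor_of_fix {x y : PL F} (hxy : x ≠ y) {g : PGL(2, F)} (g1 : g ≠ 1) (hx : g • x = x) (hy : g • y = y) :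
    Tor x y (Fintype.card F - 1) ∨ Tor x y (Fintype.card F + 1) := by
  have key : ∀ {z : AlgebraicClosure F} {y : PL F}, (∀ r, φ r ≠ z) → pt z ≠ y → g • pt z = pt z → g • y = y →
      Tor (pt z) y (Fintype.card F + 1) := fun {z y} hz h1 h2 h3 => by
    obtain ⟨w, hw, h4⟩ := tor_nonrat hz g1 h2
    by_cases e : y = w
    · rwa [e]
    · exact absurd ((p1Like_PL F).fix_three h1 hw.ne e h2 h3 (h4 g h2)) g1
  rcases PL_cases x with ⟨r, rfl⟩ | ⟨z, rfl, hz⟩
  · rcases PL_cases y with ⟨r', rfl⟩ | ⟨z, rfl, hz⟩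
    · exact Or.inl (tor_rat fun e => hxy (by rw [e]))
    · exact Or.inr (key hz hxy.symm hy hx).symm
  · exact Or.inr (key hz hxy hx hy)

/-- A group with a fixed point or an orbit of length two fixes a rational point or stabilises a torus. -/
theorem pair_cases [DecidableEq F] {H : Subgroup PGL(2, F)}
    (h : (∃ x : PL F, ∀ g ∈ H, g • x = x) ∨ (∃ x : PL F, Nat.card (orbit H x) = 2)) :
    (∃ x : OnePoint F, H ≤ stabilizer PGL(2, F) x) ∨
      ∃ x y : PL F, (Tor x y (Fintype.card F - 1) ∨ Tor x y (Fintype.card F + 1)) ∧ H ≤ PairSt x y := by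
  have key : ∀ x : PL F, (∀ g ∈ H, g • x = x) → (∃ x : OnePoint F, H ≤ stabilizer PGL(2, F) x) ∨
      ∃ x y : PL F, (Tor x y (Fintype.card F - 1) ∨ Tor x y (Fintype.card F + 1)) ∧ H ≤ PairSt x y := fun x hx => by
    rcases PL_cases x with ⟨r, rfl⟩ | ⟨z, rfl, hz⟩
    · exact Or.inl ⟨r, fun g hg => (PL.smul_of_eq_iff g r r).1 (hx g hg)⟩
    by_cases hH : H = ⊥
    · exact Or.inl ⟨∞, hH ▸ bot_le⟩
    obtain ⟨⟨g, hg⟩, g1⟩ := ne_bot_iff_exists_ne_one.1 hH
    obtain ⟨y, hy, h1⟩ := tor_nonrat hz (g := g) (fun e => g1 (Subtype.ext e)) (hx g hg)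
    exact Or.inr ⟨_, y, Or.inr hy, fun s hs => Or.inl ⟨hx s hs, h1 s (hx s hs)⟩⟩
  rcases h with ⟨x, hx⟩ | ⟨x, hx⟩
  · exact key x hx
  obtain ⟨y, hy, h1, h2⟩ := (p1Like_sub H).exists_swap_of_card_orbit hx
  have hle : H ≤ PairSt x y := fun g hg => by
    by_cases e : (⟨g, hg⟩ : H) ∈ stabilizer H x
    · exact Or.inl ⟨e, h1 e⟩
    · exact Or.inr (h2 _ e)
  by_cases hs : ∃ g ∈ H, g ≠ 1 ∧ g • x = x
  · obtain ⟨g, hg, g1, hgx⟩ := hs
    exact Or.inr ⟨x, y, tor_of_fix hy.symm g1 hgx (h1 (show (⟨g, hg⟩ : H) ∈ stabilizer H x from hgx)), hle⟩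
  · push Not at hs
    by_cases hH : H = ⊥
    · exact Or.inl ⟨∞, hH ▸ bot_le⟩
    obtain ⟨⟨t, ht⟩, t1⟩ := ne_bot_iff_exists_ne_one.1 hH
    obtain ⟨w, hw⟩ := (p1Like_PL F).fix_exists t
    refine key w fun g hg => ?_
    by_cases g1 : g = 1
    · rw [g1, one_smul]
    have a1 := (hle hg).resolve_left fun e => hs g hg g1 e.1
    have a2 := (hle ht).resolve_left fun e => hs t ht (fun e => t1 (Subtype.ext e)) e.1
    have : t⁻¹ * g = 1 := by_contra fun e => hs _ (mul_mem (inv_mem ht) hg) e (by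
      rw [mul_smul, a1.1, inv_smul_eq_iff, a2.1])
    rwa [← inv_mul_eq_one.1 this]

theorem sq_mem_PSL2 {K : Type*} [Field K] (g : PGL(2, K)) : g * g ∈ PSL2 K := by
  obtain ⟨a, b, c, d, h, rfl⟩ := mob_surj g
  rw [mob_mul, mob_mem_PSL2_iff]
  exact ⟨a * d - b * c, by ring⟩

theorem card_L_odd (h : Odd (Fintype.card F)) :
    2 * Nat.card (PSL2 F) = Fintype.card F * (Fintype.card F - 1) * (Fintype.card F + 1) := by
  rw [← card_PSL2', Nat.gcd_eq_left (by have := Nat.odd_iff.1 h; omega)]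

theorem index_L_odd (h : Odd (Fintype.card F)) : (PSL2 F).index = 2 := by
  have h1 := (PSL2 F).index_mul_card
  rw [card_PGL2, ← card_L_odd h] at h1
  exact Nat.eq_of_mul_eq_mul_right Nat.card_pos h1

theorem L_eq_top (h : Even (Fintype.card F)) : PSL2 F = ⊤ := by
  have := Fintype.one_lt_card (α := F)
  refine eq_top_of_card_eq _ ?_
  rw [card_PGL2, ← card_PSL2', Nat.Coprime.gcd_eq_one, one_mul]
  rw [Nat.coprime_two_left, Nat.odd_iff]
  have := Nat.even_iff.1 h
  omega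

namespace Tor
variable {x y : PL F} {n : ℕ} (h : Tor x y n)
include h

theorem cyc : IsCyclic (TorSt x y) :=
  (p1Like_PL F).isCyclic_of_inf_Uni (x := x) inf_le_left fun _ ha hU => by_contra fun e =>
    h.ne ((p1Like_PL F).eq_of_mem_Uni hU e ha.2).symm

theorem dih {X : Subgroup PGL(2, F)} {t : PGL(2, F)} (ht : t ∈ X) (h1 : t • x = y) (h2 : t • y = x) :
    Nonempty ((PairSt x y ⊓ X : Subgroup _) ≃* DihedralGroup (Nat.card (TorSt x y ⊓ X : Subgroup _))) := by
  have hle : TorSt x y ⊓ X ≤ PairSt x y ⊓ X := fun g hg => ⟨Or.inl hg.1, hg.2⟩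
  have e := subgroupOfEquivOfLe hle
  have := h.cyc
  have : IsCyclic (TorSt x y ⊓ X : Subgroup _) := isCyclic_of_le inf_le_left
  have : IsCyclic ((TorSt x y ⊓ X).subgroupOf (PairSt x y ⊓ X)) := isCyclic_of_surjective e.symm e.symm.surjective
  rw [← Nat.card_congr e.toEquiv]
  refine equiv_dihedral_of_index_two _ ?_ ?_
  · refine index_eq_two_iff_exists_notMem_and.2 ⟨⟨t, Or.inr ⟨h1, h2⟩, ht⟩, fun e => h.ne (e.1.1.symm.trans h1), ?_⟩
    rintro ⟨b, hb | hb, hbX⟩
    · exact Or.inr ⟨hb, hbX⟩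
    · refine Or.inl ⟨⟨?_, ?_⟩, mul_mem hbX ht⟩
      · change (b * t) • x = x
        rw [mul_smul, h1, hb.2]
      · change (b * t) • y = y
        rw [mul_smul, h2, hb.1]
  · rintro ⟨b, hb | hb, hbX⟩ hn
    · exact absurd ⟨hb, hbX⟩ hn
    · exact Subtype.ext ((p1Like_PL F).swap h.ne hb.1 hb.2)

theorem dih_top : Nonempty (PairSt x y ≃* DihedralGroup n) := by
  obtain ⟨t, h1, h2⟩ := h.swap
  have := h.dih (mem_top t) h1 h2
  rwa [inf_top_eq, inf_top_eq, h.card] at this

theorem card_pair : Nat.card (PairSt x y) = 2 * n := by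
  rw [Nat.card_congr h.dih_top.some.toEquiv, DihedralGroup.nat_card]

theorem not_le (hq : 4 ≤ Fintype.card F) (hn : n ≤ Fintype.card F + 1) : ¬ PSL2 F ≤ PairSt x y := fun hl => by
  have h1 := card_le_of_le hl
  have h2 := card_PSL2' (F := F)
  have h3 : Nat.gcd 2 (Fintype.card F - 1) ≤ 2 := Nat.gcd_le_left _ two_pos
  rw [h.card_pair] at h1
  obtain ⟨k, hk⟩ : ∃ k, Fintype.card F = k + 1 := ⟨Fintype.card F - 1, by omega⟩
  rw [hk] at h2 hn hq
  rw [hk, Nat.add_sub_cancel] at h3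
  rw [Nat.add_sub_cancel] at h2
  have h4 := Nat.mul_le_mul h3 (h1.trans (Nat.mul_le_mul_left 2 hn))
  rw [h2] at h4
  have : (k + 1) * k ≤ 4 := Nat.le_of_mul_le_mul_right (c := k + 1 + 1) (by linarith) (by omega)
  nlinarith

theorem exists_notMem (ho : Odd (Fintype.card F)) (hq : 4 ≤ Fintype.card F)
    (hn : n = Fintype.card F - 1 ∨ n = Fintype.card F + 1) : ∃ g ∈ TorSt x y, g ∉ PSL2 F := by
  obtain ⟨p, hp⟩ := CharP.exists F
  have : Fact p.Prime := ⟨CharP.char_is_prime F p⟩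
  obtain ⟨g, hg⟩ := h.cyc.exists_generator
  have h1 : orderOf (g : PGL(2, F)) = n := by
    rw [orderOf_coe, orderOf_eq_card_of_forall_mem_zpowers hg, h.card]
  refine ⟨g, g.2, fun hL => ?_⟩
  have h2 := Nat.odd_iff.1 ho
  have h3 := orderOf_PSL2_dvd p hL
  rw [h1, Nat.gcd_eq_left (by omega)] at h3
  rcases h3 with h3 | h3 | h3
  · have h4 := ((Nat.dvd_prime this.out).1 h3).resolve_left (by omega)
    have := this.out.eq_two_or_odd
    omega
  · have := Nat.le_of_dvd (by omega) h3; omega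
  · have := Nat.le_of_dvd (by omega) h3; omega

theorem odd (ho : Odd (Fintype.card F)) (hq : 4 ≤ Fintype.card F)
    (hn : n = Fintype.card F - 1 ∨ n = Fintype.card F + 1) :
    2 * Nat.card (TorSt x y ⊓ PSL2 F : Subgroup _) = n ∧ ∃ t ∈ PSL2 F, t • x = y ∧ t • y = x := by
  obtain ⟨g, hg, hL⟩ := h.exists_notMem ho hq hn
  have hi := index_L_odd ho
  constructor
  · have h1 : (PSL2 F).relIndex (TorSt x y) = 2 := by
      have := (Nat.dvd_prime Nat.prime_two).1 (hi ▸ relIndex_dvd_index_of_normal (PSL2 F) (TorSt x y))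
      exact this.resolve_left fun e => hL (relIndex_eq_one.1 e hg)
    have h2 := ((PSL2 F).subgroupOf (TorSt x y)).index_mul_card
    rwa [show ((PSL2 F).subgroupOf (TorSt x y)).index = _ from h1, ← inf_subgroupOf_left,
      Nat.card_congr (subgroupOfEquivOfLe inf_le_left).toEquiv, h.card] at h2
  · obtain ⟨t, h1, h2⟩ := h.swap
    by_cases ht : t ∈ PSL2 F
    · exact ⟨t, ht, h1, h2⟩
    · exact ⟨t * g, (mul_mem_iff_of_index_two hi).2 (iff_of_false ht hL), by rw [mul_smul, hg.1, h1],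
        by rw [mul_smul, hg.2, h2]⟩

end Tor

end H22
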