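import Mathlib.GroupTheory.Sylow
import Cfsg.Agent.H1.Fitting
import Mathlib.Combinatorics.Enumerative.DoubleCounting

/-! Frobenius' theorem on the number of subgroups of order `p ^ s` (`card_normal_modEq`, `card_sub_modEq`). -/

set_option autoImplicit false

namespace H22

open Subgroup Finset

universe u

theorem card_cen_ord {G : Type*} [Group G] [Finite G] {p : ℕ} [hp : Fact p.Prime] (hG : IsPGroup p G) (N : Subgroup G)
    [N.Normal] (h : N ≠ ⊥) : (({z | (z ∈ center G ∧ orderOf z = p) ∧ z ∈ N}.ncard : ℕ) : ZMod p) = -1 := by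
  let W : Subgroup G :=
    { carrier := {z | (z ∈ center G ∧ z ^ p = 1) ∧ z ∈ N}
      mul_mem' := fun {a b} ha hb => ⟨⟨mul_mem ha.1.1 hb.1.1, by
        rw [(show Commute a b from mem_center_iff.1 hb.1.1 a).mul_pow, ha.1.2, hb.1.2, mul_one]⟩, mul_mem ha.2 hb.2⟩
      one_mem' := ⟨⟨one_mem _, one_pow _⟩, one_mem _⟩
      inv_mem' := fun ha => ⟨⟨inv_mem ha.1.1, by rw [inv_pow, ha.1.2, inv_one]⟩, inv_mem ha.2⟩ }
  have e : {z | (z ∈ center G ∧ orderOf z = p) ∧ z ∈ N} = (W : Set G) \ {1} := by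
    ext z
    exact ⟨fun ⟨⟨a, b⟩, c⟩ => ⟨⟨⟨a, b ▸ pow_orderOf_eq_one z⟩, c⟩, fun j => hp.out.ne_one (by rw [← b, j, orderOf_one])⟩,
      fun ⟨⟨⟨a, b⟩, c⟩, d⟩ => ⟨⟨a, orderOf_eq_prime b d⟩, c⟩⟩
  have := hG.isNilpotent
  obtain ⟨k, hk⟩ := (hG.to_subgroup (center G ⊓ N)).exists_card_eq
  obtain ⟨⟨z, hz⟩, o⟩ := exists_prime_orderOf_dvd_card' (G := ↥(center G ⊓ N)) p (hk ▸ dvd_pow_self p fun j =>
    H1.normal_inf_center_ne_bot N h (inf_comm N _ ▸ card_eq_one.1 (by rw [hk, j, pow_zero])))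
  rw [← orderOf_coe] at o
  have d : p ∣ Nat.card W := o ▸ W.orderOf_dvd_natCard ⟨⟨hz.1, o ▸ pow_orderOf_eq_one z⟩, hz.2⟩
  rw [e, eq_neg_iff_add_eq_zero, ← Nat.cast_add_one, Set.ncard_sdiff_singleton_add_one W.one_mem]
  exact (ZMod.natCast_eq_zero_iff _ _).2 d

theorem card_normal_modEq {p : ℕ} [hp : Fact p.Prime] (s : ℕ) : ∀ (G : Type u) [Group G] [Finite G], IsPGroup p G →
    p ^ s ∣ Nat.card G → (({H : Subgroup G | H.Normal ∧ Nat.card H = p ^ s}.ncard : ℕ) : ZMod p) = 1 := by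
  induction s with
  | zero =>
    intro G _ _ _ _
    rw [show {H : Subgroup G | H.Normal ∧ Nat.card H = p ^ 0} = {⊥} from Set.ext fun H =>
      ⟨fun h => card_eq_one.1 h.2, by rintro rfl; exact ⟨inferInstance, card_bot⟩⟩]; simp
  | succ s ih =>
  intro G _ _ hG hd
  classical
  have h1 : 1 < p ^ (s + 1) := Nat.one_lt_pow s.succ_ne_zero hp.out.one_lt
  have := Fintype.ofFinite G
  have := Fintype.ofFinite (Subgroup G)
  have k := congrArg (Nat.cast (R := ZMod p)) (sum_card_bipartiteAbove_eq_sum_card_bipartiteBelow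
    (s := univ.filter fun H : Subgroup G => H.Normal ∧ Nat.card H = p ^ (s + 1))
    (t := univ.filter fun z : G => z ∈ center G ∧ orderOf z = p) fun H z => z ∈ H)
  rw [Nat.cast_sum, Nat.cast_sum, sum_congr rfl (g := fun _ => -1), eq_comm, sum_congr rfl (g := fun _ => 1)] at k
  · have e := card_cen_ord hG ⊤ fun j => by
      rw [← card_top, j, card_bot, Nat.dvd_one] at hd; omega
    simp only [mem_top, and_true, Set.ncard_eq_toFinset_card', Set.toFinset_ofPred] at e ⊢
    simpa [e] using k.symm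
  · intro z hz
    obtain ⟨z1, z2⟩ := (mem_filter.1 hz).2
    have n : (zpowers z).Normal := ⟨fun a ha g => by
      rwa [mem_center_iff.1 (zpowers_le.2 z1 ha) g, mul_inv_cancel_right]⟩
    have c : ∀ K : Subgroup (G ⧸ zpowers z), Nat.card (K.comap (QuotientGroup.mk' _)) = Nat.card K * p := fun K => by
      rw [← z2, ← Nat.card_zpowers, mul_comm]
      exact (Nat.card_congr (QuotientGroup.preimageMkEquivSubgroupProdSet _ (K : Set (G ⧸ zpowers z)))).trans (Nat.card_prod _ _)
    rw [← ih (G ⧸ zpowers z) (hG.to_quotient _) (Nat.dvd_of_mul_dvd_mul_right hp.out.pos (by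
      rwa [← pow_succ, ← card_top (G := G ⧸ _), ← c, comap_top, card_top])), ← Set.ncard_coe_finset]
    congr 1
    refine (Set.ncard_congr (fun (K : Subgroup (G ⧸ zpowers z)) _ => K.comap (QuotientGroup.mk' _)) (fun K hK => ?_)
      (fun _ _ _ _ e => comap_injective (QuotientGroup.mk'_surjective _) e) fun H hH => ?_).symm
    · simp only [coe_filter, bipartiteBelow, mem_filter, mem_univ, true_and, Set.mem_ofPred_eq]
      exact ⟨⟨hK.1.comap _, by rw [c, hK.2, pow_succ]⟩, mem_comap.2 (by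
        rw [QuotientGroup.mk'_apply, (QuotientGroup.eq_one_iff z).2 (mem_zpowers z)]; exact one_mem _)⟩
    simp only [coe_filter, bipartiteBelow, mem_filter, mem_univ, true_and, Set.mem_ofPred_eq] at hH
    have e : (H.map (QuotientGroup.mk' (zpowers z))).comap _ = H :=
      comap_map_eq_self (by rw [QuotientGroup.ker_mk']; exact zpowers_le.2 hH.2)
    exact ⟨_, ⟨hH.1.1.map _ (QuotientGroup.mk'_surjective _), Nat.eq_of_mul_eq_mul_right hp.out.pos
      (by rw [← c, e, hH.1.2, pow_succ])⟩, e⟩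
  intro H hH
  obtain ⟨_, h2⟩ := (mem_filter.1 hH).2
  rw [← card_cen_ord hG H fun j => by rw [j, card_bot] at h2; omega, ← Set.ncard_coe_finset]
  congr 2
  ext z; simp [bipartiteAbove]

theorem card_sub_modEq {G : Type u} [Group G] [Finite G] {p s : ℕ} [hp : Fact p.Prime] (hd : p ^ s ∣ Nat.card G) :
    Nat.card {H : Subgroup G // Nat.card H = p ^ s} ≡ 1 [MOD p] := by
  obtain ⟨P⟩ : Nonempty (Sylow p G) := inferInstance
  let : MulAction P {H : Subgroup G // Nat.card H = p ^ s} :=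
    { smul := fun g H => ⟨H.1.map (MulAut.conj (g : G)).toMonoidHom,
        (card_map_of_injective (MulAut.conj (g : G)).injective).trans H.2⟩
      one_smul := fun H => Subtype.ext (show H.1.map _ = _ by simp; exact map_id _)
      mul_smul := fun a b H => Subtype.ext (show H.1.map _ = (H.1.map _).map _ by rw [Subgroup.map_map]; simp; rfl) }
  refine (P.isPGroup'.card_modEq_card_fixedPoints _).trans ((ZMod.natCast_eq_natCast_iff _ _ _).1 ?_)
  rw [Nat.cast_one, ← card_normal_modEq s P P.isPGroup' (P.pow_dvd_card_of_pow_dvd_card hd), ← Nat.card_coe_set_eq]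
  congr 1
  have le : ∀ H : MulAction.fixedPoints P {H : Subgroup G // Nat.card H = p ^ s},
      (P : Subgroup G) ≤ normalizer H.1.1 := fun H g hg =>
    mem_normalizer_iff_map_conj_eq.2 (congrArg Subtype.val (H.2 ⟨g, hg⟩))
  have le' : ∀ H : MulAction.fixedPoints P {H : Subgroup G // Nat.card H = p ^ s}, H.1.1 ≤ P := fun H =>
    le_sup_right.trans (P.is_maximal' (P.isPGroup'.to_sup_of_normal_right' (IsPGroup.of_card H.1.2) (le H)) le_sup_left).le
  refine Nat.card_congr (Equiv.ofBijective (fun H => ⟨H.1.1.subgroupOf P, normal_subgroupOf_of_le_normalizer (le H),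
    (Nat.card_congr (subgroupOfEquivOfLe (le' H)).toEquiv).trans H.1.2⟩) ⟨fun H K e => Subtype.ext (Subtype.ext ?_), ?_⟩)
  · have := congrArg (map (P : Subgroup G).subtype) (congrArg Subtype.val e)
    rwa [map_subgroupOf_eq_of_le (le' H), map_subgroupOf_eq_of_le (le' K)] at this
  rintro ⟨K, h1, h2⟩
  exact ⟨⟨⟨K.map (P : Subgroup G).subtype, (Subgroup.card_subtype _ _).trans h2⟩, fun g => Subtype.ext
    (mem_normalizer_iff_map_conj_eq.1 (le_normalizer_map _ ⟨g, le_normalizer_of_normal (H := K) (K := ⊤) trivial, rfl⟩))⟩,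
    Subtype.ext (comap_map_eq_self_of_injective (subtype_injective _) _)⟩

end H22
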